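import Cfsg.Agent.Lib.ExtFieldMax.Small
import Cfsg.Agent.Lib.TransvMax.Basic

/-!
The normaliser of a prime degree field of matrices is maximal in the special and general
linear groups.
-/

set_option autoImplicit false

namespace Cfsg.Agent.ExtFieldMax

open scoped Matrix MatrixGroups
open Module

variable {F : Type*} [Field F] [Fintype F] {n r : ℕ}

/-- The facts about the normaliser needed for maximality. -/
structure NormFacts (K : Subalgebra F (Matrix (Fin n) (Fin n) F)) : Prop where
  top_of : ∀ M : Subgroup (GL (Fin n) F),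
    Cfsg.Geo.subalgebraNormalizer K ⊓ Cfsg.Geo.specialLinear (Fin n) F ≤ M →
      (∃ g ∈ M, g ∉ Cfsg.Geo.subalgebraNormalizer K) → Cfsg.Geo.specialLinear (Fin n) F ≤ M
  sl_not_le : ¬ Cfsg.Geo.specialLinear (Fin n) F ≤ Cfsg.Geo.subalgebraNormalizer K
  det_surj : ∀ a : Fˣ, ∃ g ∈ Cfsg.Geo.subalgebraNormalizer K, Matrix.GeneralLinearGroup.det g = a

theorem normFacts_of {L : Type*} [Field L] [Finite L] [Algebra F L] (hr : r.Prime) (hrn : r ∣ n) (hlt : r < n)
    (hL : finrank F L = r)
    (ρ : L →ₐ[F] Matrix (Fin n) (Fin n) F) (K : Subalgebra F (Matrix (Fin n) (Fin n) F))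
    (hρ : ∀ x, x ∈ K ↔ ∃ l, ρ l = x) : NormFacts K := by
  classical
  haveI : Finite K := inferInstance
  haveI : NeZero n := ⟨by omega⟩
  letI : Module L (Fin n → F) :=
    Module.compHom (Fin n → F) ((Matrix.toLinAlgEquiv' (R := F) (n := Fin n)).toAlgHom.toRingHom.comp ρ.toRingHom)
  have hsmul : ∀ (k : L) (x : Fin n → F), k • x = ρ k *ᵥ x := fun k x => rfl
  haveI : IsScalarTower F L (Fin n → F) := ⟨fun c k x => by
    rw [hsmul, hsmul, map_smul, Matrix.smul_mulVec]⟩
  haveI : Module.Finite L (Fin n → F) := Module.Finite.of_finite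
  haveI : FiniteDimensional F L := inferInstance
  have hrK : finrank F L = r := hL
  have hmul : r * finrank L (Fin n → F) = n := by
    rw [← hrK, Module.finrank_mul_finrank, Module.finrank_fin_fun]
  have hm : 2 ≤ finrank L (Fin n → F) := by
    by_contra h
    have : r * finrank L (Fin n → F) ≤ r * 1 := Nat.mul_le_mul_left r (by omega)
    rw [hmul, mul_one] at this
    omega
  have hr' : (finrank F L).Prime := by rw [hrK]; exact hr
  -- semilinear maps normalise
  have hnorm : ∀ g : GL (Fin n) F, (∀ (v : Fin n → F) (c : L), ∃ d : L,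
      (g : Matrix (Fin n) (Fin n) F) *ᵥ (c • v) = d • ((g : Matrix (Fin n) (Fin n) F) *ᵥ v)) →
      g ∈ Cfsg.Geo.subalgebraNormalizer K := by
    intro g hg
    have hto : ∀ k ∈ K, (g : Matrix (Fin n) (Fin n) F) * k * ((g⁻¹ : GL (Fin n) F) : Matrix (Fin n) (Fin n) F) ∈ K := by
      intro k hk
      set T := (g : Matrix (Fin n) (Fin n) F) * k * ((g⁻¹ : GL (Fin n) F) : Matrix (Fin n) (Fin n) F) with hT
      have hline : ∀ y, ∃ d : L, T *ᵥ y = d • y := by
        intro y
        obtain ⟨k', hk'⟩ := (hρ k).1 hk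
        obtain ⟨d, hd⟩ := hg (((g⁻¹ : GL (Fin n) F) : Matrix (Fin n) (Fin n) F) *ᵥ y) k'
        refine ⟨d, ?_⟩
        rw [hT, ← Matrix.mulVec_mulVec, ← Matrix.mulVec_mulVec]
        rw [hsmul k', hk'] at hd
        rw [hd, TransvMax.mulVec_inv_mulVec]
      have hex2 : ∀ a : Fin n → F, a ≠ 0 → ∃ b, b ∉ Submodule.span L {a} := by
        intro a ha
        by_contra hall
        push Not at hall
        have := finrank_span_singleton (K := L) ha
        rw [show Submodule.span L {a} = ⊤ from eq_top_iff.2 fun x _ => hall x, finrank_top] at this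
        omega
      -- the multiplier does not depend on the vector
      have key : ∀ a b, a ≠ 0 → b ∉ Submodule.span L {a} → ∀ d e : L, T *ᵥ a = d • a → T *ᵥ b = e • b → d = e := by
        intro a b ha hb d e hd he
        obtain ⟨w, hw⟩ := hline (a + b)
        rw [Matrix.mulVec_add, hd, he, smul_add] at hw
        have h1 : (e - w) • b = (w - d) • a := by
          rw [sub_smul, sub_smul, sub_eq_sub_iff_add_eq_add, add_comm, hw, add_comm]
        have h2 : e - w = 0 := by
          by_contra hne
          exact hb (Submodule.mem_span_singleton.2 ⟨(e - w)⁻¹ * (w - d), by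
            rw [mul_smul, ← h1, smul_smul, inv_mul_cancel₀ hne, one_smul]⟩)
        rw [h2, zero_smul] at h1
        have h3 : w - d = 0 := (smul_eq_zero.1 h1.symm).resolve_right ha
        rw [← sub_eq_zero.1 h3, sub_eq_zero.1 h2]
      set a : Fin n → F := Pi.single 0 1
      have ha : a ≠ 0 := by simp [a]
      obtain ⟨b, hb⟩ := hex2 a ha
      obtain ⟨d, hd⟩ := hline a
      obtain ⟨e, he⟩ := hline b
      have hde := key a b ha hb d e hd he
      have hb0 : b ≠ 0 := fun e => hb (by rw [e]; exact Submodule.zero_mem _)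
      have hall : ∀ y, T *ᵥ y = d • y := by
        intro y
        obtain ⟨f, hf⟩ := hline y
        by_cases hy : y ∈ Submodule.span L {a}
        · by_cases hy0 : y = 0
          · rw [hy0, Matrix.mulVec_zero, smul_zero]
          have hby : b ∉ Submodule.span L {y} := fun h =>
            hb ((Submodule.span_le.2 (by simpa using hy)) h)
          rw [hf, key y b hy0 hby f e hf he, hde]
        · rw [hf, ← key a y ha hy d f hd hf]
      have : T = ρ d := Matrix.ext_iff_mulVec.2 fun y => by rw [hall, hsmul]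
      rw [this]
      exact (hρ _).2 ⟨d, rfl⟩
    intro k
    refine ⟨hto k, fun h => ?_⟩
    let φ : K → K := fun x => ⟨_, hto x x.2⟩
    have hφ : Function.Injective φ := by
      intro x y hxy
      have := congrArg Subtype.val hxy
      simp only [φ, Units.mul_left_inj, Units.mul_right_inj] at this
      exact Subtype.ext this
    obtain ⟨k', hk'⟩ := (Finite.injective_iff_surjective.1 hφ) ⟨_, h⟩
    have := congrArg Subtype.val hk'
    simp only [φ, Units.mul_left_inj, Units.mul_right_inj] at this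
    rw [← this]; exact k'.2
  -- linear maps normalise
  have hlin : ∀ g : (Fin n → F) ≃ₗ[L] (Fin n → F),
      TransvMax.glOf (g.restrictScalars F) ∈ Cfsg.Geo.subalgebraNormalizer K := fun g =>
    hnorm _ fun v c => ⟨c, by
      rw [TransvMax.glOf_mulVec, TransvMax.glOf_mulVec]
      exact g.map_smul c v⟩
  have hdet : ∀ g : (Fin n → F) ≃ₗ[F] (Fin n → F),
      ((Matrix.GeneralLinearGroup.det (TransvMax.glOf g) : Fˣ) : F) = LinearMap.det (g : (Fin n → F) →ₗ[F] (Fin n → F)) :=
    fun g => LinearMap.det_toMatrix' (f := (g : (Fin n → F) →ₗ[F] (Fin n → F)))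
  have htop : ∀ M : Subgroup (GL (Fin n) F),
      Cfsg.Geo.subalgebraNormalizer K ⊓ Cfsg.Geo.specialLinear (Fin n) F ≤ M →
      (∃ g ∈ M, g ∉ Cfsg.Geo.subalgebraNormalizer K) → Cfsg.Geo.specialLinear (Fin n) F ≤ M := by
    intro M hM ⟨g, hgM, hgN⟩
    have hG : HasLin L (M.comap (TransvMax.glOf (ι := Fin n) (F := F))) := by
      intro g' hg'
      refine hM ⟨hlin g', ?_⟩
      show _ ∈ Cfsg.Geo.specialLinear (Fin n) F
      rw [Cfsg.Geo.specialLinear, MonoidHom.mem_ker]
      refine Units.ext ?_
      rw [hdet]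
      exact hg'
    have hne : ∃ e ∈ M.comap (TransvMax.glOf (ι := Fin n) (F := F)),
        ∃ (v : Fin n → F) (c : L), ∀ d : L, e (c • v) ≠ d • e v := by
      refine ⟨TransvMax.linOf g, by rw [Subgroup.mem_comap, TransvMax.glOf_linOf]; exact hgM, ?_⟩
      by_contra hall
      push Not at hall
      exact hgN (hnorm g fun v c => by
        obtain ⟨d, hd⟩ := hall v c
        exact ⟨d, by simpa using hd⟩)
    have hall : ∀ (z : Fin n → F) (f : (Fin n → F) →ₗ[F] F), f z = 0 →
        InH (M.comap (TransvMax.glOf (ι := Fin n) (F := F))) (f.smulRight z) := by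
      by_cases hx : Nat.card F = 2 ∧ finrank F L = 2 ∧ finrank L (Fin n → F) = 2
      · exact small_trv hx.1 hx.2.1 hx.2.2 hG hne
      · exact all_trv hr' hm (fun h2 ⟨h1, h3⟩ => hx ⟨h1, h3, h2⟩) hG hne
    refine TransvMax.specialLinear_le_of_trv fun v φ h => ?_
    let f : (Fin n → F) →ₗ[F] F :=
      { toFun := fun x => φ ⬝ᵥ x
        map_add' := fun x y => dotProduct_add φ x y
        map_smul' := fun c x => by simp [dotProduct_smul] }
    obtain ⟨e, he, hex3⟩ := hall v f h
    rw [Subgroup.mem_comap] at he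
    convert he using 1
    refine TransvMax.gl_ext fun x => ?_
    rw [TransvMax.trv_mulVec, TransvMax.glOf_mulVec, hex3]
    rfl
  refine ⟨htop, fun hle => ?_, fun a => ?_⟩
  · -- a transvection moving a line of `K`
    obtain ⟨c, hc⟩ : ∃ c : L, c ∉ Submodule.span F {(1 : L)} := by
      by_contra hall
      push Not at hall
      have := finrank_span_singleton (K := F) (one_ne_zero (α := L))
      rw [show Submodule.span F {(1 : L)} = ⊤ from eq_top_iff.2 fun x _ => hall x, finrank_top, hrK] at this
      exact hr.one_lt.ne' this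
    set w : Fin n → F := Pi.single 0 1
    have hw : w ≠ 0 := by simp [w]
    obtain ⟨v, hv⟩ : ∃ v, v ∉ Submodule.span L {w} := by
      by_contra hall
      push Not at hall
      have := finrank_span_singleton (K := L) hw
      rw [show Submodule.span L {w} = ⊤ from eq_top_iff.2 fun x _ => hall x, finrank_top] at this
      omega
    have hind : c • w ∉ Submodule.span F ({w, v} : Set (Fin n → F)) := by
      intro h
      obtain ⟨a, b, hab⟩ := Submodule.mem_span_pair.1 h
      by_cases hb : b = 0
      · rw [hb, zero_smul, add_zero, ← algebraMap_smul L a w] at hab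
        exact hc (Submodule.mem_span_singleton.2 ⟨a, by
          rw [Algebra.smul_def, mul_one]; exact smul_left_injective L hw hab⟩)
      · apply hv
        refine Submodule.mem_span_singleton.2 ⟨algebraMap F L b⁻¹ * (c - algebraMap F L a), ?_⟩
        rw [mul_smul, sub_smul, algebraMap_smul, algebraMap_smul, ← hab, add_sub_cancel_left, inv_smul_smul₀ hb]
    obtain ⟨f, hf, hfc⟩ := exists_dual_one _ hind
    have hfv : f v = 0 := hf v (Submodule.subset_span (by simp))
    have hfw : f w = 0 := hf w (Submodule.subset_span (by simp))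
    have hmem := hle (x := TransvMax.glOf (LinearEquiv.transvection hfv)) (by
      rw [Cfsg.Geo.specialLinear, MonoidHom.mem_ker]
      refine Units.ext ?_
      rw [hdet, LinearEquiv.transvection.coe_toLinearMap, LinearMap.transvection.det, hfv, add_zero]
      rfl)
    set t := TransvMax.glOf (LinearEquiv.transvection hfv) with ht
    have htx : ∀ x, (t : Matrix (Fin n) (Fin n) F) *ᵥ x = x + f x • v := fun x => by
      rw [ht, TransvMax.glOf_mulVec]; rfl
    have hd := (hmem (ρ c)).1 ((hρ _).2 ⟨c, rfl⟩)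
    obtain ⟨d, hdv⟩ := (hρ _).1 hd
    have h1 : (t : Matrix (Fin n) (Fin n) F) *ᵥ (c • w) = d • ((t : Matrix (Fin n) (Fin n) F) *ᵥ w) := by
      rw [hsmul c, hsmul d, hdv]
      rw [← Matrix.mulVec_mulVec, ← Matrix.mulVec_mulVec, TransvMax.inv_mulVec_mulVec]
    rw [htx, htx, hfc, hfw, zero_smul, add_zero, one_smul] at h1
    exact hv (Submodule.mem_span_singleton.2 ⟨d - c, by rw [sub_smul, ← h1]; abel⟩)
  · obtain ⟨k, hk⟩ := FiniteField.unitsMap_norm_surjective F L a
    obtain ⟨χ, -, hχ⟩ := exists_dual_one (F := L) (⊥ : Submodule L (Fin n → F)) (y := Pi.single 0 1) (by simp)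
    refine ⟨_, hlin (scaleEquiv χ _ (k : L) hχ k.ne_zero), Units.ext ?_⟩
    rw [hdet]
    show LinearMap.det ((LinearMap.transvection χ (((k : L) - 1) • _)).restrictScalars F) = _
    rw [det_restrict, LinearMap.transvection.det, map_smul, hχ, smul_eq_mul, mul_one, add_sub_cancel, ← hk]
    rfl

theorem normFacts (hr : r.Prime) (hrn : r ∣ n) (hlt : r < n)
    (K : Subalgebra F (Matrix (Fin n) (Fin n) F)) (hK : Cfsg.Geo.IsFieldSubalgebra r K) : NormFacts K := by
  classical
  haveI : NeZero n := ⟨by omega⟩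
  letI : CommRing K := { (inferInstance : Ring K) with mul_comm := fun a b => Subtype.ext (hK.comm _ a.2 _ b.2) }
  haveI : Nontrivial K := ⟨⟨0, 1, fun h => by
    have := congrArg (fun x : K => (x : Matrix (Fin n) (Fin n) F)) h
    simp at this⟩⟩
  haveI : NoZeroDivisors K := ⟨fun {a b} hab => by
    by_cases ha : a = 0
    · exact Or.inl ha
    · obtain ⟨y, hy, hay⟩ := hK.inv _ a.2 (fun h => ha (Subtype.ext h))
      right
      have : (⟨y, hy⟩ : K) * a = 1 := by rw [mul_comm]; exact Subtype.ext hay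
      calc b = (⟨y, hy⟩ : K) * a * b := by rw [this, one_mul]
        _ = 0 := by rw [mul_assoc, hab, mul_zero]⟩
  haveI : IsDomain K := NoZeroDivisors.to_isDomain K
  letI : Fintype K := Fintype.ofFinite K
  letI : Field K := Fintype.fieldOfDomain K
  exact normFacts_of (L := K) hr hrn hlt hK.finrank_eq K.val K
    (fun x => ⟨fun h => ⟨⟨x, h⟩, rfl⟩, by rintro ⟨l, rfl⟩; exact l.2⟩)

theorem maximal_sl {K : Subalgebra F (Matrix (Fin n) (Fin n) F)} (h : NormFacts K) :
    Cfsg.Geo.IsMaximalIn (Cfsg.Geo.specialLinear (Fin n) F)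
      (Cfsg.Geo.subalgebraNormalizer K ⊓ Cfsg.Geo.specialLinear (Fin n) F) := by
  refine ⟨lt_of_le_of_ne inf_le_right fun e => h.sl_not_le (inf_eq_right.1 e), fun M hM hMS => ?_⟩
  by_cases hg : ∃ g ∈ M, g ∉ Cfsg.Geo.subalgebraNormalizer K
  · exact Or.inr (le_antisymm hMS (h.top_of M hM hg))
  · push Not at hg
    exact Or.inl (le_antisymm (le_inf hg hMS) hM)

theorem maximal_gl {K : Subalgebra F (Matrix (Fin n) (Fin n) F)} (h : NormFacts K) :
    IsCoatom (Cfsg.Geo.subalgebraNormalizer K) := by
  refine ⟨fun e => h.sl_not_le (by rw [e]; exact le_top), fun M hM => ?_⟩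
  obtain ⟨g, hgM, hgN⟩ := SetLike.exists_of_lt hM
  have hsl := h.top_of M (inf_le_left.trans hM.le) ⟨g, hgM, hgN⟩
  refine eq_top_iff.2 fun x _ => ?_
  obtain ⟨y, hy, hyd⟩ := h.det_surj (Matrix.GeneralLinearGroup.det x)
  have : x * y⁻¹ ∈ Cfsg.Geo.specialLinear (Fin n) F := by
    rw [Cfsg.Geo.specialLinear, MonoidHom.mem_ker, map_mul, map_inv, hyd, mul_inv_cancel]
  simpa using M.mul_mem (hsl this) (hM.le hy)

end Cfsg.Agent.ExtFieldMax
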