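import Cfsg.Agent.Lib.ExtFieldMax.TensorGen
import Cfsg.Agent.Lib.TransvMax.TensorEl

/-!
The stabiliser of a tensor decomposition is maximal in the special linear group.
-/

set_option autoImplicit false

namespace Cfsg.Agent.TensorMax

open scoped Matrix MatrixGroups Kronecker
open Module Matrix
open Cfsg.Agent.ExtFieldMax

variable {F : Type*} [Field F] [Fintype F] {n a b : ℕ}

theorem mem_sl_iff {g : GL (Fin n) F} :
    g ∈ Cfsg.Geo.specialLinear (Fin n) F ↔ (g : Matrix (Fin n) (Fin n) F).det = 1 := by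
  rw [Cfsg.Geo.specialLinear, MonoidHom.mem_ker, Units.ext_iff]
  rfl

theorem elem_coord (e : Fin n ≃ Fin a × Fin b) (P : GL (Fin n) F) (i j : Fin n) (t : F) (X : Tn F a b) :
    ((P : Matrix (Fin n) (Fin n) F) * Matrix.transvection i j t * ((P⁻¹ : GL (Fin n) F) : Matrix (Fin n) (Fin n) F))
      *ᵥ TensorEl.coord e P X = TensorEl.coord e P (X + el (e i) (e j) t X) := by
  rw [TensorEl.coord_apply, TensorEl.coord_apply, ← mulVec_mulVec, ← mulVec_mulVec, TransvMax.inv_mulVec_mulVec]
  congr 1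
  rw [Matrix.transvection, add_mulVec, one_mulVec, single_mulVec_eq]
  funext k
  rw [Pi.add_apply, el_apply, Matrix.add_apply, Matrix.smul_apply]
  by_cases hk : k = i
  · subst hk; simp
  · have h0 : Matrix.single (e i).1 (e i).2 (1 : F) (e k).1 (e k).2 = 0 :=
      Matrix.single_apply_of_ne _ _ _ _ _ fun h => hk (e.injective (Prod.ext h.1 h.2)).symm
    simp [h0, hk]

theorem tensor_top_of (ha : 2 ≤ a) (hab : a < b) (hex : ¬ (a = 2 ∧ Fintype.card F = 2))
    (e : Fin n ≃ Fin a × Fin b) (P : GL (Fin n) F) (M : Subgroup (GL (Fin n) F))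
    (hM : Cfsg.Geo.tensorProductSubgroup a b e P ⊓ Cfsg.Geo.specialLinear (Fin n) F ≤ M)
    (hne : ∃ g ∈ M, g ∉ Cfsg.Geo.tensorProductSubgroup a b e P) : Cfsg.Geo.specialLinear (Fin n) F ≤ M := by
  classical
  set L := TensorEl.coord e P with hL
  let c : (Tn F a b ≃ₗ[F] Tn F a b) →* ((Fin n → F) ≃ₗ[F] (Fin n → F)) :=
    MonoidHom.mk' (fun g => L.symm.trans (g.trans L)) fun g h => LinearEquiv.ext fun x => by simp
  set H := M.comap ((TransvMax.glOf (ι := Fin n) (F := F)).comp c) with hH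
  have hact : ∀ (g : Tn F a b ≃ₗ[F] Tn F a b) (y : GL (Fin n) F),
      (∀ X, (y : Matrix (Fin n) (Fin n) F) *ᵥ L X = L (g X)) → TransvMax.glOf (c g) = y := by
    intro g y h
    refine TransvMax.gl_ext fun x => ?_
    obtain ⟨X, rfl⟩ := L.surjective x
    rw [TransvMax.glOf_mulVec, h]
    show L (g (L.symm (L X))) = _
    rw [L.symm_apply_apply]
  have hG : ∀ (A : Matrix (Fin a) (Fin a) F) (B : Matrix (Fin b) (Fin b) F), A.det = 1 → B.det = 1 →
      ∃ g ∈ H, ∀ X, g X = A * X * Bᵀ := by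
    intro A B hA hB
    have hAu : IsUnit A := (Matrix.isUnit_iff_isUnit_det A).2 (by rw [hA]; exact isUnit_one)
    have hBu : IsUnit B := (Matrix.isUnit_iff_isUnit_det B).2 (by rw [hB]; exact isUnit_one)
    obtain ⟨y, hy, hyx⟩ := TensorEl.exists_mem e P hAu.unit hBu.unit
    refine ⟨L.trans ((TransvMax.linOf y).trans L.symm), ?_, fun X => L.injective ?_⟩
    · rw [hH, Subgroup.mem_comap, MonoidHom.comp_apply, hact _ y fun X => by simp]
      refine hM ⟨hy, mem_sl_iff.2 ?_⟩
      have hy' : (y : Matrix (Fin n) (Fin n) F) = (P : Matrix (Fin n) (Fin n) F) *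
          Matrix.reindexAlgEquiv F F e.symm (A ⊗ₖ B) * ((P⁻¹ : GL (Fin n) F) : Matrix (Fin n) (Fin n) F) := by
        refine Matrix.ext_iff_mulVec.2 fun x => ?_
        obtain ⟨X, rfl⟩ := L.surjective x
        rw [hL, hyx, ← TensorEl.coord_mul_pair]
        rfl
      rw [hy', Matrix.det_units_conj, Matrix.det_reindexAlgEquiv, Matrix.det_kronecker,
        hA, hB, one_pow, one_pow, one_mul]
    · simp only [LinearEquiv.trans_apply, LinearEquiv.apply_symm_apply, TransvMax.linOf_apply]
      rw [hL, hyx]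
      rfl
  obtain ⟨g, hgM, hgT⟩ := hne
  obtain ⟨e', he'⟩ : ∃ e', e' = L.trans ((TransvMax.linOf g).trans L.symm) := ⟨_, rfl⟩
  have he'H : e' ∈ H := by
    rw [hH, Subgroup.mem_comap, MonoidHom.comp_apply, hact _ g fun X => by simp [he']]
    exact hgM
  have hnt : ¬ ∃ (g₁ : (Fin a → F) →ₗ[F] (Fin a → F)) (g₂ : (Fin b → F) →ₗ[F] (Fin b → F)),
      ∀ c w, e' (vecMulVec c w) = vecMulVec (g₁ c) (g₂ w) := by
    rintro ⟨g₁, g₂, h⟩
    have hb0 : (Pi.single (⟨0, by omega⟩ : Fin b) (1 : F) : Fin b → F) ≠ 0 := by simp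
    have h1 : Function.Injective g₁ := (injective_iff_map_eq_zero g₁).2 fun c hc => by
      refine pureL_injective hb0 ?_
      rw [pureL_apply, pureL_apply, zero_vecMulVec, ← LinearEquiv.map_eq_zero_iff e', h, hc, zero_vecMulVec]
    have h2 : Function.Injective g₂ := (injective_iff_map_eq_zero g₂).2 fun w hw => by
      have h0 := h (Pi.single (⟨0, by omega⟩ : Fin a) (1 : F) : Fin a → F) w
      rw [hw, vmz, LinearEquiv.map_eq_zero_iff] at h0
      funext j
      have := congrFun (congrFun h0 ⟨0, by omega⟩) j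
      simpa [vecMulVec_apply] using this
    have hA : IsUnit (LinearMap.toMatrix' g₁) := Matrix.mulVec_injective_iff_isUnit.1 fun x y hxy => h1 (by
      simpa using hxy)
    have hB : IsUnit (LinearMap.toMatrix' g₂) := Matrix.mulVec_injective_iff_isUnit.1 fun x y hxy => h2 (by
      simpa using hxy)
    obtain ⟨y, hy, hyx⟩ := TensorEl.exists_mem e P hA.unit hB.unit
    refine hgT ?_
    convert hy using 1
    refine TransvMax.gl_ext fun x => ?_
    obtain ⟨X, rfl⟩ := L.surjective x
    rw [hL, hyx, ← hL, TensorEl.sandwich_apply, IsUnit.unit_spec, IsUnit.unit_spec]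
    have hgX : (g : Matrix (Fin n) (Fin n) F) *ᵥ L X = L (e' X) := by simp [he']
    rw [hgX]
    congr 1
    rw [rows_sum X, map_sum, Matrix.mul_sum, Matrix.sum_mul]
    refine Finset.sum_congr rfl fun i _ => ?_
    rw [h, mul_vecMulVec, vecMulVec_mul, vecMul_transpose, LinearMap.toMatrix'_mulVec, LinearMap.toMatrix'_mulVec]
  have hq : a = 2 → ∃ t : F, t ≠ 0 ∧ t ≠ 1 := by
    intro h2
    by_contra hall
    push Not at hall
    refine hex ⟨h2, le_antisymm ?_ Fintype.one_lt_card⟩
    calc Fintype.card F = (Finset.univ : Finset F).card := rfl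
      _ ≤ ({0, 1} : Finset F).card := Finset.card_le_card fun t _ => by
          by_cases ht : t = 0
          · simp [ht]
          · simp [hall t ht]
      _ ≤ 2 := Finset.card_le_two
  have hN := hasN_of_not_tensor ha hab (inH_trW hG) he'H hnt
  -- all elementary transvections in the coordinates
  have hconj : Cfsg.Geo.specialLinear (Fin n) F ≤ M.comap (MulAut.conj P).toMonoidHom := by
    intro x hx
    have : x ∈ (Matrix.SpecialLinearGroup.toGL : Matrix.SpecialLinearGroup (Fin n) F →* GL (Fin n) F).range := by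
      rw [LinGrp.range_toGL_eq_ker_det]
      exact hx
    obtain ⟨s, rfl⟩ := this
    have htop : (⊤ : Subgroup (Matrix.SpecialLinearGroup (Fin n) F)) ≤
        (M.comap (MulAut.conj P).toMonoidHom).comap Matrix.SpecialLinearGroup.toGL := by
      rw [← LinGrp.closure_transvectionSet, Subgroup.closure_le]
      rintro _ ⟨i, j, hij, t, rfl⟩
      obtain ⟨g', hg', hgx⟩ := inH_el hG ha (by omega) hq hN (e i) (e j) (fun h => hij (e.injective h)) t
      rw [hH, Subgroup.mem_comap, MonoidHom.comp_apply] at hg'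
      rw [SetLike.mem_coe, Subgroup.mem_comap, Subgroup.mem_comap]
      convert hg' using 1
      refine (hact g' _ fun X => ?_).symm
      rw [hgx, hL, ← elem_coord]
      rfl
    exact htop (Subgroup.mem_top s)
  intro x hx
  have hx' : P⁻¹ * x * P ∈ Cfsg.Geo.specialLinear (Fin n) F := by
    rw [Cfsg.Geo.specialLinear, MonoidHom.mem_ker] at hx ⊢
    rw [map_mul, map_mul, hx, map_inv, mul_one, inv_mul_cancel]
  have := hconj hx'
  simpa [mul_assoc] using this

theorem tensor_sl_not_le (ha : 2 ≤ a) (hb : 2 ≤ b) (e : Fin n ≃ Fin a × Fin b) (P : GL (Fin n) F) :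
    ¬ Cfsg.Geo.specialLinear (Fin n) F ≤ Cfsg.Geo.tensorProductSubgroup a b e P := by
  intro hle
  set i := e.symm (⟨0, by omega⟩, ⟨0, by omega⟩) with hi
  set j := e.symm (⟨1, by omega⟩, ⟨1, by omega⟩) with hj
  have hij : i ≠ j := by simp [hi, hj]
  set x := P * Matrix.SpecialLinearGroup.toGL (Matrix.SpecialLinearGroup.transvection hij (1 : F)) * P⁻¹ with hx
  have hxm : x ∈ Cfsg.Geo.specialLinear (Fin n) F := by
    rw [mem_sl_iff, hx, Units.val_mul, Units.val_mul, Matrix.det_units_conj]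
    exact (Matrix.SpecialLinearGroup.transvection hij (1 : F)).2
  obtain ⟨A, B, hAB⟩ := TensorEl.exists_of_mem (hle hxm)
  have h := hAB (Matrix.single (e j).1 (e j).2 1)
  rw [show (x : Matrix (Fin n) (Fin n) F) = (P : Matrix (Fin n) (Fin n) F) * Matrix.transvection i j 1 *
    ((P⁻¹ : GL (Fin n) F) : Matrix (Fin n) (Fin n) F) from rfl, elem_coord] at h
  have h' := (TensorEl.coord e P).injective h
  rw [TensorEl.sandwich_apply, Matrix.single_eq_single_vecMulVec_single, mul_vecMulVec, vecMulVec_mul] at h'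
  generalize (A : Matrix (Fin a) (Fin a) F) *ᵥ Pi.single (e j).1 1 = p at h'
  generalize Pi.single (e j).2 (1 : F) ᵥ* (B : Matrix (Fin b) (Fin b) F)ᵀ = q at h'
  have v00 := congrFun (congrFun h' (e i).1) (e i).2
  have v11 := congrFun (congrFun h' (e j).1) (e j).2
  have v01 := congrFun (congrFun h' (e i).1) (e j).2
  simp [hi, hj, el_apply, vecMulVec_apply] at v00 v11 v01
  rcases v01 with h0 | h0
  · simp [h0] at v00
  · simp [h0] at v11

theorem tensor_maximal_sl (ha : 2 ≤ a) (hab : a < b) (hex : ¬ (a = 2 ∧ Fintype.card F = 2))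
    (e : Fin n ≃ Fin a × Fin b) (P : GL (Fin n) F) :
    Cfsg.Geo.IsMaximalIn (Cfsg.Geo.specialLinear (Fin n) F)
      (Cfsg.Geo.tensorProductSubgroup a b e P ⊓ Cfsg.Geo.specialLinear (Fin n) F) := by
  refine ⟨lt_of_le_of_ne inf_le_right fun h => tensor_sl_not_le ha (by omega) e P (inf_eq_right.1 h),
    fun M hM hMS => ?_⟩
  by_cases hg : ∃ g ∈ M, g ∉ Cfsg.Geo.tensorProductSubgroup a b e P
  · exact Or.inr (le_antisymm hMS (tensor_top_of ha hab hex e P M hM hg))
  · push Not at hg
    exact Or.inl (le_antisymm (le_inf hg hMS) hM)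

end Cfsg.Agent.TensorMax
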