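import Cfsg.Agent.Lib.ExtFieldMax.Tools

/-!
A subgroup containing the norm one `K`-linear maps and a map that is not semilinear
sends some `K`-line to a subspace meeting another `K`-line in a hyperplane of it.
-/

set_option autoImplicit false

namespace Cfsg.Agent.ExtFieldMax

open Module Submodule

variable {F K V : Type*} [Field F] [Field K] [Algebra F K] [AddCommGroup V] [Module F V] [Module K V]
  [IsScalarTower F K V]

/-- `H` contains every `K`-linear map of determinant one over `F`. -/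
def HasLin (K : Type*) [Field K] [Algebra F K] [Module K V] [IsScalarTower F K V]
    (H : Subgroup (V ≃ₗ[F] V)) : Prop :=
  ∀ g : V ≃ₗ[K] V, LinearMap.det ((g : V →ₗ[K] V).restrictScalars F) = 1 → g.restrictScalars F ∈ H

theorem det_restrict [FiniteDimensional F K] [FiniteDimensional K V] (f : V →ₗ[K] V) :
    LinearMap.det (f.restrictScalars F) = Algebra.norm F (LinearMap.det f) :=
  LinearMap.det_restrictScalars

theorem hasLin_trv [FiniteDimensional F K] [FiniteDimensional K V] {H : Subgroup (V ≃ₗ[F] V)}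
    (hG : HasLin K H) (Φ : V →ₗ[K] K) (v : V) (hv : Φ v = 0) :
    InH H ((Φ.smulRight v).restrictScalars F) := by
  refine ⟨(LinearEquiv.transvection hv).restrictScalars F, hG _ ?_, fun x => ?_⟩
  · rw [det_restrict]
    have : LinearMap.det (LinearEquiv.transvection hv : V →ₗ[K] V) = 1 := by
      rw [LinearEquiv.transvection.coe_toLinearMap, LinearMap.transvection.det, hv, add_zero]
    rw [this, map_one]
  · simp [LinearMap.transvection.apply, LinearEquiv.transvection.coe_toLinearMap, LinearEquiv.transvection.apply]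

theorem trans_line [FiniteDimensional F K] [FiniteDimensional K V] (hm : 2 ≤ finrank K V)
    {H : Subgroup (V ≃ₗ[F] V)} (hG : HasLin K H) {y u : V} (hy : y ≠ 0) (hu : u ≠ 0) :
    ∃ g : V ≃ₗ[K] V, g.restrictScalars F ∈ H ∧ g y = u := by
  have key : ∀ {a b : V}, a ≠ 0 → (∀ c : K, b ≠ c • a) →
      ∃ g : V ≃ₗ[K] V, g.restrictScalars F ∈ H ∧ g a = b := by
    intro a b ha h
    obtain ⟨Φ, hΦa, hΦb⟩ := exists_dual_pair h ha
    have hv : Φ (b - a) = 0 := by rw [map_sub, hΦa, hΦb, sub_self]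
    refine ⟨LinearEquiv.transvection hv, hG _ ?_, ?_⟩
    · rw [det_restrict]
      have : LinearMap.det (LinearEquiv.transvection hv : V →ₗ[K] V) = 1 := by
        rw [LinearEquiv.transvection.coe_toLinearMap, LinearMap.transvection.det, hv, add_zero]
      rw [this, map_one]
    · simp [LinearMap.transvection.apply, hΦa]
  by_cases h : ∀ c : K, u ≠ c • y
  · exact key hy h
  push Not at h
  obtain ⟨c, hc⟩ := h
  have hc0 : c ≠ 0 := fun e => hu (by rw [hc, e, zero_smul])
  have hne : (K ∙ y) ≠ ⊤ := by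
    intro e
    have := finrank_span_singleton (K := K) hy
    rw [e, finrank_top] at this
    omega
  obtain ⟨w, hw⟩ : ∃ w, w ∉ (K ∙ y) := by
    by_contra hall
    push Not at hall
    exact hne (eq_top_iff.2 fun x _ => hall x)
  have hw0 : w ≠ 0 := fun e => hw (by rw [e]; exact Submodule.zero_mem _)
  obtain ⟨g₁, h₁, e₁⟩ := key hy (b := w) fun d e => hw (Submodule.mem_span_singleton.2 ⟨d, e.symm⟩)
  obtain ⟨g₂, h₂, e₂⟩ := key hw0 (b := u) fun d e => hw (Submodule.mem_span_singleton.2 ⟨d⁻¹ * c, by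
    have hd : d ≠ 0 := fun hd => hu (by rw [e, hd, zero_smul])
    rw [mul_smul, ← hc, e, smul_smul, inv_mul_cancel₀ hd, one_smul]⟩)
  refine ⟨g₁.trans g₂, ?_, by simp [e₁, e₂]⟩
  have : (g₁.trans g₂).restrictScalars F = g₂.restrictScalars F * g₁.restrictScalars F := by
    ext x; rfl
  rw [this]
  exact H.mul_mem h₂ h₁

/-- The coefficients of `u` lying in the image under `e` of the `K`-line of `u₁`. -/
def coef (K : Type*) [Field K] [Algebra F K] [Module K V] [IsScalarTower F K V]
    (e : V ≃ₗ[F] V) (u₁ u : V) : Submodule F K :=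
  (LinearMap.range (e.toLinearMap ∘ₗ lineMap F K V u₁)).comap (lineMap F K V u)

theorem mem_coef {e : V ≃ₗ[F] V} {u₁ u : V} {c : K} :
    c ∈ coef K e u₁ u ↔ ∃ d : K, e (d • u₁) = c • u := by
  simp [coef]

theorem mem_coef_symm {e : V ≃ₗ[F] V} {u₁ u : V} {c : K} :
    c ∈ coef K e.symm u u₁ ↔ ∃ d : K, e (c • u₁) = d • u := by
  rw [mem_coef]
  constructor
  · rintro ⟨d, hd⟩; exact ⟨d, by rw [← hd, e.apply_symm_apply]⟩
  · rintro ⟨d, hd⟩; exact ⟨d, by rw [← hd, e.symm_apply_apply]⟩

theorem finrank_coef_symm [FiniteDimensional F K] {e : V ≃ₗ[F] V} {u₁ u : V} (h₁ : u₁ ≠ 0) (hu : u ≠ 0) :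
    finrank F (coef K e.symm u u₁) = finrank F (coef K e u₁ u) := by
  have i1 : Function.Injective (e.toLinearMap ∘ₗ lineMap F K V u₁) :=
    e.injective.comp (lineMap_injective h₁)
  have e1 := (Submodule.equivMapOfInjective _ i1 (coef K e.symm u u₁)).finrank_eq
  have e2 := (Submodule.equivMapOfInjective _ (lineMap_injective (F := F) (K := K) hu) (coef K e u₁ u)).finrank_eq
  rw [e1, e2]
  have hs : ∀ c, c ∈ coef K e.symm u u₁ ↔ ∃ d : K, e (c • u₁) = d • u := fun c => mem_coef_symm
  have : (coef K e.symm u u₁).map (e.toLinearMap ∘ₗ lineMap F K V u₁) =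
      (coef K e u₁ u).map (lineMap F K V u) := by
    ext x
    simp only [Submodule.mem_map, hs]; simp only [mem_coef]
    constructor
    · rintro ⟨c, ⟨d, hd⟩, rfl⟩; exact ⟨d, ⟨c, hd⟩, hd.symm⟩
    · rintro ⟨d, ⟨c, hc⟩, rfl⟩; exact ⟨c, ⟨d, hc⟩, hc⟩
  rw [this]

variable (F K) in
theorem eq_bot_or_top_of_prime [FiniteDimensional F K] (hr : (finrank F K).Prime) (L : Subalgebra F K) :
    L = ⊥ ∨ L = ⊤ :=
  (Subalgebra.isSimpleOrder_of_finrank_prime F K hr).eq_bot_or_eq_top L

/-- The stabiliser algebra of a subspace of a field. -/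
def stabAlg (Z : Submodule F K) : Subalgebra F K where
  carrier := {k | ∀ z ∈ Z, k * z ∈ Z}
  mul_mem' := fun {a b} ha hb z hz => by rw [mul_assoc]; exact ha _ (hb z hz)
  add_mem' := fun {a b} ha hb z hz => by rw [add_mul]; exact Z.add_mem (ha z hz) (hb z hz)
  algebraMap_mem' := fun r z hz => by rw [← Algebra.smul_def]; exact Z.smul_mem r hz

theorem finrank_le_of_line [FiniteDimensional F K] (A B : Submodule F K) {u : V} (hu : u ≠ 0)
    (t : V ≃ₗ[F] V) (h : ∀ c ∈ B, ∃ d ∈ A, d • u = t (c • u)) : finrank F B ≤ finrank F A := by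
  have iL : Function.Injective (lineMap F K V u) := lineMap_injective hu
  have iR : Function.Injective (t.toLinearMap ∘ₗ lineMap F K V u) := t.injective.comp iL
  rw [(Submodule.equivMapOfInjective _ iR B).finrank_eq, (Submodule.equivMapOfInjective _ iL A).finrank_eq]
  apply Submodule.finrank_mono
  rintro x ⟨c, hc, rfl⟩
  obtain ⟨d, hd, e⟩ := h c hc
  exact ⟨d, hd, e⟩

theorem improve [FiniteDimensional F K] [FiniteDimensional K V] (hr : (finrank F K).Prime)
    (hm : 2 ≤ finrank K V) {H : Subgroup (V ≃ₗ[F] V)} (hG : HasLin K H) {e : V ≃ₗ[F] V} (he : e ∈ H)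
    {u₁ u : V} (h₁ : u₁ ≠ 0) (hu : u ≠ 0) (hlo : 1 ≤ finrank F (coef K e u₁ u))
    (hhi : finrank F (coef K e u₁ u) + 2 ≤ finrank F K) :
    ∃ e' ∈ H, ∃ u' : V, u' ≠ 0 ∧ finrank F (coef K e u₁ u) < finrank F (coef K e' u' u') ∧
      finrank F (coef K e' u' u') < finrank F K := by
  set Zc := coef K e u₁ u with hZc
  set Z' := coef K e.symm u u₁ with hZ'
  have hdim : finrank F Z' = finrank F Zc := finrank_coef_symm h₁ hu
  obtain ⟨c₀, hc₀⟩ : ∃ c, c ∉ Zc := by
    by_contra hall
    push Not at hall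
    have : finrank F Zc = finrank F K := by
      rw [show Zc = ⊤ from eq_top_iff.2 fun x _ => hall x, finrank_top]
    omega
  set y₀ := e.symm (c₀ • u) with hy₀
  have hy : y₀ ∉ (K ∙ u₁) := by
    intro h
    obtain ⟨d, hd⟩ := Submodule.mem_span_singleton.1 h
    exact hc₀ (mem_coef.2 ⟨d, by rw [hd, hy₀, e.apply_symm_apply]⟩)
  obtain ⟨Φ, hΦ, hΦy⟩ := exists_dual_one (F := K) _ hy
  have hΦu : Φ u₁ = 0 := hΦ _ (Submodule.mem_span_singleton_self u₁)
  set β : K →ₗ[F] K := Φ.restrictScalars F ∘ₗ e.symm.toLinearMap ∘ₗ lineMap F K V u with hβ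
  have hβapp : ∀ c, β c = Φ (e.symm (c • u)) := fun c => rfl
  have hβc₀ : β c₀ = 1 := by rw [hβapp, ← hy₀, hΦy]
  have hZker : Zc ≤ LinearMap.ker β := by
    intro c hc
    obtain ⟨d, hd⟩ := mem_coef.1 hc
    rw [LinearMap.mem_ker, hβapp, ← hd, e.symm_apply_apply, map_smul, hΦu, smul_zero]
  -- the pair `lam`, a witness outside `P`
  suffices hlam : ∃ lam : K, (∃ c, β c * lam ∉ Z') ∧
      finrank F Zc < finrank F (Z'.comap (LinearMap.mulRight F lam ∘ₗ β)) by
    obtain ⟨lam, ⟨c₁, hc₁⟩, hlt⟩ := hlam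
    obtain ⟨t, ht, htx⟩ := (hasLin_trv hG Φ (lam • u₁) (by rw [map_smul, hΦu, smul_zero])).conj he
    have htx' : ∀ c : K, t (c • u) = c • u + e ((β c * lam) • u₁) := by
      intro c
      rw [htx]
      simp [hβapp, smul_smul]
    refine ⟨t, ht, u, hu, hlt.trans_le ?_, ?_⟩
    · refine finrank_le_of_line (coef K t u u) _ hu t fun c hc => ?_
      have hc' : β c * lam ∈ coef K e.symm u u₁ := by
        rw [Submodule.mem_comap, LinearMap.comp_apply, LinearMap.mulRight_apply] at hc
        exact hc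
      obtain ⟨d, hd⟩ := mem_coef_symm.1 hc'
      refine ⟨c + d, mem_coef.2 ⟨c, ?_⟩, ?_⟩
      · rw [htx', hd, add_smul]
      · rw [htx', hd, add_smul]
    · refine lt_of_le_of_ne (Submodule.finrank_le _) fun heq => hc₁ ?_
      have htop : coef K t u u = ⊤ := Submodule.eq_top_of_finrank_eq heq
      -- the line of `u` is fixed
      have hback : ∀ c : K, ∃ d : K, t (c • u) = d • u := by
        intro c
        have : coef K t.symm u u = ⊤ := by
          apply Submodule.eq_top_of_finrank_eq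
          rw [finrank_coef_symm hu hu, htop, finrank_top]
        exact mem_coef_symm.1 (by rw [this]; exact Submodule.mem_top : c ∈ coef K t.symm u u)
      obtain ⟨d, hd⟩ := hback c₁
      rw [htx'] at hd
      exact mem_coef_symm.2 ⟨d - c₁, by rw [sub_smul, ← hd]; abel⟩
  by_cases hA : ∃ z ∈ Z', ∃ c, β c * z ∉ Z'
  · obtain ⟨z, hz, hc⟩ := hA
    refine ⟨z, hc, lt_of_le_of_lt (Submodule.finrank_mono hZker) (Submodule.finrank_lt_finrank_of_lt ?_)⟩
    refine lt_of_le_of_ne (fun c hc => ?_) fun h => ?_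
    · show β c * z ∈ Z'
      rw [LinearMap.mem_ker.1 hc, zero_mul]; exact Z'.zero_mem
    · have h0 : c₀ ∈ Z'.comap (LinearMap.mulRight F z ∘ₗ β) := by
        show β c₀ * z ∈ Z'
        rw [hβc₀, one_mul]; exact hz
      rw [← h, LinearMap.mem_ker, hβc₀] at h0
      exact one_ne_zero h0
  · push Not at hA
    have hstab : ∀ c, β c ∈ stabAlg Z' := fun c z hz => hA z hz c
    rcases eq_bot_or_top_of_prime F K hr (stabAlg Z') with hb | ht
    · obtain ⟨lam, hlam⟩ : ∃ lam, lam ∉ Z' := by
        by_contra hall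
        push Not at hall
        have : finrank F Z' = finrank F K := by
          rw [show Z' = ⊤ from eq_top_iff.2 fun x _ => hall x, finrank_top]
        omega
      have hrange : LinearMap.range β ≤ F ∙ (1 : K) := by
        rintro x ⟨c, rfl⟩
        have := hstab c
        rw [hb, Algebra.mem_bot] at this
        obtain ⟨a, ha⟩ := this
        exact Submodule.mem_span_singleton.2 ⟨a, by rw [← ha, Algebra.smul_def, mul_one]⟩
      have h1 : finrank F (LinearMap.range β) ≤ 1 :=
        (Submodule.finrank_mono hrange).trans_eq (finrank_span_singleton one_ne_zero)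
      have h2 := β.finrank_range_add_finrank_ker
      refine ⟨lam, ⟨c₀, by rwa [hβc₀, one_mul]⟩, ?_⟩
      have h3 : LinearMap.ker β ≤ Z'.comap (LinearMap.mulRight F lam ∘ₗ β) := fun c hc => by
        show β c * lam ∈ Z'
        rw [LinearMap.mem_ker.1 hc, zero_mul]; exact Z'.zero_mem
      have h4 := Submodule.finrank_mono h3
      omega
    · exfalso
      obtain ⟨z, hz, hz0⟩ : ∃ z ∈ Z', z ≠ 0 := by
        by_contra hall
        push Not at hall
        have : finrank F Z' = 0 := by
          rw [show Z' = ⊥ from (Submodule.eq_bot_iff _).2 hall, finrank_bot]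
        omega
      have hall : ∀ y, y ∈ Z' := fun y => by
        have hy : y * z⁻¹ ∈ stabAlg Z' := by rw [ht]; exact Algebra.mem_top
        have := hy z hz
        rwa [inv_mul_cancel_right₀ hz0] at this
      have : finrank F Z' = finrank F K := by
        rw [show Z' = ⊤ from eq_top_iff.2 fun x _ => hall x, finrank_top]
      omega

theorem exists_config [FiniteDimensional F K] [FiniteDimensional K V] (hr : (finrank F K).Prime)
    (hm : 2 ≤ finrank K V) {H : Subgroup (V ≃ₗ[F] V)} (hG : HasLin K H)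
    (hne : ∃ e ∈ H, ∃ (v : V) (c : K), ∀ d : K, e (c • v) ≠ d • e v) :
    ∃ e ∈ H, ∃ u₁ u : V, u₁ ≠ 0 ∧ u ≠ 0 ∧ finrank F (coef K e u₁ u) + 1 = finrank F K := by
  suffices key : ∀ k, ∀ e ∈ H, ∀ u₁ u : V, u₁ ≠ 0 → u ≠ 0 → 1 ≤ finrank F (coef K e u₁ u) →
      finrank F (coef K e u₁ u) < finrank F K → finrank F K ≤ finrank F (coef K e u₁ u) + k →
      ∃ e ∈ H, ∃ u₁ u : V, u₁ ≠ 0 ∧ u ≠ 0 ∧ finrank F (coef K e u₁ u) + 1 = finrank F K by
    obtain ⟨e, he, v, c, hvc⟩ := hne
    have hv : v ≠ 0 := fun h => hvc 0 (by simp [h])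
    have hev : e v ≠ 0 := fun h => hv (e.injective (by rw [h, map_zero]))
    refine key (finrank F K) e he v (e v) hv hev ?_ ?_ (by omega)
    · refine Submodule.one_le_finrank_iff.2 fun h => ?_
      have : (1 : K) ∈ coef K e v (e v) := mem_coef.2 ⟨1, by simp⟩
      rw [h, Submodule.mem_bot] at this
      exact one_ne_zero this
    · refine lt_of_le_of_ne (Submodule.finrank_le _) fun heq => ?_
      have : c ∈ coef K e.symm (e v) v := by
        have : coef K e.symm (e v) v = ⊤ := Submodule.eq_top_of_finrank_eq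
          (by rw [finrank_coef_symm hv hev, heq])
        rw [this]; exact Submodule.mem_top
      obtain ⟨d, hd⟩ := mem_coef_symm.1 this
      exact hvc d hd
  intro k
  induction k with
  | zero => intro e he u₁ u _ _ _ hlt hle; omega
  | succ k ih =>
    intro e he u₁ u h₁ hu hlo hlt hle
    by_cases htop : finrank F (coef K e u₁ u) + 1 = finrank F K
    · exact ⟨e, he, u₁, u, h₁, hu, htop⟩
    obtain ⟨e', he', u', hu', hgt, hlt'⟩ := improve hr hm hG he h₁ hu hlo (by omega)
    exact ih e' he' u' u' hu' hu' (by omega) hlt' (by omega)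

end Cfsg.Agent.ExtFieldMax
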