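import Cfsg.Agent.Lib.ExtFieldMax.Tools

/-!
Left `K`-invariant spaces of `F`-linear maps of `K` containing the elements coming from a
conjugated transvection contain every map of rank one.
-/

set_option autoImplicit false

namespace Cfsg.Agent.ExtFieldMax

open Module

variable {F K : Type*} [Field F] [Field K] [Algebra F K]

/-- The rank one map `k ↦ φ k • c`. -/
abbrev rk (φ : K →ₗ[F] F) (c : K) : Module.End F K := φ.smulRight c

theorem all_rk [FiniteDimensional F K] {E : AddSubgroup (Module.End F K)}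
    (hleft : ∀ a : K, ∀ M ∈ E, LinearMap.mulLeft F a ∘ₗ M ∈ E)
    (hright : ∀ a : K, ∀ M ∈ E, M ∘ₗ LinearMap.mulRight F a ∈ E)
    {ζ : K →ₗ[F] F} (hζ : ∃ x, ζ x = 1)
    (hgen : ∀ ν, ν ≠ 0 → ζ ν = 0 → ∃ φ : K →ₗ[F] F, ∀ l : K,
      (ζ ∘ₗ LinearMap.mulRight F l).smulRight ν - φ.smulRight (l + ζ l • ν) ∈ E)
    (htwo : ∃ ν ν' : K, ν ≠ 0 ∧ ν' ≠ 0 ∧ ν ≠ ν' ∧ ζ ν = 0 ∧ ζ ν' = 0) :
    ∀ (φ : K →ₗ[F] F) (c : K), rk φ c ∈ E := by
  have hζ0 : ζ ≠ 0 := fun h => by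
    obtain ⟨x, hx⟩ := hζ
    rw [h, LinearMap.zero_apply] at hx
    exact zero_ne_one hx
  -- one rank one map gives all of them
  have hone : ∀ (φ₀ : K →ₗ[F] F) (c₀ : K), φ₀ ≠ 0 → c₀ ≠ 0 → rk φ₀ c₀ ∈ E →
      ∀ (φ : K →ₗ[F] F) (c : K), rk φ c ∈ E := by
    intro φ₀ c₀ hφ₀ hc₀ hmem φ c
    obtain ⟨d, hd⟩ := dual_mul_surjective hφ₀ φ
    have := hright d _ (hleft (c * c₀⁻¹) _ hmem)
    convert this using 1
    ext k
    simp [hd, hc₀, Algebra.smul_def]
    field_simp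
  by_cases hA : ∀ ν, ν ≠ 0 → ζ ν = 0 → ∀ l : K,
      (ζ ∘ₗ LinearMap.mulRight F l).smulRight ν -
        (ζ ∘ₗ LinearMap.mulRight F ν).smulRight (l + ζ l • ν) ∈ E
  · obtain ⟨ν, ν', hν, hν', hne, hζν, hζν'⟩ := htwo
    -- `R l c` is `k ↦ ζ (k l) • c`
    set R : K → K → Module.End F K := fun l c => rk (ζ ∘ₗ LinearMap.mulRight F l) c with hR
    have hmul : ∀ a l c : K, LinearMap.mulLeft F a ∘ₗ R l c = R l (a * c) := fun a l c => by
      ext k; simp [hR]
    have hrel : ∀ μ, μ ≠ 0 → ζ μ = 0 → ∀ l c : K,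
        R l c - R μ (c * μ⁻¹ * l + ζ l • c) ∈ E := by
      intro μ hμ hζμ l c
      have := hleft (c * μ⁻¹) _ (hA μ hμ hζμ l)
      rw [LinearMap.comp_sub] at this
      rw [show c * μ⁻¹ * l + ζ l • c = c * μ⁻¹ * (l + ζ l • μ) by
        rw [mul_add, mul_smul_comm, inv_mul_cancel_right₀ hμ]]
      change LinearMap.mulLeft F _ ∘ₗ R l μ - LinearMap.mulLeft F _ ∘ₗ R μ (l + ζ l • μ) ∈ E at this
      rwa [hmul, hmul, inv_mul_cancel_right₀ hμ] at this
    obtain ⟨c₁, hc₁⟩ := hζ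
    have hv : ∀ c : K, R ν c ∈ E := by
      intro c
      set e := 1 - ν' * ν⁻¹ with he
      have he0 : e ≠ 0 := by
        rw [he, sub_ne_zero]
        intro h
        exact hne ((mul_inv_eq_one₀ hν).1 h.symm).symm
      set c' := c * e⁻¹
      have h1 := hrel ν hν hζν c₁ c'
      have h2 := hrel ν' hν' hζν' c₁ c'
      have h3 := hrel ν hν hζν ν' (c' * ν'⁻¹ * c₁ + ζ c₁ • c')
      rw [hζν', zero_smul, add_zero] at h3
      have h4 := E.sub_mem (E.add_mem h2 h3) h1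
      convert h4 using 1
      rw [hc₁, one_smul]
      have hRadd : ∀ l a b : K, R l (a + b) = R l a + R l b := fun l a b => by
        ext k; simp [hR]
      have : c' * ν⁻¹ * c₁ + c' = (c' * ν'⁻¹ * c₁ + c') * ν⁻¹ * ν' + c := by
        have hc : c = c' * e := by simp [c', he0]
        rw [hc, he]
        field_simp
        ring
      rw [this, hRadd ν _ c]
      abel
    intro φ c
    obtain ⟨l, hl⟩ := dual_mul_surjective hζ0 φ
    have : rk φ c = R l c := by ext k; simp [hR, hl]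
    rw [this, ← sub_add_cancel (R l c) (R ν (c * ν⁻¹ * l + ζ l • c))]
    exact E.add_mem (hrel ν hν hζν l c) (hv _)
  · push Not at hA
    obtain ⟨ν, hν, hζν, l, hl⟩ := hA
    obtain ⟨φ, hφ⟩ := hgen ν hν hζν
    have hne : ζ ∘ₗ LinearMap.mulRight F ν - φ ≠ 0 := fun h => hl (by
      rw [sub_eq_zero.1 h] at *; exact hφ l)
    refine hone _ ν hne hν ?_
    have := hφ ν
    rw [hζν, zero_smul, add_zero] at this
    convert this using 1
    ext k; simp [sub_smul]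

end Cfsg.Agent.ExtFieldMax
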