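import Cfsg.Agent.Lib.ExtFieldMax.Config
import Cfsg.Agent.Lib.ExtFieldMax.Plane

/-!
A subgroup containing the norm one `K`-linear maps and a map that is not semilinear
contains every transvection over the base field.
-/

set_option autoImplicit false

namespace Cfsg.Agent.ExtFieldMax

open Module Submodule

variable {F K V : Type*} [Field F] [Field K] [Algebra F K] [AddCommGroup V] [Module F V] [Module K V]
  [IsScalarTower F K V]

/-- The data of a conjugated line meeting a line in a hyperplane. -/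
theorem exists_frame [FiniteDimensional F K] {e : V ≃ₗ[F] V} {u₁ u : V} (h₁ : u₁ ≠ 0) (hu : u ≠ 0)
    (hd : finrank F (coef K e u₁ u) + 1 = finrank F K) :
    ∃ (c₀ d₀ : K) (ζ θ : K →ₗ[F] F), ζ c₀ = 1 ∧ θ d₀ = 1 ∧
      (∀ c ∈ coef K e u₁ u, ζ c = 0) ∧ (∀ c, ζ c = 0 → c ∈ coef K e u₁ u) ∧
      (∀ c, θ c = 0 → c ∈ coef K e.symm u u₁) ∧ (∀ c ∈ coef K e.symm u u₁, θ c = 0) ∧
      e.symm (c₀ • u) ∉ (K ∙ u₁) ∧ e (d₀ • u₁) ∉ (K ∙ u) := by
  have hd' : finrank F (coef K e.symm u u₁) + 1 = finrank F K := by rwa [finrank_coef_symm h₁ hu]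
  have hex : ∀ P : Submodule F K, finrank F P + 1 = finrank F K → ∃ c, c ∉ P := by
    intro P hP
    by_contra hall
    push Not at hall
    rw [show P = ⊤ from eq_top_iff.2 fun x _ => hall x, finrank_top] at hP
    omega
  obtain ⟨c₀, hc₀⟩ := hex _ hd
  obtain ⟨d₀, hd₀⟩ := hex _ hd'
  obtain ⟨ζ, hζc, hζP, hζs⟩ := exists_coord _ hd hc₀
  obtain ⟨θ, hθd, hθP, hθs⟩ := exists_coord _ hd' hd₀
  refine ⟨c₀, d₀, ζ, θ, hζc, hθd, hζP, fun c hc => ?_, fun c hc => ?_, hθP, fun h => ?_, fun h => ?_⟩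
  · have := hζs c; rwa [hc, zero_smul, sub_zero] at this
  · have := hθs c; rwa [hc, zero_smul, sub_zero] at this
  · obtain ⟨d, hd⟩ := Submodule.mem_span_singleton.1 h
    exact hc₀ (mem_coef.2 ⟨d, by rw [hd, e.apply_symm_apply]⟩)
  · obtain ⟨d, hd⟩ := Submodule.mem_span_singleton.1 h
    exact hd₀ (mem_coef_symm.2 ⟨d, hd.symm⟩)

/-- The functional `Φ` seen along the line of `u`. -/
theorem pull_eq [FiniteDimensional F K] {e : V ≃ₗ[F] V} {u₁ u : V} {c₀ : K} {ζ : K →ₗ[F] F}
    (hζc : ζ c₀ = 1) (hζ : ∀ c, ζ c = 0 → c ∈ coef K e u₁ u)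
    (Φ : V →ₗ[K] K) (hΦ : Φ u₁ = 0) (c : K) :
    Φ (e.symm (c • u)) = ζ c • Φ (e.symm (c₀ • u)) := by
  have hmem : c - ζ c • c₀ ∈ coef K e u₁ u := hζ _ (by simp [hζc])
  obtain ⟨d, hd⟩ := mem_coef.1 hmem
  have h2 : Φ (e.symm ((c - ζ c • c₀) • u)) = 0 := by
    rw [← hd, e.symm_apply_apply, map_smul, hΦ, smul_zero]
  rw [sub_smul, smul_assoc, map_sub, map_sub, LinearEquiv.map_smul, LinearMap.map_smul_of_tower] at h2
  exact sub_eq_zero.1 h2

theorem of_large [FiniteDimensional F K] [FiniteDimensional K V] (hm : 3 ≤ finrank K V)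
    {H : Subgroup (V ≃ₗ[F] V)} (hG : HasLin K H) {e : V ≃ₗ[F] V} (he : e ∈ H) {u₁ u : V} (h₁ : u₁ ≠ 0)
    (hu : u ≠ 0) (hd : finrank F (coef K e u₁ u) + 1 = finrank F K) :
    ∃ f : V →ₗ[F] F, f ≠ 0 ∧ (∀ c : K, f (c • u) = 0) ∧ InH H (f.smulRight u) := by
  obtain ⟨c₀, d₀, ζ, θ, hζc, hθd, hζP, hζm, hθm, hθP, hy₀, hr₀⟩ := exists_frame h₁ hu hd
  set y₀ := e.symm (c₀ • u) with hy
  have hlt : span K ({u₁, y₀} : Set V) ≠ ⊤ := by
    intro h
    classical
    have h2 := finrank_span_finset_le_card (R := K) ({u₁, y₀} : Finset V)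
    rw [show ((({u₁, y₀} : Finset V)) : Set V) = {u₁, y₀} by simp, Set.finrank, h, finrank_top] at h2
    have := Finset.card_le_two (a := u₁) (b := y₀)
    omega
  obtain ⟨y₂, hy₂⟩ : ∃ y, y ∉ span K ({u₁, y₀} : Set V) := by
    by_contra hall
    push Not at hall
    exact hlt (eq_top_iff.2 fun x _ => hall x)
  obtain ⟨Φ, hΦ, hΦy⟩ := exists_dual_one (F := K) _ hy₂
  have hΦu : Φ u₁ = 0 := hΦ _ (subset_span (by simp))
  have hΦy₀ : Φ y₀ = 0 := hΦ _ (subset_span (by simp))
  have hΦW : ∀ c : K, Φ (e.symm (c • u)) = 0 := fun c => by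
    rw [pull_eq hζc hζm Φ hΦu c, hΦy₀, smul_zero]
  obtain ⟨ψ, hψ, hψr⟩ := exists_dual_one (F := K) _ hr₀
  have hψu : ψ u = 0 := hψ _ (mem_span_singleton_self u)
  -- the two transvections
  set A : Module.End F V := (ψ.smulRight u).restrictScalars F with hA
  set B : Module.End F V := e.toLinearMap ∘ₗ (Φ.smulRight u₁).restrictScalars F ∘ₗ e.symm.toLinearMap
    with hB
  have hInA : InH H A := hasLin_trv hG ψ u hψu
  have hInB : InH H B := (hasLin_trv hG Φ u₁ hΦu).conj he
  have hAx : ∀ x, A x = ψ x • u := fun x => rfl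
  have hBx : ∀ x, B x = e (Φ (e.symm x) • u₁) := fun x => rfl
  have hψR : ∀ d : K, ψ (e (d • u₁)) = algebraMap F K (θ d) := by
    intro d
    have hθm' : ∀ c, θ c = 0 → c ∈ coef K e.symm u u₁ := hθm
    rw [show d • u₁ = e.symm (e (d • u₁)) from (e.symm_apply_apply _).symm]
    have := pull_eq (e := e.symm) (u₁ := u) (u := u₁) hθd hθm' ψ hψu d
    simp only [LinearEquiv.symm_symm] at this
    rw [e.symm_apply_apply, this, hψr, Algebra.smul_def, mul_one]
  have hInAB : InH H (A * B) := by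
    refine hInA.comm_mul hInB (fun x => ?_) (fun x => ?_) fun x => ?_
    · rw [hAx, hAx, map_smul, hψu]; simp
    · rw [hBx, hBx, e.symm_apply_apply, Φ.map_smul, hΦu]; simp
    · rw [hAx, hBx, hΦW]; simp
  let f : V →ₗ[F] F := θ ∘ₗ Φ.restrictScalars F ∘ₗ e.symm.toLinearMap
  have hfx : ∀ x, f x = θ (Φ (e.symm x)) := fun x => rfl
  refine ⟨f, fun h => ?_, fun c => by rw [hfx, hΦW, map_zero], hInAB.congr fun x => ?_⟩
  · have := LinearMap.congr_fun h (e (d₀ • y₂))
    rw [hfx, e.symm_apply_apply, map_smul, hΦy, smul_eq_mul, mul_one, hθd] at this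
    exact one_ne_zero this
  · show A (B x) = f x • u
    rw [hAx, hBx, hψR, algebraMap_smul, hfx]

/-- Scaling along a functional. -/
def scaleEquiv (χ : V →ₗ[K] K) (v : V) (a : K) (hv : χ v = 1) (ha : a ≠ 0) : V ≃ₗ[K] V :=
  LinearEquiv.ofLinearMap (LinearMap.id + χ.smulRight ((a - 1) • v)) (LinearMap.id + χ.smulRight ((a⁻¹ - 1) • v))
    (by
      ext x
      simp only [LinearMap.coe_comp, Function.comp_apply, LinearMap.add_apply, LinearMap.id_coe, id_eq,
        LinearMap.smulRight_apply, map_add, map_smul, hv, smul_eq_mul, mul_one]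
      match_scalars <;> field_simp <;> ring)
    (by
      ext x
      simp only [LinearMap.coe_comp, Function.comp_apply, LinearMap.add_apply, LinearMap.id_coe, id_eq,
        LinearMap.smulRight_apply, map_add, map_smul, hv, smul_eq_mul, mul_one]
      match_scalars <;> field_simp <;> ring)

theorem scale_mem [FiniteDimensional F K] [FiniteDimensional K V] {H : Subgroup (V ≃ₗ[F] V)} (hG : HasLin K H)
    (χ : V →ₗ[K] K) (v : V) (a : K) (hv : χ v = 1) (ha : Algebra.norm F a = 1) :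
    ∃ g ∈ H, (∀ x, g x = x + (χ x * (a - 1)) • v) ∧ ∀ x, g.symm x = x + (χ x * (a⁻¹ - 1)) • v := by
  have ha0 : a ≠ 0 := fun h => by rw [h, Algebra.norm_zero] at ha; exact zero_ne_one ha
  refine ⟨(scaleEquiv χ v a hv ha0).restrictScalars F, hG _ ?_, fun x => ?_, fun x => ?_⟩
  · rw [det_restrict]
    have : ((scaleEquiv χ v a hv ha0 : V ≃ₗ[K] V) : V →ₗ[K] V) = LinearMap.transvection χ ((a - 1) • v) := rfl
    rw [this, LinearMap.transvection.det, map_smul, hv, smul_eq_mul, mul_one, add_sub_cancel, ha]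
  · show x + χ x • ((a - 1) • v) = _
    rw [smul_smul]
  · show x + χ x • ((a⁻¹ - 1) • v) = _
    rw [smul_smul]

theorem of_plane [Finite F] [Finite K] [FiniteDimensional F K] [FiniteDimensional K V] (hr : (finrank F K).Prime)
    (hm : finrank K V = 2) (hex : ¬ (Nat.card F = 2 ∧ finrank F K = 2))
    {H : Subgroup (V ≃ₗ[F] V)} (hG : HasLin K H) {e : V ≃ₗ[F] V} (he : e ∈ H) {u₁ u : V} (h₁ : u₁ ≠ 0)
    (hu : u ≠ 0) (hd : finrank F (coef K e u₁ u) + 1 = finrank F K) :
    ∀ f : V →ₗ[F] F, (∀ c : K, f (c • u) = 0) → InH H (f.smulRight u) := by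
  obtain ⟨c₀, d₀, ζ, θ, hζc, hθd, hζP, hζm, hθm, hθP, hy₀, hr₀⟩ := exists_frame h₁ hu hd
  set y₀ := e.symm (c₀ • u) with hy
  set r₀ := e (d₀ • u₁) with hr0def
  obtain ⟨Φ, hΦ, hΦy⟩ := exists_dual_one (F := K) _ hy₀
  obtain ⟨ψ, hψ, hψr⟩ := exists_dual_one (F := K) _ hr₀
  have hψu : ψ u = 0 := hψ _ (mem_span_singleton_self u)
  have hΦu : Φ u₁ = 0 := hΦ _ (mem_span_singleton_self u₁)
  have hker : (K ∙ u) = LinearMap.ker ψ := by
    refine Submodule.eq_of_le_of_finrank_le (fun w hw => hψ w hw) ?_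
    have hne : ψ.range ≠ ⊥ := fun h => by
      have : ψ r₀ ∈ ψ.range := ⟨r₀, rfl⟩
      rw [h, Submodule.mem_bot, hψr] at this
      exact one_ne_zero this
    have h1 := ψ.finrank_range_add_finrank_ker
    have h2 := Submodule.one_le_finrank_iff.mpr hne
    rw [finrank_span_singleton hu]
    omega
  have hdec : ∀ x, ∃ c : K, x = c • u + ψ x • r₀ := by
    intro x
    have : x - ψ x • r₀ ∈ (K ∙ u) := by
      rw [hker, LinearMap.mem_ker, map_sub, map_smul, hψr, smul_eq_mul, mul_one, sub_self]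
    obtain ⟨c, hc⟩ := mem_span_singleton.1 this
    exact ⟨c, by rw [hc, sub_add_cancel]⟩
  have hψc : ∀ c : K, ψ (c • u) = 0 := fun c => by rw [map_smul, hψu, smul_zero]
  -- the maps trivial on the line and on the quotient
  let T : Module.End F K →+ Module.End F V :=
    { toFun := fun M => lineMap F K V u ∘ₗ M ∘ₗ ψ.restrictScalars F
      map_zero' := by ext; simp
      map_add' := fun M N => by ext; simp [add_smul] }
  have hT : ∀ M x, T M x = M (ψ x) • u := fun M x => rfl
  have hTT : ∀ M N x, T M (T N x) = 0 := fun M N x => by rw [hT, hT, hψc, map_zero, zero_smul]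
  let E : AddSubgroup (Module.End F K) :=
    { carrier := {M | InH H (T M)}
      zero_mem' := by rw [Set.mem_setOf_eq, map_zero]; exact InH.zero
      add_mem' := fun {M N} hM hN => by
        rw [Set.mem_setOf_eq, map_add]; exact InH.add hM hN (hTT M N)
      neg_mem' := fun {M} hM => by
        rw [Set.mem_setOf_eq, map_neg]; exact InH.neg hM (hTT M M) }
  -- the two torus actions
  have hleft : ∀ a : K, ∀ M ∈ E, LinearMap.mulLeft F a ∘ₗ M ∈ E := by
    let L : Subring K :=
      { carrier := {a | ∀ M ∈ E, LinearMap.mulLeft F a ∘ₗ M ∈ E}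
        mul_mem' := fun {a b} ha hb M hM => by
          rw [LinearMap.mulLeft_mul, LinearMap.comp_assoc]; exact ha _ (hb M hM)
        one_mem' := fun M hM => by rwa [LinearMap.mulLeft_one, LinearMap.id_comp]
        add_mem' := fun {a b} ha hb M hM => by
          rw [show LinearMap.mulLeft F (a + b) ∘ₗ M = LinearMap.mulLeft F a ∘ₗ M + LinearMap.mulLeft F b ∘ₗ M by
            ext; simp [add_mul]]
          exact E.add_mem (ha M hM) (hb M hM)
        zero_mem' := fun M hM => by
          rw [LinearMap.mulLeft_zero_eq_zero, LinearMap.zero_comp]; exact E.zero_mem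
        neg_mem' := fun {a} ha M hM => by
          rw [show LinearMap.mulLeft F (-a) ∘ₗ M = -(LinearMap.mulLeft F a ∘ₗ M) by ext; simp]
          exact E.neg_mem (ha M hM) }
    refine subring_eq_top hr.two_le L fun a ha M hM => ?_
    obtain ⟨χ, hχ, hχu⟩ := exists_dual_one (F := K) (K ∙ r₀) (y := u) (fun h => by
      obtain ⟨c, hc⟩ := mem_span_singleton.1 h
      have := congrArg ψ hc
      rw [map_smul, hψr, hψu, smul_eq_mul, mul_one] at this
      rw [this, zero_smul] at hc
      exact hu hc.symm)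
    obtain ⟨g, hg, hgx, hgs⟩ := scale_mem hG χ u a hχu ha
    show InH H (T _)
    refine ((hM : InH H (T M)).conj hg).congr fun x => ?_
    simp only [LinearMap.coe_comp, LinearEquiv.coe_coe, Function.comp_apply, hT, hgx, hgs, map_smul, hχu,
      smul_eq_mul, mul_one, LinearMap.mulLeft_apply, map_add, hψu, mul_zero, add_zero, ← add_smul]
    congr 1
    ring
  have hright : ∀ a : K, ∀ M ∈ E, M ∘ₗ LinearMap.mulRight F a ∈ E := by
    let L : Subring K :=
      { carrier := {a | ∀ M ∈ E, M ∘ₗ LinearMap.mulRight F a ∈ E}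
        mul_mem' := fun {a b} ha hb M hM => by
          rw [show M ∘ₗ LinearMap.mulRight F (a * b) = (M ∘ₗ LinearMap.mulRight F b) ∘ₗ LinearMap.mulRight F a by
            ext; simp [mul_assoc]]
          exact ha _ (hb M hM)
        one_mem' := fun M hM => by rwa [LinearMap.mulRight_one, LinearMap.comp_id]
        add_mem' := fun {a b} ha hb M hM => by
          rw [show M ∘ₗ LinearMap.mulRight F (a + b) = M ∘ₗ LinearMap.mulRight F a + M ∘ₗ LinearMap.mulRight F b by
            ext; simp [mul_add]]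
          exact E.add_mem (ha M hM) (hb M hM)
        zero_mem' := fun M hM => by
          rw [LinearMap.mulRight_zero_eq_zero, LinearMap.comp_zero]; exact E.zero_mem
        neg_mem' := fun {a} ha M hM => by
          rw [show M ∘ₗ LinearMap.mulRight F (-a) = -(M ∘ₗ LinearMap.mulRight F a) by ext; simp]
          exact E.neg_mem (ha M hM) }
    refine subring_eq_top hr.two_le L fun a ha M hM => ?_
    have ha0 : a ≠ 0 := fun h => by rw [h, Algebra.norm_zero] at ha; exact zero_ne_one ha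
    obtain ⟨g, hg, hgx, hgs⟩ := scale_mem hG ψ r₀ a⁻¹ hψr (by rw [Algebra.norm_inv, ha, inv_one])
    show InH H (T _)
    refine ((hM : InH H (T M)).conj hg).congr fun x => ?_
    simp only [LinearMap.coe_comp, LinearEquiv.coe_coe, Function.comp_apply, hT, hgx, hgs, map_smul, hψu,
      smul_eq_mul, LinearMap.mulRight_apply, map_add, hψr, mul_one, mul_zero, zero_mul, zero_smul, add_zero, inv_inv]
    congr 1
    rw [← map_add]
    congr 1
    ring
  -- the generators coming from the conjugated transvections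
  have hΦW : ∀ c : K, Φ (e.symm (c • u)) = algebraMap F K (ζ c) := fun c => by
    rw [pull_eq hζc hζm Φ hΦu c, hΦy, Algebra.smul_def, mul_one]
  have hψR : ∀ d : K, ψ (e (d • u₁)) = algebraMap F K (θ d) := by
    intro d
    rw [show d • u₁ = e.symm (e (d • u₁)) from (e.symm_apply_apply _).symm]
    have := pull_eq (e := e.symm) (u₁ := u) (u := u₁) hθd hθm ψ hψu d
    simp only [LinearEquiv.symm_symm] at this
    rw [e.symm_apply_apply, this, ← hr0def, hψr, Algebra.smul_def, mul_one]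
  have hgen : ∀ ν, ν ≠ 0 → ζ ν = 0 → ∃ φ : K →ₗ[F] F, ∀ l : K,
      (ζ ∘ₗ LinearMap.mulRight F l).smulRight ν - φ.smulRight (l + ζ l • ν) ∈ E := by
    intro ν _ hζν
    obtain ⟨μ, hμ⟩ := mem_coef.1 (hζm ν hζν)
    have hθμ : θ μ = 0 := hθP μ (mem_coef_symm.2 ⟨ν, hμ⟩)
    set B : Module.End F V :=
      e.toLinearMap ∘ₗ (Φ.smulRight (μ • u₁)).restrictScalars F ∘ₗ e.symm.toLinearMap with hB
    have hInB : InH H B := (hasLin_trv hG Φ (μ • u₁) (by rw [map_smul, hΦu, smul_zero])).conj he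
    have hBx : ∀ x, B x = e ((Φ (e.symm x) * μ) • u₁) := fun x => by
      show e (Φ (e.symm x) • μ • u₁) = _
      rw [smul_smul]
    have hBW : ∀ c : K, B (c • u) = ζ c • (ν • u) := fun c => by
      rw [hBx, hΦW, mul_smul, algebraMap_smul, map_smul, hμ]
    have hBB : ∀ x, B (B x) = 0 := fun x => by
      rw [hBx, hBx, e.symm_apply_apply, Φ.map_smul, hΦu]; simp
    obtain ⟨b, hb, hbx⟩ := id hInB
    have hbs : ∀ x, b.symm x = x - B x := fun x => b.injective (by
      rw [b.apply_symm_apply, hbx, map_sub, hBB]; abel)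
    let g : V →ₗ[F] F := θ ∘ₗ LinearMap.mulRight F μ ∘ₗ Φ.restrictScalars F ∘ₗ e.symm.toLinearMap
    have hψB : ∀ x, ψ (B x) = algebraMap F K (g x) := fun x => by rw [hBx, hψR]; rfl
    have hgW : ∀ c : K, g (c • u) = 0 := fun c => by
      show θ (Φ (e.symm (c • u)) * μ) = 0
      rw [hΦW, ← Algebra.smul_def, map_smul, hθμ, smul_zero]
    refine ⟨g ∘ₗ lineMap F K V r₀, fun l => ?_⟩
    have hA : InH H (T (LinearMap.mulRight F l)) := by
      refine (hasLin_trv hG ψ (l • u) (hψc l)).congr fun x => ?_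
      show ψ x • l • u = _
      rw [smul_smul, hT]; simp
    show InH H (T _)
    refine ((hA.conj hb).sub hA (hTT _ _) fun x => ?_).congr fun x => ?_
    · show b (T _ (b.symm (T _ x))) = 0
      have : ∀ c : K, T (LinearMap.mulRight F l) (b.symm (c • u)) = 0 := fun c => by
        rw [hbs, hBW, ← smul_assoc, ← sub_smul, hT, hψc, map_zero, zero_smul]
      rw [hT _ x, this, map_zero]
    · obtain ⟨c, hc⟩ := hdec x
      have hg : g x = g (ψ x • r₀) := by
        conv_lhs => rw [hc]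
        rw [map_add, hgW, zero_add]
      show b (T _ (b.symm x)) - T _ x = T _ x
      simp only [hT, hbs, hbx, map_sub, hψB, hBW, LinearMap.mulRight_apply, LinearMap.sub_apply,
        LinearMap.smulRight_apply, LinearMap.comp_apply, lineMap_apply, sub_mul, sub_smul, map_smul,
        ← Algebra.smul_def, ← smul_assoc, hg]
      simp only [sub_smul, smul_sub, smul_add, add_smul, smul_assoc, mul_smul]
      abel
  -- two kernel elements
  have htwo : ∃ ν ν' : K, ν ≠ 0 ∧ ν' ≠ 0 ∧ ν ≠ ν' ∧ ζ ν = 0 ∧ ζ ν' = 0 := by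
    classical
    haveI : Fintype (coef K e u₁ u) := Fintype.ofFinite _
    have hcard : 3 ≤ Fintype.card (coef K e u₁ u) := by
      rw [← Nat.card_eq_fintype_card, Module.natCard_eq_pow_finrank (K := F)]
      have hF : 2 ≤ Nat.card F := Finite.one_lt_card
      have h2 := hr.two_le
      by_cases h : Nat.card F = 2
      · have : 2 ≤ finrank F (coef K e u₁ u) := by
          by_contra hlt
          exact hex ⟨h, by omega⟩
        calc 3 ≤ Nat.card F ^ 2 := by rw [h]; norm_num
          _ ≤ _ := Nat.pow_le_pow_right (by omega) this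
      · calc 3 ≤ Nat.card F ^ 1 := by rw [pow_one]; omega
          _ ≤ _ := Nat.pow_le_pow_right (by omega) (by omega)
    have h2 : 1 < (Finset.univ.erase (0 : coef K e u₁ u)).card := by
      rw [Finset.card_erase_of_mem (Finset.mem_univ _), Finset.card_univ]; omega
    obtain ⟨a, ha, b, hb, hab⟩ := Finset.one_lt_card.1 h2
    refine ⟨a, b, ?_, ?_, fun h => hab (Subtype.ext h), hζP _ a.2, hζP _ b.2⟩
    · exact fun h => (Finset.mem_erase.1 ha).1 (Subtype.ext h)
    · exact fun h => (Finset.mem_erase.1 hb).1 (Subtype.ext h)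
  have hall := all_rk hleft hright ⟨c₀, hζc⟩ hgen htwo
  intro f hf
  have hmem := hall (f ∘ₗ lineMap F K V r₀) 1
  refine (hmem : InH H (T _)).congr fun x => ?_
  obtain ⟨c, hc⟩ := hdec x
  have hfx : f x = f (ψ x • r₀) := by
    conv_lhs => rw [hc]
    rw [map_add, hf, zero_add]
  rw [hT]
  simp [hfx]

end Cfsg.Agent.ExtFieldMax
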