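import Cfsg.Agent.Lib.ExtFieldMax.Extract

/-!
All transvections over the base field.
-/

set_option autoImplicit false

namespace Cfsg.Agent.ExtFieldMax

open Module Submodule

variable {F K V : Type*} [Field F] [Field K] [Algebra F K] [AddCommGroup V] [Module F V] [Module K V]
  [IsScalarTower F K V]

theorem InH.transfer {H : Subgroup (V ≃ₗ[F] V)} {g : V ≃ₗ[F] V} (hg : g ∈ H) {z : V} {f : V →ₗ[F] F}
    (h : InH H (f.smulRight z)) : InH H ((f ∘ₗ g.symm.toLinearMap).smulRight (g z)) :=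
  (h.conj hg).congr fun x => by simp

theorem line_all_of_one [FiniteDimensional F K] [FiniteDimensional K V] (hm : 3 ≤ finrank K V)
    {H : Subgroup (V ≃ₗ[F] V)} (hG : HasLin K H) {z : V} (hz : z ≠ 0) {f₀ : V →ₗ[F] F} (hf₀ : f₀ ≠ 0)
    (hf₀z : ∀ c : K, f₀ (c • z) = 0) (h₀ : InH H (f₀.smulRight z)) :
    ∀ f : V →ₗ[F] F, (∀ c : K, f (c • z) = 0) → InH H (f.smulRight z) := by
  -- functionals killing the lines of `z` and of `v`
  have step : ∀ (f₁ : V →ₗ[F] F) (v : V), (∀ c : K, f₁ (c • z) = 0) → f₁ v ≠ 0 → InH H (f₁.smulRight z) →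
      ∀ f : V →ₗ[F] F, (∀ c : K, f (c • z) = 0) → (∀ c : K, f (c • v) = 0) → InH H (f.smulRight z) := by
    intro f₁ v hf₁z hf₁v h₁ f hfz hfv
    have hg : f₁ ∘ₗ lineMap F K V v ≠ 0 := fun h => hf₁v (by simpa using LinearMap.congr_fun h 1)
    obtain ⟨Φ, hΦ⟩ := dual_rep hg f
    have hkill : ∀ w : V, (∀ c : K, f (c • w) = 0) → Φ w = 0 := by
      intro w hw
      by_contra hne
      refine hf₁v ?_
      have := hw ((Φ w)⁻¹)
      rw [hΦ, map_smul, smul_eq_mul, inv_mul_cancel₀ hne] at this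
      simpa using this
    obtain ⟨g, hg', hgx⟩ := hasLin_trv hG Φ v (hkill v hfv)
    have hgs : ∀ x, g.symm x = x - Φ x • v := fun x => g.injective (by
      rw [g.apply_symm_apply, hgx]
      simp [hkill v hfv])
    have hgz : g z = z := by rw [hgx]; simp [hkill z hfz]
    have h2 := h₁.transfer hg'
    rw [hgz] at h2
    refine (h₁.sub h2 (fun x => ?_) fun x => ?_).congr fun x => ?_
    · have : g.symm z = z := by rw [hgs, hkill z hfz, zero_smul, sub_zero]
      simp [this, show f₁ z = 0 by simpa using hf₁z 1]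
    · simp [show f₁ z = 0 by simpa using hf₁z 1]
    · simp [hgs, hΦ x, sub_smul]
  obtain ⟨v, hv⟩ : ∃ v, f₀ v ≠ 0 := by
    by_contra h
    push Not at h
    exact hf₀ (LinearMap.ext h)
  have hvz : v ∉ (K ∙ z) := by
    intro h
    obtain ⟨c, rfl⟩ := mem_span_singleton.1 h
    exact hv (hf₀z c)
  classical
  have hlt : span K ({z, v} : Set V) ≠ ⊤ := by
    intro h
    have h2 := finrank_span_finset_le_card (R := K) ({z, v} : Finset V)
    rw [show ((({z, v} : Finset V)) : Set V) = {z, v} by simp, Set.finrank, h, finrank_top] at h2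
    have := Finset.card_le_two (a := z) (b := v)
    omega
  obtain ⟨v', hv'⟩ : ∃ y, y ∉ span K ({z, v} : Set V) := by
    by_contra hall
    push Not at hall
    exact hlt (eq_top_iff.2 fun x _ => hall x)
  obtain ⟨Φ', hΦ', hΦ'v'⟩ := exists_dual_one (F := K) _ hv'
  have hvzv' : v ∉ span K ({z, v'} : Set V) := by
    intro h
    obtain ⟨a, b, hab⟩ := mem_span_pair.1 h
    by_cases hb : b = 0
    · exact hvz (mem_span_singleton.2 ⟨a, by rw [← hab, hb, zero_smul, add_zero]⟩)
    · refine hv' (mem_span_pair.2 ⟨-(b⁻¹ * a), b⁻¹, ?_⟩)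
      rw [← hab, smul_add, smul_smul, smul_smul, inv_mul_cancel₀ hb, one_smul, neg_smul]; abel
  obtain ⟨Φv, hΦv, hΦvv⟩ := exists_dual_one (F := K) _ hvzv'
  -- a functional that is non-zero at `v'`
  obtain ⟨τ, hτ⟩ : ∃ τ : K →ₗ[F] F, τ 1 = 1 := by
    obtain ⟨τ, -, h⟩ := exists_dual_one (F := F) (⊥ : Submodule F K) (y := 1) (by simp)
    exact ⟨τ, h⟩
  set f₂ : V →ₗ[F] F := τ ∘ₗ Φ'.restrictScalars F
  have hk : ∀ w ∈ ({z, v} : Set V), ∀ c : K, f₂ (c • w) = 0 := fun w hw c => by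
    simp [f₂, hΦ' w (subset_span hw)]
  have h₂ := step f₀ v hf₀z hv h₀ f₂ (hk z (by simp)) (hk v (by simp))
  have hv'2 : f₂ v' ≠ 0 := by simp [f₂, hΦ'v', hτ]
  intro f hf
  set fb : V →ₗ[F] F := f ∘ₗ lineMap F K V v ∘ₗ Φv.restrictScalars F
  have hb := step f₂ v' (hk z (by simp)) hv'2 h₂ fb
    (fun c => by simp [fb, hΦv z (subset_span (by simp))])
    (fun c => by simp [fb, hΦv v' (subset_span (by simp))])
  have ha := step f₀ v hf₀z hv h₀ (f - fb)
    (fun c => by simp [fb, hΦv z (subset_span (by simp)), hf c])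
    (fun c => by simp [fb, hΦvv])
  refine (ha.add hb fun x => ?_).congr fun x => ?_
  · have h1 : f z = 0 := by simpa using hf 1
    simp [fb, h1, hΦv z (subset_span (by simp))]
  · simp [sub_smul]

theorem all_trv_of_line [FiniteDimensional F K] [FiniteDimensional K V] (hm : 2 ≤ finrank K V)
    {H : Subgroup (V ≃ₗ[F] V)} (hG : HasLin K H) {u : V} (hu : u ≠ 0)
    (h : ∀ f : V →ₗ[F] F, (∀ c : K, f (c • u) = 0) → InH H (f.smulRight u)) :
    ∀ (z : V) (f : V →ₗ[F] F), f z = 0 → InH H (f.smulRight z) := by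
  have hline : ∀ z, z ≠ 0 → ∀ f : V →ₗ[F] F, (∀ c : K, f (c • z) = 0) → InH H (f.smulRight z) := by
    intro z hz f hf
    obtain ⟨g, hg, hgu⟩ := trans_line hm hG hu hz
    have h1 := (h (f ∘ₗ (g.restrictScalars F).toLinearMap) fun c => by simp [hgu, hf]).transfer hg
    refine h1.congr fun x => ?_
    simp [hgu]
  intro z f hfz
  by_cases hz : z = 0
  · exact InH.zero.congr fun x => by simp [hz]
  -- a line outside that of `z`
  obtain ⟨y, hy⟩ : ∃ y, y ∉ (K ∙ z) := by
    by_contra hall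
    push Not at hall
    have := finrank_span_singleton (K := K) hz
    rw [show (K ∙ z) = ⊤ from eq_top_iff.2 fun x _ => hall x, finrank_top] at this
    omega
  have hy0 : y ≠ 0 := fun e => hy (by rw [e]; exact zero_mem _)
  have hzy : z ∉ (K ∙ y) := by
    intro hm'
    obtain ⟨c, hc⟩ := mem_span_singleton.1 hm'
    have hc0 : c ≠ 0 := fun e => hz (by rw [← hc, e, zero_smul])
    exact hy (mem_span_singleton.2 ⟨c⁻¹, by rw [← hc, smul_smul, inv_mul_cancel₀ hc0, one_smul]⟩)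
  obtain ⟨P, hP, hPz⟩ := exists_dual_one (F := K) _ hzy
  set fW : V →ₗ[F] F := f ∘ₗ lineMap F K V z ∘ₗ P.restrictScalars F with hfW
  have hPy : P y = 0 := hP _ (mem_span_singleton_self y)
  have hfWy : ∀ c : K, fW (c • y) = 0 := fun c => by simp [hfW, hPy]
  have hfWz : fW z = 0 := by simp [hfW, hPz, hfz]
  have hC := hline z hz (f - fW) fun c => by simp [hfW, hPz]
  -- the part seen on the line of `z`
  obtain ⟨Q, hQ, hQy⟩ := exists_dual_one (F := K) _ hy
  obtain ⟨τ, hτ⟩ : ∃ τ : K →ₗ[F] F, τ 1 = 1 := by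
    obtain ⟨τ, -, h⟩ := exists_dual_one (F := F) (⊥ : Submodule F K) (y := 1) (by simp)
    exact ⟨τ, h⟩
  set f₁ : V →ₗ[F] F := τ ∘ₗ Q.restrictScalars F
  have hQz : Q z = 0 := hQ _ (mem_span_singleton_self z)
  have hA := hline z hz f₁ fun c => by simp [f₁, hQz]
  have hB := hline y hy0 fW hfWy
  have hW : InH H (fW.smulRight z) := by
    refine (hA.comm_mul hB (fun x => ?_) (fun x => ?_) fun x => ?_).congr fun x => ?_
    · simp [f₁, hQz]
    · simp [show fW y = 0 by simpa using hfWy 1]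
    · simp [hfWz]
    · simp [f₁, hQy, hτ]
  refine (hC.add hW fun x => ?_).congr fun x => ?_
  · simp [hfz, hfWz]
  · simp [sub_smul]

/-- Overgroups of the special linear group over an extension field. -/
theorem all_trv [Finite F] [Finite K] [FiniteDimensional F K] [FiniteDimensional K V]
    (hr : (finrank F K).Prime) (hm : 2 ≤ finrank K V)
    (hex : finrank K V = 2 → ¬ (Nat.card F = 2 ∧ finrank F K = 2))
    {H : Subgroup (V ≃ₗ[F] V)} (hG : HasLin K H)
    (hne : ∃ e ∈ H, ∃ (v : V) (c : K), ∀ d : K, e (c • v) ≠ d • e v) :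
    ∀ (z : V) (f : V →ₗ[F] F), f z = 0 → InH H (f.smulRight z) := by
  obtain ⟨e, he, u₁, u, h₁, hu, hd⟩ := exists_config hr hm hG hne
  refine all_trv_of_line hm hG hu ?_
  rcases eq_or_lt_of_le hm with h2 | h3
  · exact of_plane hr h2.symm (hex h2.symm) hG he h₁ hu hd
  · obtain ⟨f, hf, hfu, hin⟩ := of_large h3 hG he h₁ hu hd
    exact line_all_of_one h3 hG hu hf hfu hin

end Cfsg.Agent.ExtFieldMax
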