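import Cfsg.Agent.Lib.ExtFieldMax.Config

/-!
Symmetric forms over an extension field seen over the base field: Siegel elements and the
existence of vectors with prescribed values.
-/

set_option autoImplicit false

namespace Cfsg.Agent.ExtFieldMax.Orth

open Module Submodule

section Warning

open MvPolynomial in
/-- Few quadrics through the origin have a common non-zero point. -/
theorem exists_common_zero {F W : Type*} [Field F] [Finite F] [AddCommGroup W] [Module F W]
    [FiniteDimensional F W] {ι : Type*} [Fintype ι] (f : ι → LinearMap.BilinForm F W)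
    (g : ι → W →ₗ[F] F) (h : 2 * Fintype.card ι < finrank F W) :
    ∃ x, x ≠ 0 ∧ ∀ i, f i x x + g i x = 0 := by
  classical
  cases nonempty_fintype F
  set b := Module.finBasis F W
  let p : ι → MvPolynomial (Fin (finrank F W)) F := fun i =>
    ∑ j, (∑ k, C (f i (b j) (b k)) * X j * X k + C (g i (b j)) * X j)
  have hdeg : ∀ i, (p i).totalDegree ≤ 2 := fun i => by
    refine totalDegree_finsetSum_le fun j _ => (totalDegree_add _ _).trans (max_le ?_ ?_)
    · refine totalDegree_finsetSum_le fun k _ => (totalDegree_mul _ _).trans ?_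
      refine (Nat.add_le_add (totalDegree_mul _ _) le_rfl).trans ?_
      simp [totalDegree_C, totalDegree_X]
    · refine (totalDegree_mul _ _).trans ?_
      simp [totalDegree_C, totalDegree_X]
  have hev : ∀ (i : ι) (x : Fin (finrank F W) → F),
      eval x (p i) = f i (b.equivFun.symm x) (b.equivFun.symm x) + g i (b.equivFun.symm x) := by
    intro i x
    simp only [p, Basis.equivFun_symm_apply, map_sum, map_smul, LinearMap.sum_apply, LinearMap.smul_apply,
      eval_add, eval_mul, eval_C, eval_X, smul_eq_mul, Finset.sum_add_distrib, map_add]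
    congr 1
    · rw [Finset.sum_comm]
      refine Finset.sum_congr rfl fun j _ => ?_
      rw [Finset.mul_sum]
      refine Finset.sum_congr rfl fun k _ => ?_
      ring
    · exact Finset.sum_congr rfl fun j _ => mul_comm _ _
  obtain ⟨q, hq⟩ := CharP.exists F
  haveI := hq
  have hsum : (∑ i, (p i).totalDegree) < Fintype.card (Fin (finrank F W)) := by
    refine (Finset.sum_le_sum fun i _ => hdeg i).trans_lt ?_
    simp only [Finset.sum_const, Finset.card_univ, smul_eq_mul, Fintype.card_fin]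
    omega
  have hdvd := char_dvd_card_solutions_of_fintype_sum_lt (K := F) q hsum
  by_contra hne
  push Not at hne
  have hone : Fintype.card {x : Fin (finrank F W) → F // ∀ i, eval x (p i) = 0} = 1 := by
    refine Fintype.card_eq_one_iff.2 ⟨⟨0, fun i => ?_⟩, fun ⟨x, hx⟩ => Subtype.ext ?_⟩
    · rw [hev]; simp
    · by_contra hx0
      obtain ⟨i, hi⟩ := hne (b.equivFun.symm x) (fun e => hx0 (b.equivFun.symm.map_eq_zero_iff.1 e))
      exact hi (by rw [← hev]; exact hx i)
  rw [hone, Nat.dvd_one] at hdvd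
  exact CharP.ringChar_ne_one (R := F) (by rw [ringChar.eq F q, hdvd])

end Warning

variable {F K V : Type*} [Field F] [Field K] [Algebra F K] [AddCommGroup V] [Module F V] [Module K V]
  [IsScalarTower F K V]

/-- `β` is the symmetric non-degenerate form over `K` whose trace by `τ` is `B`. -/
structure ExtOrth (B : LinearMap.BilinForm F V) (τ : K →ₗ[F] F) (β : V →ₗ[K] V →ₗ[K] K) : Prop where
  τne : τ ≠ 0
  spec : ∀ x y, τ (β x y) = B x y
  symm : ∀ x y, β x y = β y x
  nondeg : ∀ u, (∀ x, β u x = 0) → u = 0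
  two : (2 : F) ≠ 0

theorem exists_extOrth [FiniteDimensional F K] [FiniteDimensional K V] (B : LinearMap.BilinForm F V)
    (hsymm : ∀ x y, B x y = B y x) (hnd : ∀ u, (∀ x, B u x = 0) → u = 0)
    (hadj : ∀ (k : K) x y, B (k • x) y = B x (k • y)) (h2 : (2 : F) ≠ 0) :
    ∃ (τ : K →ₗ[F] F) (β : V →ₗ[K] V →ₗ[K] K), ExtOrth B τ β := by
  obtain ⟨τ, -, hτ⟩ := exists_dual_one (F := F) (⊥ : Submodule F K) (y := 1) (by simp)
  have hτ0 : τ ≠ 0 := fun h => by rw [h, LinearMap.zero_apply] at hτ; exact zero_ne_one hτ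
  have h : ∀ u, ∃ Φ : V →ₗ[K] K, ∀ x, B u x = τ (Φ x) := fun u => dual_rep hτ0 _
  choose ω hω using h
  have huniq : ∀ a b : K, (∀ k, τ (k * a) = τ (k * b)) → a = b := by
    intro a b h
    by_contra hne
    apply hτ0
    ext k
    have h2 : τ (k * (a - b)⁻¹ * (a - b)) = 0 := by rw [mul_sub, map_sub, h, sub_self]
    rw [inv_mul_cancel_right₀ (sub_ne_zero.2 hne)] at h2
    simpa using h2
  have hmul : ∀ (k : K) u x, τ (k * ω u x) = B u (k • x) := fun k u x => by
    rw [hω, map_smul, smul_eq_mul]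
  refine ⟨τ, LinearMap.mk₂ K (fun u x => ω u x) (fun u v x => huniq _ _ fun k => ?_)
    (fun c u x => huniq _ _ fun k => ?_) (fun u x y => map_add _ _ _) (fun c u x => map_smul _ _ _),
    hτ0, fun x y => (hω x y).symm, fun x y => huniq _ _ fun k => ?_, fun u h => hnd u fun x => ?_, h2⟩
  · rw [mul_add, map_add, hmul, hmul, hmul, map_add, LinearMap.add_apply]
  · rw [smul_eq_mul, ← mul_assoc, hmul, hmul, hadj, smul_smul, mul_comm]
  · rw [LinearMap.mk₂_apply, LinearMap.mk₂_apply, hmul, hmul, ← hadj, hsymm]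
  · rw [hω]
    exact (congrArg τ (h x)).trans (map_zero τ)

/-- Half the value of the form. -/
noncomputable def qK (β : V →ₗ[K] V →ₗ[K] K) (v : V) : K := β v v / 2

/-- The orthogonal of two vectors. -/
def perpTwo (β : V →ₗ[K] V →ₗ[K] K) (a b : V) : Submodule K V := LinearMap.ker (β a) ⊓ LinearMap.ker (β b)

theorem mem_perpTwo {β : V →ₗ[K] V →ₗ[K] K} {a b x : V} :
    x ∈ perpTwo β a b ↔ β a x = 0 ∧ β b x = 0 := by
  simp [perpTwo]

namespace ExtOrth

variable {B : LinearMap.BilinForm F V} {τ : K →ₗ[F] F} {β : V →ₗ[K] V →ₗ[K] K} (L : ExtOrth B τ β)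

include L

theorem two_K : (2 : K) ≠ 0 := fun h => L.two ((algebraMap F K).injective (by rw [map_ofNat, map_zero, h]))

omit [IsScalarTower F K V] in
theorem uniq {a b : K} (h : ∀ k, τ (k * a) = τ (k * b)) : a = b := by
  by_contra hne
  apply L.τne
  ext k
  have h2 : τ (k * (a - b)⁻¹ * (a - b)) = 0 := by rw [mul_sub, map_sub, h, sub_self]
  rw [inv_mul_cancel_right₀ (sub_ne_zero.2 hne)] at h2
  simpa using h2

theorem Bsymm (x y : V) : B x y = B y x := by rw [← L.spec, ← L.spec, L.symm]

theorem B_smul (k : K) (x y : V) : B (k • x) y = τ (k * β x y) := by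
  rw [← L.spec, map_smul, LinearMap.smul_apply, smul_eq_mul]

theorem B_smul' (k : K) (x y : V) : B x (k • y) = τ (k * β x y) := by
  rw [← L.spec, map_smul, smul_eq_mul]

theorem adj (k : K) (x y : V) : B (k • x) y = B x (k • y) := by rw [L.B_smul, L.B_smul']

theorem beta_zero {x y : V} (h : ∀ k : K, B (k • x) y = 0) : β x y = 0 :=
  L.uniq fun k => by rw [mul_zero, map_zero, ← L.B_smul, h]

theorem beta_self (v : V) : β v v = 2 * qK β v := by rw [qK, mul_div_cancel₀ _ L.two_K]

theorem qK_add (x y : V) : qK β (x + y) = qK β x + qK β y + β x y := by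
  have := L.two_K
  simp only [qK, map_add, LinearMap.add_apply, L.symm y x]
  field_simp
  ring

theorem qK_smul (c : K) (x : V) : qK β (c • x) = c * c * qK β x := by
  have := L.two_K
  simp only [qK, map_smul, LinearMap.smul_apply, smul_eq_mul]
  field_simp

theorem qK_zero_iff {v : V} : qK β v = 0 ↔ β v v = 0 := by simp [qK, L.two_K]

theorem beta_sing {v : V} (h : β v v = 0) (c : K) : β (c • v) (c • v) = 0 := by simp [h]

variable [FiniteDimensional K V]

/-- Every functional over `K` is given by a vector. -/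
theorem exists_rep (Φ : V →ₗ[K] K) : ∃ v, ∀ x, β x v = Φ x := by
  have hinj : Function.Injective β := by
    rw [injective_iff_map_eq_zero]
    exact fun u hu => L.nondeg u fun x => by rw [hu]; rfl
  obtain ⟨v, hv⟩ := (LinearMap.injective_iff_surjective_of_finrank_eq_finrank
    (Subspace.dual_finrank_eq).symm).1 hinj Φ
  exact ⟨v, fun x => by rw [L.symm, hv]⟩

theorem exists_value_one {u y : V} (hy : y ∉ (K ∙ u)) : ∃ v, β u v = 0 ∧ β y v = 1 := by
  obtain ⟨Φ, hΦ, hΦy⟩ := exists_dual_one (F := K) _ hy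
  obtain ⟨v, hv⟩ := L.exists_rep Φ
  exact ⟨v, by rw [hv]; exact hΦ _ (mem_span_singleton_self u), by rw [hv, hΦy]⟩

/-- A singular vector has a singular partner. -/
theorem exists_hyp {u : V} (hu : β u u = 0) (hu0 : u ≠ 0) : ∃ u', β u u' = 1 ∧ β u' u' = 0 := by
  obtain ⟨x, hx⟩ : ∃ x, β u x = 1 := by
    obtain ⟨x, hx⟩ : ∃ x, β u x ≠ 0 := by
      by_contra h
      push Not at h
      exact hu0 (L.nondeg u h)
    exact ⟨(β u x)⁻¹ • x, by rw [map_smul, smul_eq_mul, inv_mul_cancel₀ hx]⟩
  refine ⟨x - qK β x • u, by rw [map_sub, map_smul, hx, hu, smul_zero, sub_zero], ?_⟩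
  simp only [map_sub, map_smul, LinearMap.sub_apply, LinearMap.smul_apply, smul_eq_mul, hu, hx,
    L.symm x u, L.beta_self x]
  ring

omit L in
theorem finrank_perpTwo (a b : V) : finrank K V ≤ finrank K (perpTwo β a b) + 2 := by
  have hker : ∀ Φ : V →ₗ[K] K, finrank K V ≤ finrank K (LinearMap.ker Φ) + 1 := fun Φ => by
    have h1 := Φ.finrank_range_add_finrank_ker
    have h2 := Submodule.finrank_le (LinearMap.range Φ)
    rw [Module.finrank_self] at h2
    omega
  have h1 := hker (β a)
  have h2 := hker (β b)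
  have h3 := Submodule.finrank_sup_add_finrank_inf_eq (LinearMap.ker (β a)) (LinearMap.ker (β b))
  have h4 := Submodule.finrank_le (LinearMap.ker (β a) ⊔ LinearMap.ker (β b))
  change finrank K V ≤ finrank K (LinearMap.ker (β a) ⊓ LinearMap.ker (β b) : Submodule K V) + 2
  omega

/-- A space of dimension three has a singular vector. -/
theorem exists_isotropic [Finite K] (P : Submodule K V) (h : 3 ≤ finrank K P) :
    ∃ z ∈ P, z ≠ 0 ∧ β z z = 0 := by
  obtain ⟨x, hx, hq⟩ := exists_common_zero (ι := Fin 1) (fun _ => (β.compl₁₂ P.subtype P.subtype))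
    (fun _ => 0) (by rw [Fintype.card_fin]; omega)
  refine ⟨x, x.2, fun e => hx (Subtype.ext e), ?_⟩
  simpa using hq 0

/-- The decomposition at a hyperbolic pair. -/
theorem decomp {u u' : V} (hu : β u u = 0) (hu' : β u' u' = 0) (h1 : β u u' = 1) (x : V) :
    x - β u' x • u - β u x • u' ∈ perpTwo β u u' := by
  refine mem_perpTwo.2 ⟨?_, ?_⟩ <;>
    simp [hu, hu', h1, L.symm u' u]

/-- The orthogonal of a hyperbolic pair is non-degenerate. -/
theorem perpTwo_nondeg {u u' : V} (hu : β u u = 0) (hu' : β u' u' = 0) (h1 : β u u' = 1) {p : V}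
    (hp : p ∈ perpTwo β u u') (h : ∀ x ∈ perpTwo β u u', β p x = 0) : p = 0 := by
  refine L.nondeg p fun x => ?_
  have hd := h _ (L.decomp hu hu' h1 x)
  obtain ⟨e1, e2⟩ := mem_perpTwo.1 hp
  rw [map_sub, map_sub, map_smul, map_smul, L.symm p u, L.symm p u', e1, e2] at hd
  simpa using hd

/-- An anisotropic vector orthogonal to a hyperbolic pair. -/
theorem exists_aniso {u u' : V} (hu : β u u = 0) (hu' : β u' u' = 0) (h1 : β u u' = 1)
    (h3 : 3 ≤ finrank K V) : ∃ v ∈ perpTwo β u u', β v v ≠ 0 := by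
  by_contra hne
  push Not at hne
  obtain ⟨p, hp, hp0⟩ : ∃ p ∈ perpTwo β u u', p ≠ 0 := by
    refine (Submodule.ne_bot_iff _).1 fun h => ?_
    have := finrank_perpTwo (β := β) u u'
    rw [h, finrank_bot] at this
    omega
  refine hp0 (L.perpTwo_nondeg hu hu' h1 hp fun x hx => ?_)
  have h2 := hne _ ((perpTwo β u u').add_mem hp hx)
  simp only [map_add, LinearMap.add_apply, hne p hp, hne x hx, L.symm x p, zero_add, add_zero] at h2
  exact (mul_eq_zero.1 (show (2 : K) * β p x = 0 by linear_combination h2)).resolve_left L.two_K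

/-- The orthogonal of a hyperbolic pair takes every value when it has dimension at least two. -/
theorem exists_qK [Finite K] {u u' : V} (hu : β u u = 0) (hu' : β u' u' = 0) (h1 : β u u' = 1)
    (h4 : 4 ≤ finrank K V) {l : K} (hl : l ≠ 0) : ∃ v ∈ perpTwo β u u', qK β v = l := by
  set P := perpTwo β u u' with hP
  have hfr : finrank K V ≤ finrank K P + 2 := finrank_perpTwo (β := β) u u'
  -- a singular vector gives every value
  have hsing : ∀ p ∈ P, p ≠ 0 → β p p = 0 → ∃ v ∈ P, qK β v = l := by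
    intro p hp hp0 hpp
    obtain ⟨x, hx, hpx⟩ : ∃ x ∈ P, β p x ≠ 0 := by
      by_contra hne
      push Not at hne
      exact hp0 (L.perpTwo_nondeg hu hu' h1 hp hne)
    refine ⟨x + ((l - qK β x) / β p x) • p, P.add_mem hx (P.smul_mem _ hp), ?_⟩
    rw [L.qK_add, L.qK_smul, L.qK_zero_iff.2 hpp, map_smul, smul_eq_mul, L.symm x p,
      div_mul_cancel₀ _ hpx]
    ring
  let f : LinearMap.BilinForm K (P × K) :=
    β.compl₁₂ (P.subtype ∘ₗ LinearMap.fst K P K) (P.subtype ∘ₗ LinearMap.fst K P K) -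
      ((2 * l) • (LinearMap.mul K K).compl₁₂ (LinearMap.snd K P K) (LinearMap.snd K P K))
  obtain ⟨⟨v, t⟩, hne, hf⟩ := exists_common_zero (ι := Fin 1) (fun _ => f) (fun _ => 0) (by
    rw [Fintype.card_fin, Module.finrank_prod, Module.finrank_self]
    change 2 * 1 < finrank K P + 1
    omega)
  have hf' : β (v : V) v - 2 * l * (t * t) = 0 := by
    simpa [f] using hf 0
  by_cases ht : t = 0
  · refine hsing v v.2 (fun e => hne (Prod.ext (Subtype.ext e) ht)) ?_
    simpa [ht] using hf'
  · refine ⟨t⁻¹ • (v : V), P.smul_mem _ v.2, ?_⟩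
    have := L.two_K
    rw [L.qK_smul, qK]
    field_simp
    linear_combination hf'

end ExtOrth

/-- The group contains the Siegel element over `K` at `u`, `v`. -/
def KSg (H : Subgroup (V ≃ₗ[F] V)) (β : V →ₗ[K] V →ₗ[K] K) (u v : V) : Prop :=
  ∃ e ∈ H, ∀ x, e x = x + β x u • v - β x v • u - (qK β v * β x u) • u

/-- All Siegel elements over `K`. -/
def HasSiegel (H : Subgroup (V ≃ₗ[F] V)) (β : V →ₗ[K] V →ₗ[K] K) : Prop :=
  ∀ u v, β u u = 0 → β u v = 0 → KSg H β u v

/-- The group contains the Siegel element over `F` at `h`, `y`. -/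
def Sg (H : Subgroup (V ≃ₗ[F] V)) (B : LinearMap.BilinForm F V) (h y : V) : Prop :=
  ∃ e ∈ H, ∀ x, e x = x + B x h • y - B x y • h - (B y y / 2 * B x h) • h

/-- Members of the group preserve the form. -/
def Iso (H : Subgroup (V ≃ₗ[F] V)) (B : LinearMap.BilinForm F V) : Prop :=
  ∀ e ∈ H, ∀ x y, B (e x) (e y) = B x y

section Elements

variable {B : LinearMap.BilinForm F V} {τ : K →ₗ[F] F} {β : V →ₗ[K] V →ₗ[K] K}
  {H : Subgroup (V ≃ₗ[F] V)} (L : ExtOrth B τ β)

theorem iso_symm (hH : Iso H B) {e : V ≃ₗ[F] V} (he : e ∈ H) (x y : V) :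
    B (e.symm x) y = B x (e y) := by
  rw [← hH e he (e.symm x) y, e.apply_symm_apply]

include L

theorem siegel_elem (hR : HasSiegel H β) {u v : V} (hu : β u u = 0) (hv : β u v = 0) :
    ∃ a ∈ H, (∀ x, a x = x + β x u • v - β x v • u - (qK β v * β x u) • u) ∧
      (∀ x, a.symm x = x - β x u • v + β x v • u - (qK β v * β x u) • u) ∧
      ∀ (k : K) x, a (k • x) = k • a x := by
  obtain ⟨a, ha, hax⟩ := hR u v hu hv
  refine ⟨a, ha, hax, fun x => a.injective ?_, fun k x => ?_⟩
  · rw [a.apply_symm_apply, hax]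
    simp only [map_add, map_sub, map_smul, LinearMap.add_apply, LinearMap.sub_apply, LinearMap.smul_apply,
      smul_eq_mul, hu, hv, L.symm v u, L.beta_self v, mul_zero, add_zero, sub_zero]
    match_scalars <;> ring
  · rw [hax, hax]
    simp only [map_smul, LinearMap.smul_apply, smul_eq_mul, smul_sub, smul_add, smul_smul]
    match_scalars <;> ring

theorem Sg.add {h y y' : V} (h1 : Sg H B h y) (h2 : Sg H B h y') (hh : B h h = 0) (hy : B h y = 0)
    (hy' : B h y' = 0) : Sg H B h (y + y') := by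
  obtain ⟨e₁, he₁, hx₁⟩ := h1
  obtain ⟨e₂, he₂, hx₂⟩ := h2
  refine ⟨e₁ * e₂, H.mul_mem he₁ he₂, fun x => ?_⟩
  show e₁ (e₂ x) = _
  rw [hx₁, hx₂]
  have h2ne : (2 : F) ≠ 0 := L.two
  simp only [map_add, map_sub, map_smul, LinearMap.add_apply, LinearMap.sub_apply, LinearMap.smul_apply,
    smul_eq_mul, hh, hy, hy', L.Bsymm y' h, L.Bsymm y' y, mul_zero, add_zero, sub_zero]
  match_scalars <;> field_simp <;> ring

end Elements

section Root

variable {B : LinearMap.BilinForm F V} {H : Subgroup (V ≃ₗ[F] V)}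

omit [Field K] [Algebra F K] [Module K V] [IsScalarTower F K V]

theorem Sg.conj (hH : Iso H B) {h y : V} (hs : Sg H B h y) {g : V ≃ₗ[F] V} (hg : g ∈ H) :
    Sg H B (g h) (g y) := by
  obtain ⟨e, he, hex⟩ := hs
  refine ⟨g * e * g⁻¹, H.mul_mem (H.mul_mem hg he) (H.inv_mem hg), fun x => ?_⟩
  show g (e (g.symm x)) = _
  rw [hex, iso_symm hH hg, iso_symm hH hg, hH g hg]
  simp

theorem Sg.zero (h : V) : Sg H B h 0 := ⟨1, H.one_mem, fun x => by simp⟩

theorem Sg.swap {h y : V} (hs : Sg H B h y) (hh : B h h = 0) (hy : B y y = 0) : Sg H B y (-h) := by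
  obtain ⟨e, he, hex⟩ := hs
  refine ⟨e, he, fun x => ?_⟩
  rw [hex]
  simp only [hy, hh, map_neg, LinearMap.neg_apply, zero_div, zero_mul, zero_smul, sub_zero, neg_smul,
    smul_neg, sub_neg_eq_add, neg_neg]
  abel

end Root

end Cfsg.Agent.ExtFieldMax.Orth
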