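import Cfsg.Agent.Lib.ExtFieldMax.OrthStart

/-!
From a line meeting a singular line to one meeting it in a hyperplane and orthogonal to it.
-/

set_option autoImplicit false

namespace Cfsg.Agent.ExtFieldMax.Orth

open Module Submodule

variable {F K V : Type*} [Field F] [Field K] [Algebra F K] [AddCommGroup V] [Module F V] [Module K V]
  [IsScalarTower F K V] [FiniteDimensional F K] [FiniteDimensional K V]
  {B : LinearMap.BilinForm F V} {τ : K →ₗ[F] F} {β : V →ₗ[K] V →ₗ[K] K}
  {H : Subgroup (V ≃ₗ[F] V)}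

omit [AddCommGroup V] [Module F V] [Module K V] [IsScalarTower F K V] [FiniteDimensional K V] in
theorem stab_scalar (hr : (finrank F K).Prime) (Z : Submodule F K) (hlo : 1 ≤ finrank F Z)
    (hhi : finrank F Z < finrank F K) {k : K} (h : ∀ z ∈ Z, k * z ∈ Z) :
    ∃ f : F, k = algebraMap F K f := by
  rcases eq_bot_or_top_of_prime F K hr (stabAlg Z) with hb | ht
  · have : k ∈ stabAlg Z := h
    rw [hb, Algebra.mem_bot] at this
    obtain ⟨f, hf⟩ := this
    exact ⟨f, hf.symm⟩
  · exfalso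
    obtain ⟨z, hz, hz0⟩ := (Submodule.ne_bot_iff _).1 (fun hZ : Z = ⊥ => by
      rw [hZ, finrank_bot] at hlo; omega)
    have htop : Z = ⊤ := eq_top_iff.2 fun y _ => by
      have hy : y * z⁻¹ ∈ stabAlg Z := by rw [ht]; exact Algebra.mem_top
      have := hy z hz
      rwa [inv_mul_cancel_right₀ hz0] at this
    rw [htop, finrank_top] at hhi
    exact lt_irrefl _ hhi

variable (L : ExtOrth B τ β)

include L

/-- Enlarge a meeting that has an orthogonal direction outside it. -/
theorem improve (hr : (finrank F K).Prime) (h4 : 4 ≤ finrank K V) (hR : HasSiegel H β)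
    {e : V ≃ₗ[F] V} (he : e ∈ H) {u₁ u : V} (hu₁ : β u₁ u₁ = 0) (h₁ : u₁ ≠ 0) (hu : u ≠ 0)
    (hlo : 1 ≤ finrank F (coef K e u₁ u)) (hhi : finrank F (coef K e u₁ u) + 2 ≤ finrank F K)
    {c₀ : K} (hc₀ : c₀ ∉ coef K e u₁ u) (hφ : β (e.symm (c₀ • u)) u₁ = 0) :
    ∃ e' ∈ H, finrank F (coef K e u₁ u) < finrank F (coef K e' u u) ∧
      finrank F (coef K e' u u) < finrank F K := by
  haveI : FiniteDimensional F V := Module.Finite.trans K V
  set Zc := coef K e u₁ u with hZc
  set Z' := coef K e.symm u u₁ with hZ'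
  have hdim : finrank F Z' = finrank F Zc := finrank_coef_symm h₁ hu
  set y₀ := e.symm (c₀ • u) with hy₀
  have hy₀K : y₀ ∉ (K ∙ u₁) := by
    intro h
    obtain ⟨d, hd⟩ := mem_span_singleton.1 h
    exact hc₀ (mem_coef.2 ⟨d, by rw [hd, hy₀, e.apply_symm_apply]⟩)
  -- the admissible vectors
  let g : V →ₗ[F] K × (K ⧸ Z') :=
    ((β u₁).restrictScalars F).prod (Z'.mkQ ∘ₗ (β y₀).restrictScalars F)
  set A : Submodule F V := LinearMap.ker g with hA
  have hmemA : ∀ v, v ∈ A ↔ β u₁ v = 0 ∧ β y₀ v ∈ Z' := fun v => by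
    simp [hA, g, LinearMap.mem_ker, Prod.ext_iff, Submodule.Quotient.mk_eq_zero]
  suffices hmove : ∃ v ∈ A, ∃ a ∈ H, (∀ x, a x = x + β x u₁ • v - β x v • u₁ - (qK β v * β x u₁) • u₁) ∧
      ∃ c : K, ∀ d : K, e (a (e.symm (c • u))) ≠ d • u by
    obtain ⟨v, hv, a, ha, hax, c, hc⟩ := hmove
    obtain ⟨hv1, hv2⟩ := (hmemA v).1 hv
    set t := e * a * e⁻¹ with ht
    have htx : ∀ x, t x = e (a (e.symm x)) := fun x => rfl
    refine ⟨t.symm, H.inv_mem (H.mul_mem (H.mul_mem he ha) (H.inv_mem he)), ?_, ?_⟩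
    · refine lt_of_lt_of_le (Submodule.finrank_lt_finrank_of_lt (t := Zc ⊔ (F ∙ c₀)) ?_) (Submodule.finrank_mono ?_)
      · refine lt_of_le_of_ne le_sup_left fun h => hc₀ ?_
        rw [h]
        exact Submodule.mem_sup_right (mem_span_singleton_self c₀)
      refine sup_le (fun k hk => mem_coef_symm.2 ?_) ?_
      · obtain ⟨d, hd⟩ := mem_coef.1 hk
        refine ⟨k, ?_⟩
        rw [htx, ← hd, e.symm_apply_apply, hax]
        simp [map_smul, hu₁, hv1]
      · rw [span_singleton_le_iff_mem]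
        obtain ⟨k, hk⟩ := mem_coef_symm.1 hv2
        refine mem_coef_symm.2 ⟨c₀ - k, ?_⟩
        rw [htx, ← hy₀, hax, hφ]
        simp only [zero_smul, add_zero, mul_zero, sub_zero, map_sub, hk]
        rw [hy₀, e.apply_symm_apply, sub_smul]
    · refine lt_of_le_of_ne (Submodule.finrank_le _) fun heq => ?_
      have h1 : c ∈ coef K t.symm u u := by
        rw [Submodule.eq_top_of_finrank_eq heq]; exact Submodule.mem_top
      obtain ⟨d, hd⟩ := mem_coef_symm.1 h1
      exact hc d hd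
  by_contra hall
  push Not at hall
  -- the preimage of the line
  set Wt := LinearMap.range (e.symm.toLinearMap ∘ₗ lineMap F K V u) with hWt
  set L₁ := LinearMap.range (lineMap F K V u₁) with hL₁
  have hT : ∀ v ∈ A, ∀ c : K, β (e.symm (c • u)) u₁ • v - β (e.symm (c • u)) v • u₁ -
      (qK β v * β (e.symm (c • u)) u₁) • u₁ ∈ Wt := by
    intro v hv c
    obtain ⟨a, ha, hax, -, -⟩ := siegel_elem L hR hu₁ ((hmemA v).1 hv).1
    obtain ⟨d, hd⟩ := hall v hv a ha hax c
    refine ⟨d - c, ?_⟩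
    have h2 : a (e.symm (c • u)) = e.symm (d • u) := by rw [← hd, e.symm_apply_apply]
    rw [hax] at h2
    show e.symm ((d - c) • u) = _
    rw [sub_smul, map_sub, ← h2]
    abel
  by_cases hphi : ∃ c : K, β (e.symm (c • u)) u₁ ≠ 0
  · obtain ⟨c, hc⟩ := hphi
    set φ := β (e.symm (c • u)) u₁
    let m : V →ₗ[F] V := (φ • (LinearMap.id : V →ₗ[K] V)).restrictScalars F
    have hmap : A.map m ≤ Wt ⊔ L₁ := by
      rintro _ ⟨v, hv, rfl⟩
      show φ • v ∈ Wt ⊔ L₁
      rw [show φ • v = (φ • v - β (e.symm (c • u)) v • u₁ - (qK β v * φ) • u₁) +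
        (β (e.symm (c • u)) v + qK β v * φ) • u₁ by rw [add_smul]; abel]
      exact Submodule.add_mem_sup (hT v hv c) ⟨_, rfl⟩
    have h1 := Submodule.finrank_mono hmap
    have hminj : Function.Injective m := fun a b h => smul_right_injective V hc h
    rw [← (Submodule.equivMapOfInjective m hminj A).finrank_eq] at h1
    -- the dimensions
    have h2 := g.finrank_range_add_finrank_ker
    have h3 := Submodule.finrank_le (LinearMap.range g)
    have h5 : finrank F (K × (K ⧸ Z')) = finrank F K + finrank F (K ⧸ Z') := Module.finrank_prod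
    have h6 := Z'.finrank_quotient_add_finrank
    have hiW : finrank F Wt = finrank F K :=
      LinearMap.finrank_range_of_inj (e.symm.injective.comp (lineMap_injective hu))
    have hiL : finrank F L₁ = finrank F K := LinearMap.finrank_range_of_inj (lineMap_injective h₁)
    have h7 := Submodule.finrank_sup_add_finrank_inf_eq Wt L₁
    have hinf : Z'.map (lineMap F K V u₁) ≤ Wt ⊓ L₁ := by
      rintro _ ⟨z, hz, rfl⟩
      obtain ⟨k, hk⟩ := mem_coef_symm.1 hz
      exact ⟨⟨k, by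
        show e.symm (k • u) = z • u₁
        rw [← hk, e.symm_apply_apply]⟩, ⟨z, rfl⟩⟩
    have h8 := Submodule.finrank_mono hinf
    rw [← (Submodule.equivMapOfInjective _ (lineMap_injective (F := F) (K := K) h₁) Z').finrank_eq] at h8
    have h9 : finrank F V = finrank F K * finrank K V := (Module.finrank_mul_finrank F K V).symm
    have h10 : finrank F K * 4 ≤ finrank F K * finrank K V := Nat.mul_le_mul_left _ h4
    change finrank F A ≤ _ at h1
    change _ + finrank F A = _ at h2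
    omega
  push Not at hphi
  have hmult : ∀ v ∈ A, ∀ c : K, β (e.symm (c • u)) v ∈ Z' := by
    intro v hv c
    have h1 := hT v hv c
    rw [hphi c, zero_smul, mul_zero, zero_smul, zero_sub, sub_zero] at h1
    obtain ⟨d, hd⟩ := h1
    refine mem_coef_symm.2 ⟨-d, ?_⟩
    change e.symm (d • u) = _ at hd
    rw [neg_smul, ← e.apply_symm_apply (d • u), hd, map_neg, neg_neg]
  have hZ'lt : finrank F Z' < finrank F K := by omega
  obtain ⟨k', hk'⟩ : ∃ k, k ∉ Z' := by
    by_contra hall'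
    push Not at hall'
    rw [show Z' = ⊤ from eq_top_iff.2 fun x _ => hall' x, finrank_top] at hZ'lt
    exact lt_irrefl _ hZ'lt
  have hall' : ∀ c : K, c ∈ Zc ⊔ (F ∙ c₀) := by
    intro c
    by_cases hsp : e.symm (c • u) ∈ span K ({u₁, y₀} : Set V)
    · obtain ⟨a, k, hak⟩ := mem_span_pair.1 hsp
      obtain ⟨v₀, hv₀1, hv₀2⟩ := L.exists_value_one hy₀K
      obtain ⟨f, rfl⟩ := stab_scalar hr Z' (by omega) hZ'lt (k := k) fun z hz => by
        have h1 := hmult (z • v₀) ((hmemA _).2 ⟨by rw [map_smul, hv₀1, smul_zero], by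
          rw [map_smul, hv₀2, smul_eq_mul, mul_one]; exact hz⟩) c
        rw [← hak] at h1
        simpa [hv₀1, hv₀2, mul_comm] using h1
      rw [show c = (c - f • c₀) + f • c₀ by abel]
      refine Submodule.add_mem_sup (mem_coef.2 ⟨a, ?_⟩) (Submodule.smul_mem _ f (mem_span_singleton_self _))
      rw [sub_smul, smul_assoc, eq_sub_iff_add_eq]
      conv_rhs => rw [← e.apply_symm_apply (c • u), ← hak, map_add, algebraMap_smul, LinearEquiv.map_smul,
        hy₀, e.apply_symm_apply]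
    · exfalso
      obtain ⟨Φ, hΦ, hΦc⟩ := exists_dual_one (F := K) _ hsp
      obtain ⟨v₀, hv₀⟩ := L.exists_rep Φ
      refine hk' ?_
      have h1 := hmult (k' • v₀) ((hmemA _).2 ⟨by
          rw [map_smul, hv₀, hΦ _ (subset_span (by simp)), smul_zero], by
          rw [map_smul, hv₀, hΦ _ (subset_span (by simp)), smul_zero]; exact Z'.zero_mem⟩) c
      rwa [map_smul, hv₀, hΦc, smul_eq_mul, mul_one] at h1
  have h1 : finrank F K ≤ finrank F (Zc ⊔ (F ∙ c₀) : Submodule F K) := by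
    rw [show Zc ⊔ (F ∙ c₀) = ⊤ from eq_top_iff.2 fun x _ => hall' x, finrank_top]
  have h2 := Submodule.finrank_add_le_finrank_add_finrank Zc (F ∙ c₀)
  have h3 : finrank F (F ∙ c₀) ≤ 1 := by
    by_cases h0 : c₀ = 0
    · exact absurd (h0 ▸ Zc.zero_mem) hc₀
    · rw [finrank_span_singleton h0]
  omega

/-- When no direction outside the meeting is orthogonal, some Siegel element gives one. -/
theorem degenerate [Finite F] (h4 : 4 ≤ finrank K V) (hH : Iso H B) (hR : HasSiegel H β)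
    {e : V ≃ₗ[F] V} (he : e ∈ H) {u₁ u : V} (hu₁ : β u₁ u₁ = 0) (h₁ : u₁ ≠ 0)
    (hu : β u u = 0) (hu0 : u ≠ 0) (hlo : 1 ≤ finrank F (coef K e u₁ u))
    (hhi : finrank F (coef K e u₁ u) < finrank F K)
    (hstall : ∀ d : K, β (e (d • u₁)) u = 0 → d ∈ coef K e.symm u u₁) :
    ∃ e' ∈ H, finrank F (coef K e u₁ u) ≤ finrank F (coef K e' u₁ u₁) ∧
      finrank F (coef K e' u₁ u₁) < finrank F K ∧
      ∃ p, p ∉ coef K e' u₁ u₁ ∧ β (e'.symm (p • u₁)) u₁ = 0 := by
  set Z' := coef K e.symm u u₁ with hZ'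
  have hdim : finrank F Z' = finrank F (coef K e u₁ u) := finrank_coef_symm h₁ hu0
  obtain ⟨p, hp⟩ : ∃ p, p ∉ Z' := by
    by_contra hall
    push Not at hall
    rw [← hdim, show Z' = ⊤ from eq_top_iff.2 fun x _ => hall x, finrank_top] at hhi
    exact lt_irrefl _ hhi
  obtain ⟨x, hxdef⟩ : ∃ x, x = e (p • u₁) := ⟨_, rfl⟩
  obtain ⟨u', h1, hu'⟩ := L.exists_hyp hu hu0
  set P := perpTwo β u u' with hP
  haveI : FiniteDimensional F P := Module.Finite.trans K P
  -- representatives of the quotient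
  set bq := Module.finBasis F (K ⧸ Z') with hbq
  choose d hd using fun i => Z'.mkQ_surjective (bq i)
  let g : Fin (finrank F (K ⧸ Z')) → P →ₗ[F] F := fun i =>
    τ ∘ₗ ((β x u • β (e (d i • u₁)) - β (e (d i • u₁)) u • β x) ∘ₗ P.subtype).restrictScalars F
  let f : Fin (finrank F (K ⧸ Z')) → LinearMap.BilinForm F P := fun i =>
    LinearMap.mk₂ F (fun v w => τ (-(β (e (d i • u₁)) u * β x u / 2) * β (v : V) w))
      (fun a b c => by simp [mul_add]) (fun s a c => by simp [LinearMap.map_smul_of_tower])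
      (fun a b c => by simp [mul_add]) (fun s a c => by simp [LinearMap.map_smul_of_tower])
  have hPF : finrank F K * 2 ≤ finrank F P := by
    rw [show finrank F P = finrank F K * finrank K P from (Module.finrank_mul_finrank F K P).symm]
    refine Nat.mul_le_mul_left _ ?_
    have := ExtOrth.finrank_perpTwo (β := β) u u'
    change finrank K V ≤ finrank K P + 2 at this
    omega
  obtain ⟨v, hv0, hv⟩ := exists_common_zero (W := P) f g (by
    rw [Fintype.card_fin]
    have := Z'.finrank_quotient_add_finrank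
    omega)
  obtain ⟨hv1, hv2⟩ := mem_perpTwo.1 v.2
  obtain ⟨a, ha, hax, -, -⟩ := siegel_elem L hR hu hv1
  have hau : a u = u := by rw [hax]; simp [hu, hv1]
  have hsing : ∀ c d : K, B (e (c • u₁)) (e (d • u₁)) = 0 := fun c d => by
    rw [hH e he, L.B_smul, map_smul, hu₁, smul_zero, mul_zero, map_zero]
  have hfix : ∀ c ∈ Z', ∀ y, a (e (c • u₁)) = e (c • u₁) ∧ B (e (c • u₁)) (a y) = B (e (c • u₁)) y := by
    intro c hc y
    obtain ⟨k, hk⟩ := mem_coef_symm.1 hc
    have h1 : a (e (c • u₁)) = e (c • u₁) := by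
      rw [hk, hax]
      simp [hu, hv1]
    exact ⟨h1, by conv_lhs => rw [← h1, hH a ha]⟩
  -- the image of `x` is orthogonal to the whole image of the line
  have horth : ∀ c : K, B (e (c • u₁)) (a x) = 0 := by
    have hbasis : ∀ i, B (e (d i • u₁)) (a x) = 0 := by
      intro i
      have h2 := hv i
      simp only [f, g, LinearMap.mk₂_apply, LinearMap.comp_apply, LinearMap.restrictScalars_apply,
        Submodule.subtype_apply, LinearMap.sub_apply, LinearMap.smul_apply, smul_eq_mul] at h2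
      rw [hax, map_sub, map_sub, map_add, hxdef, hsing, zero_add, ← hxdef, L.B_smul', L.B_smul', L.B_smul',
        ← map_sub, ← map_sub, ← h2, ← map_add]
      congr 1
      rw [qK]
      ring
    intro c
    set ψ : K →ₗ[F] F := (B.flip (a x)) ∘ₗ e.toLinearMap ∘ₗ lineMap F K V u₁
    have hψ : ∀ k, ψ k = B (e (k • u₁)) (a x) := fun k => rfl
    have hker : Z' ≤ LinearMap.ker ψ := fun k hk => by
      rw [LinearMap.mem_ker, hψ, (hfix k hk x).2, hxdef, hsing]
    have h3 : Z'.liftQ ψ hker = 0 := bq.ext fun i => by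
      rw [← hd i, Submodule.mkQ_apply, Submodule.liftQ_apply, hψ, hbasis, LinearMap.zero_apply]
    rw [← hψ, ← Submodule.liftQ_apply Z' ψ (h := hker), h3, LinearMap.zero_apply]
  set t := (e⁻¹ * a * e)⁻¹ with ht
  have htx : ∀ y, t.symm y = e.symm (a (e y)) := fun y => rfl
  have hnot : p ∉ coef K t u₁ u₁ := by
    intro hmem
    obtain ⟨k, hk⟩ := mem_coef.1 hmem
    have h2 : a x = e (k • u₁) := by
      rw [hxdef, ← e.apply_symm_apply (a _), ← htx, ← hk, t.symm_apply_apply]
    have h3 : β (e ((k - p) • u₁)) u = 0 := by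
      rw [sub_smul, map_sub, ← h2, ← hxdef, hax]
      simp [hu, L.symm (v : V) u, hv1]
    obtain ⟨l, hl⟩ := mem_coef_symm.1 (hstall _ h3)
    rw [sub_smul, map_sub, ← h2, ← hxdef, hax] at hl
    have h4 := congrArg (β u') hl
    have h5 : β x u • (v : V) = (β x v + qK β v * β x u + l) • u := by
      rw [add_smul, add_smul, ← hl]; abel
    have h6 := congrArg (β u') h5
    rw [map_smul, hv2, smul_zero, map_smul, L.symm u' u, h1, smul_eq_mul, mul_one] at h6
    rw [← h6, zero_smul, smul_eq_zero] at h5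
    rcases h5 with h5 | h5
    · exact hp (hstall p (by rw [← hxdef]; exact h5))
    · exact hv0 (Subtype.ext h5)
  refine ⟨t, H.inv_mem (H.mul_mem (H.mul_mem (H.inv_mem he) ha) he), ?_, ?_, p, hnot, ?_⟩
  · rw [← hdim]
    refine Submodule.finrank_mono fun c hc => mem_coef.2 ⟨c, t.symm.injective ?_⟩
    rw [t.symm_apply_apply, htx, (hfix c hc (0 : V)).1, e.symm_apply_apply]
  · exact lt_of_le_of_ne (Submodule.finrank_le _) fun heq => hnot (by
      rw [Submodule.eq_top_of_finrank_eq heq]; exact Submodule.mem_top)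
  · rw [htx, ← hxdef]
    refine L.beta_zero fun k => ?_
    rw [L.adj, iso_symm hH he, L.Bsymm]
    exact horth k

/-- A meeting with an orthogonal direction outside it, no smaller than a given one. -/
theorem exists_direction [Finite F] (h4 : 4 ≤ finrank K V) (hH : Iso H B) (hR : HasSiegel H β)
    {e : V ≃ₗ[F] V} (he : e ∈ H) {u₁ u : V} (hu₁ : β u₁ u₁ = 0) (h₁ : u₁ ≠ 0)
    (hu : β u u = 0) (hu0 : u ≠ 0) (hlo : 1 ≤ finrank F (coef K e u₁ u))
    (hhi : finrank F (coef K e u₁ u) < finrank F K) :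
    ∃ e' ∈ H, ∃ a b : V, β a a = 0 ∧ a ≠ 0 ∧ β b b = 0 ∧ b ≠ 0 ∧
      finrank F (coef K e u₁ u) ≤ finrank F (coef K e' a b) ∧ finrank F (coef K e' a b) < finrank F K ∧
      ∃ c₀, c₀ ∉ coef K e' a b ∧ β (e'.symm (c₀ • b)) a = 0 := by
  by_cases hs : ∀ d : K, β (e (d • u₁)) u = 0 → d ∈ coef K e.symm u u₁
  · obtain ⟨e', he', h2, h3, hp⟩ := degenerate L h4 hH hR he hu₁ h₁ hu hu0 hlo hhi hs
    exact ⟨e', he', u₁, u₁, hu₁, h₁, hu₁, h₁, h2, h3, hp⟩
  · push Not at hs
    obtain ⟨d, hd, hdn⟩ := hs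
    refine ⟨e.symm, H.inv_mem he, u, u₁, hu, hu0, hu₁, h₁, (finrank_coef_symm h₁ hu0).ge, ?_, d, hdn, ?_⟩
    · rw [finrank_coef_symm h₁ hu0]; exact hhi
    · rw [LinearEquiv.symm_symm]; exact hd

/-- An image of a singular line meeting a singular line in a hyperplane and orthogonal to it. -/
theorem exists_orth_config [Finite F] [Finite K] (hr : (finrank F K).Prime) (h4 : 4 ≤ finrank K V)
    (hH : Iso H B) (hR : HasSiegel H β)
    (hne : ∃ e ∈ H, ∃ (v : V) (c : K), ∀ d : K, e (c • v) ≠ d • e v) :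
    ∃ e ∈ H, ∃ u₁ u : V, β u₁ u₁ = 0 ∧ u₁ ≠ 0 ∧ β u u = 0 ∧ u ≠ 0 ∧
      finrank F (coef K e u₁ u) + 1 = finrank F K ∧ ∀ c : K, β (e.symm (c • u)) u₁ = 0 := by
  suffices key : ∀ k, ∀ e ∈ H, ∀ u₁ u : V, β u₁ u₁ = 0 → u₁ ≠ 0 → β u u = 0 → u ≠ 0 →
      1 ≤ finrank F (coef K e u₁ u) → finrank F (coef K e u₁ u) < finrank F K →
      finrank F K ≤ finrank F (coef K e u₁ u) + k →
      ∃ e ∈ H, ∃ u₁ u : V, β u₁ u₁ = 0 ∧ u₁ ≠ 0 ∧ β u u = 0 ∧ u ≠ 0 ∧
        finrank F (coef K e u₁ u) + 1 = finrank F K ∧ ∀ c : K, β (e.symm (c • u)) u₁ = 0 by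
    obtain ⟨e, he, v, c, hvc⟩ := hne
    obtain ⟨u, hu0, hu, c', hc'⟩ := exists_nonline L h4 hH he hvc
    obtain ⟨e', he', h1, h2⟩ := exists_start L h4 hR he hu0 hc'
    exact key (finrank F K) e' he' u u hu hu0 hu hu0 h1 h2 (by omega)
  intro k
  induction k with
  | zero => intro e _ u₁ u _ _ _ _ _ hlt hle; omega
  | succ k ih =>
    intro e he u₁ u hu₁ h₁ hu hu0 hlo hlt hle
    obtain ⟨e', he', a, b, ha, ha0, hb, hb0, hge, hlt', c₀, hc₀, hφ⟩ :=
      exists_direction L h4 hH hR he hu₁ h₁ hu hu0 hlo hlt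
    by_cases htop : finrank F (coef K e' a b) + 1 = finrank F K
    · refine ⟨e', he', a, b, ha, ha0, hb, hb0, htop, fun c => ?_⟩
      have hsup : coef K e' a b ⊔ (F ∙ c₀) = ⊤ := by
        refine Submodule.eq_top_of_finrank_eq (le_antisymm (Submodule.finrank_le _) ?_)
        have := Submodule.finrank_lt_finrank_of_lt (lt_of_le_of_ne (le_sup_left : coef K e' a b ≤ coef K e' a b ⊔ (F ∙ c₀))
          fun h => hc₀ (by rw [h]; exact Submodule.mem_sup_right (mem_span_singleton_self c₀)))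
        omega
      have hc : c ∈ coef K e' a b ⊔ (F ∙ c₀) := by rw [hsup]; exact Submodule.mem_top
      obtain ⟨z, hz, w, hw, rfl⟩ := Submodule.mem_sup.1 hc
      obtain ⟨f, rfl⟩ := mem_span_singleton.1 hw
      obtain ⟨d, hd⟩ := mem_coef.1 hz
      rw [add_smul, map_add, ← hd, e'.symm_apply_apply, smul_assoc, LinearEquiv.map_smul, map_add,
        LinearMap.add_apply, ← algebraMap_smul K f, LinearMap.map_smul β, LinearMap.map_smul β, LinearMap.smul_apply,
        LinearMap.smul_apply, ha, hφ, smul_zero, smul_zero, add_zero]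
    · obtain ⟨e'', he'', hgt, hlt''⟩ :=
        improve L hr h4 hR he' ha ha0 hb0 (by omega) (by omega) hc₀ hφ
      exact ih e'' he'' b b hb hb0 hb hb0 (by omega) hlt'' (by omega)

end Cfsg.Agent.ExtFieldMax.Orth
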