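import Cfsg.Agent.Lib.ExtFieldMax.OrthBasic

/-!
A singular line over an extension field whose image meets a singular line orthogonally in a
hyperplane gives a root element over the base field.
-/

set_option autoImplicit false

namespace Cfsg.Agent.ExtFieldMax.Orth

open Module Submodule

variable {F K V : Type*} [Field F] [Field K] [Algebra F K] [AddCommGroup V] [Module F V] [Module K V]
  [IsScalarTower F K V] [FiniteDimensional F K] [FiniteDimensional K V]
  {B : LinearMap.BilinForm F V} {τ : K →ₗ[F] F} {β : V →ₗ[K] V →ₗ[K] K}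
  {H : Subgroup (V ≃ₗ[F] V)}

omit [IsScalarTower F K V] [FiniteDimensional F K] [FiniteDimensional K V] in
/-- A subspace and anything orthogonal to it have complementary dimensions at most. -/
theorem finrank_perp_le [FiniteDimensional F V] (hnd : ∀ u, (∀ x, B u x = 0) → u = 0)
    (R S : Submodule F V) (h : ∀ y ∈ R, ∀ x ∈ S, B y x = 0) :
    finrank F R + finrank F S ≤ finrank F V := by
  let f : R →ₗ[F] Module.Dual F (V ⧸ S) :=
    { toFun := fun y => S.liftQ (B y) fun x hx => h y y.2 x hx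
      map_add' := fun a b => Submodule.linearMap_qext _ (LinearMap.ext fun x => by
        show B ((a + b : R) : V) x = B a x + B b x
        simp)
      map_smul' := fun c a => Submodule.linearMap_qext _ (LinearMap.ext fun x => by
        show B ((c • a : R) : V) x = c * B a x
        simp) }
  have hf : Function.Injective f := by
    rw [injective_iff_map_eq_zero]
    intro y hy
    refine Subtype.ext (hnd _ fun x => ?_)
    exact LinearMap.congr_fun hy (S.mkQ x)
  have h1 := LinearMap.finrank_le_finrank_of_injective hf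
  rw [Subspace.dual_finrank_eq] at h1
  have h2 := S.finrank_quotient_add_finrank
  omega

variable (L : ExtOrth B τ β)

include L

/-- The root element. -/
theorem exists_root [Finite K] (h4 : 4 ≤ finrank K V) (hn : 13 ≤ finrank F V) (hr : 2 ≤ finrank F K)
    (hH : Iso H B) (hR : HasSiegel H β)
    {e : V ≃ₗ[F] V} (he : e ∈ H) {u₁ u : V} (hu₁ : β u₁ u₁ = 0) (h₁ : u₁ ≠ 0)
    (hu : β u u = 0) (hu0 : u ≠ 0)
    (hd : finrank F (coef K e u₁ u) + 1 = finrank F K) (horth : ∀ c : K, β (e.symm (c • u)) u₁ = 0) :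
    ∃ (u' : V) (z : K) (π : V), β u u' = 1 ∧ β u' u' = 0 ∧ z ≠ 0 ∧ π ≠ 0 ∧ π ∈ perpTwo β u u' ∧
      B π π = 0 ∧ (∀ k : K, Sg H B (z • u) (k • u)) ∧ ∀ t : F, Sg H B (z • u) (t • π) := by
  haveI : FiniteDimensional F V := Module.Finite.trans K V
  set Zc := coef K e u₁ u with hZc
  -- the frame
  obtain ⟨c₀, d₀, ζ, θ, hζc, hθd, hζP, hζm, hθm, hθP, hy₀, hr₀⟩ :
      ∃ (c₀ d₀ : K) (ζ θ : K →ₗ[F] F), ζ c₀ = 1 ∧ θ d₀ = 1 ∧
        (∀ c ∈ Zc, ζ c = 0) ∧ (∀ c, ζ c = 0 → c ∈ Zc) ∧
        (∀ c, θ c = 0 → c ∈ coef K e.symm u u₁) ∧ (∀ c ∈ coef K e.symm u u₁, θ c = 0) ∧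
        e.symm (c₀ • u) ∉ (K ∙ u₁) ∧ e (d₀ • u₁) ∉ (K ∙ u) := by
    have hd' : finrank F (coef K e.symm u u₁) + 1 = finrank F K := by rwa [finrank_coef_symm h₁ hu0]
    have hex : ∀ P : Submodule F K, finrank F P + 1 = finrank F K → ∃ c, c ∉ P := by
      intro P hP
      by_contra hall
      push Not at hall
      rw [show P = ⊤ from eq_top_iff.2 fun x _ => hall x, finrank_top] at hP
      omega
    obtain ⟨c₀, hc₀⟩ := hex _ hd
    obtain ⟨d₀, hd₀⟩ := hex _ hd'
    obtain ⟨ζ, hζc, hζP, hζs⟩ := exists_coord _ hd hc₀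
    obtain ⟨θ, hθd, hθP, hθs⟩ := exists_coord _ hd' hd₀
    refine ⟨c₀, d₀, ζ, θ, hζc, hθd, hζP, fun c hc => ?_, fun c hc => ?_, hθP, fun h => ?_, fun h => ?_⟩
    · have := hζs c; rwa [hc, zero_smul, sub_zero] at this
    · have := hθs c; rwa [hc, zero_smul, sub_zero] at this
    · obtain ⟨d, hd⟩ := Submodule.mem_span_singleton.1 h
      exact hc₀ (mem_coef.2 ⟨d, by rw [hd, e.apply_symm_apply]⟩)
    · obtain ⟨d, hd⟩ := Submodule.mem_span_singleton.1 h
      exact hd₀ (mem_coef_symm.2 ⟨d, hd.symm⟩)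
  obtain ⟨z₀, hz₀⟩ := dual_mul_surjective L.τne ζ
  obtain ⟨t₀, ht₀⟩ := dual_mul_surjective L.τne θ
  have hz00 : z₀ ≠ 0 := fun h => by rw [hz₀, h, mul_zero, map_zero] at hζc; exact zero_ne_one hζc
  have ht00 : t₀ ≠ 0 := fun h => by rw [ht₀, h, mul_zero, map_zero] at hθd; exact zero_ne_one hθd
  obtain ⟨w, hw⟩ : ∃ w, w = c₀ • u := ⟨_, rfl⟩
  obtain ⟨y₀, hy₀def⟩ : ∃ y, y = e.symm w := ⟨_, rfl⟩
  obtain ⟨r₀, hr₀def⟩ : ∃ x, x = e (d₀ • u₁) := ⟨_, rfl⟩
  rw [← hw, ← hy₀def] at hy₀
  rw [← hr₀def] at hr₀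
  obtain ⟨u', h1, hu'⟩ := L.exists_hyp hu hu0
  -- the hyperplane and its orthogonal
  let Hp : V → Prop := fun y => ∀ z ∈ Zc, B (z • u) y = 0
  have hW' : ∀ k : K, ∃ z ∈ Zc, e (k • u₁) = θ k • r₀ + z • u := by
    intro k
    obtain ⟨z, hz⟩ := mem_coef_symm.1 (hθm (k - θ k • d₀) (by simp [hθd]))
    refine ⟨z, mem_coef.2 ⟨_, hz⟩, ?_⟩
    rw [← hz, hr₀def, sub_smul, map_sub, smul_assoc, LinearEquiv.map_smul]
    abel
  have hWdec : ∀ c : K, ∃ z ∈ Zc, c • u = ζ c • w + z • u := fun c =>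
    ⟨c - ζ c • c₀, hζm _ (by simp [hζc]), by rw [hw, sub_smul, smul_assoc]; abel⟩
  have heu : ∀ k : K, β (e (k • u₁)) u = 0 := fun k => L.beta_zero fun l => by
    rw [L.adj, L.Bsymm, ← iso_symm hH he, L.B_smul', horth, mul_zero, map_zero]
  have hWsing : ∀ c d : K, B (c • u) (d • u) = 0 := fun c d => by
    rw [L.B_smul, map_smul, hu, smul_zero, mul_zero, map_zero]
  have hW'sing : ∀ c d : K, B (e (c • u₁)) (e (d • u₁)) = 0 := fun c d => by
    rw [hH e he, L.B_smul, map_smul, hu₁, smul_zero, mul_zero, map_zero]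
  have hWW' : ∀ c d : K, B (c • u) (e (d • u₁)) = 0 := fun c d => by
    rw [L.B_smul, L.symm, heu, mul_zero, map_zero]
  -- the elements centred at `u`
  have hA : ∀ v, β u v = 0 → ∃ a ∈ H,
      (∀ x, a x = x + β x u • v - β x v • u - (qK β v * β x u) • u) ∧
      (∀ k : K, a (k • u) = k • u) ∧
      ∀ y, Hp y → ∃ z ∈ Zc, a y = y + B w y • (z₀ • v) - B y (z₀ • v) • w -
        (B (z₀ • v) (z₀ • v) / 2 * B w y) • w + z • u := by
    intro v hv
    obtain ⟨a, ha, hax, -, -⟩ := siegel_elem L hR hu hv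
    refine ⟨a, ha, hax, fun k => by rw [hax]; simp [hu, hv], fun y hy => ?_⟩
    have hφ : β y u = B w y • z₀ := L.uniq fun k => by
      have h0 := hy (k - ζ k • c₀) (hζm _ (by simp [hζc]))
      rw [sub_smul, smul_assoc, ← hw, map_sub, LinearMap.map_smul B, LinearMap.sub_apply, LinearMap.smul_apply, L.B_smul,
        sub_eq_zero, L.symm u y, smul_eq_mul] at h0
      rw [h0, mul_smul_comm, map_smul, ← hz₀, smul_eq_mul, mul_comm]
    obtain ⟨z₁, hz₁, e1⟩ := hWdec (β y v)
    obtain ⟨z₂, hz₂, e2⟩ := hWdec (qK β v * (B w y • z₀))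
    refine ⟨-(z₁ + z₂), Zc.neg_mem (Zc.add_mem hz₁ hz₂), ?_⟩
    have h2 : τ (qK β v * z₀ * z₀) = B (z₀ • v) (z₀ • v) / 2 := by
      rw [eq_div_iff L.two, ← L.spec, (β (z₀ • v)).map_smul, β.map_smul, LinearMap.smul_apply, smul_eq_mul, smul_eq_mul,
        L.beta_self, mul_comm (τ _) (2 : F), two_mul, ← map_add]
      congr 1
      ring
    have e3 : ζ (β y v) = B y (z₀ • v) := by rw [hz₀, L.B_smul', mul_comm]
    have e4 : ζ (qK β v * (B w y • z₀)) = B (z₀ • v) (z₀ • v) / 2 * B w y := by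
      rw [hz₀, mul_smul_comm, smul_mul_assoc, map_smul, h2, smul_eq_mul, mul_comm]
    rw [hax, hφ, e1, e2, e3, e4, smul_assoc, neg_smul, add_smul]
    abel
  -- the elements centred at the image line
  have hB : ∀ v', β u₁ v' = 0 → ∃ b ∈ H,
      (∀ x, b x = x + e (β (e.symm x) u₁ • v' - β (e.symm x) v' • u₁ - (qK β v' * β (e.symm x) u₁) • u₁)) ∧
      (∀ z ∈ Zc, b (z • u) = z • u) ∧ (∀ x, Hp (b x - x)) ∧ b w = w - e (β y₀ v' • u₁) := by
    intro v' hv'
    obtain ⟨a, ha, hax, -, -⟩ := siegel_elem L hR hu₁ hv'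
    have hbx : ∀ x, (e * a * e⁻¹) x = x + e (β (e.symm x) u₁ • v' - β (e.symm x) v' • u₁ -
        (qK β v' * β (e.symm x) u₁) • u₁) := by
      intro x
      show e (a (e.symm x)) = _
      rw [hax]
      simp only [map_add, map_sub, e.apply_symm_apply]
      abel
    refine ⟨e * a * e⁻¹, H.mul_mem (H.mul_mem he ha) (H.inv_mem he), hbx, fun z hz => ?_, fun x z hz => ?_, ?_⟩
    · obtain ⟨d, hd⟩ := mem_coef.1 hz
      rw [hbx, ← hd, e.symm_apply_apply]
      simp [hu₁, hv']
    · obtain ⟨d, hd⟩ := mem_coef.1 hz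
      rw [hbx, add_sub_cancel_left, ← hd, hH e he, L.B_smul]
      simp [hu₁, hv']
    · have h0 : β y₀ u₁ = 0 := by rw [hy₀def, hw]; exact horth c₀
      rw [hbx, ← hy₀def, h0]
      simp only [zero_smul, mul_zero, zero_sub, sub_zero, map_neg]
      abel
  -- the kernel of the action on the quotient
  let Ker : (V ≃ₗ[F] V) → Prop := fun k => k ∈ H ∧ (∀ z ∈ Zc, k (z • u) = z • u) ∧
    ∀ y, Hp y → ∃ z ∈ Zc, k y = y + z • u
  have hHpfix : ∀ g : V ≃ₗ[F] V, g ∈ H → (∀ z ∈ Zc, g (z • u) = z • u) → ∀ y, Hp y → Hp (g.symm y) := by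
    intro g hg hgf y hy z hz
    rw [L.Bsymm, iso_symm hH hg, hgf z hz, L.Bsymm]
    exact hy z hz
  have hker : ∃ k, Ker k ∧ ∃ y, Hp y ∧ k y ≠ y := by
    by_contra hkill
    push Not at hkill
    -- a suitable vector
    let gm : V →ₗ[F] K × F := ((β u₁).restrictScalars F).prod (θ ∘ₗ (β y₀).restrictScalars F)
    let qm : V →ₗ[F] V := e.toLinearMap ∘ₗ (t₀ • (LinearMap.id : V →ₗ[K] V)).restrictScalars F
    set T₂ := LinearMap.range (lineMap F K V u) ⊔ LinearMap.range (lineMap F K V r₀) with hT₂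
    have hKr : finrank F K ≤ finrank F K := le_rfl
    have hrank_gm := gm.finrank_range_add_finrank_ker
    have h3 := Submodule.finrank_le (LinearMap.range gm)
    rw [Module.finrank_prod, Module.finrank_self] at h3
    have h9 : finrank F V = finrank F K * finrank K V := (Module.finrank_mul_finrank F K V).symm
    have h10 : finrank F K * 4 ≤ finrank F K * finrank K V := Nat.mul_le_mul_left _ h4
    have hiW : finrank F (LinearMap.range (lineMap F K V u)) = finrank F K :=
      LinearMap.finrank_range_of_inj (lineMap_injective hu0)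
    have hiR : finrank F (LinearMap.range (lineMap F K V r₀)) = finrank F K :=
      LinearMap.finrank_range_of_inj (lineMap_injective fun h => hr₀ (by rw [h]; exact zero_mem _))
    have hT₂le := Submodule.finrank_add_le_finrank_add_finrank (LinearMap.range (lineMap F K V u))
      (LinearMap.range (lineMap F K V r₀))
    have hqinj : Function.Injective qm := e.injective.comp (smul_right_injective V ht00)
    obtain ⟨v', hv', hqv'⟩ : ∃ v', v' ∈ LinearMap.ker gm ∧ qm v' ∉ T₂ := by
      by_contra hall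
      push Not at hall
      have hle : (LinearMap.ker gm).map qm ≤ T₂ := by
        rintro _ ⟨v, hv, rfl⟩
        exact hall v hv
      have h5 := Submodule.finrank_mono hle
      rw [← (Submodule.equivMapOfInjective qm hqinj (LinearMap.ker gm)).finrank_eq] at h5
      change finrank F (LinearMap.ker gm) ≤ finrank F T₂ at h5
      change finrank F T₂ ≤ _ at hT₂le
      omega
    obtain ⟨hv'1, hv'2⟩ : β u₁ v' = 0 ∧ θ (β y₀ v') = 0 := by simpa [gm] using hv'
    obtain ⟨g, hg, hgx, hgfix, hgHp, hgw⟩ := hB v' hv'1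
    obtain ⟨η, hη, hgw'⟩ : ∃ η ∈ Zc, g w = w - η • u := by
      obtain ⟨z, hz, e1⟩ := hW' (β y₀ v')
      exact ⟨z, hz, by rw [hgw, e1, hv'2, zero_smul, zero_add]⟩
    have hgW : ∀ c : K, g (c • u) = c • u - ζ c • (η • u) := by
      intro c
      obtain ⟨z, hz, e1⟩ := hWdec c
      conv_lhs => rw [e1, map_add, LinearEquiv.map_smul, hgw', hgfix z hz]
      rw [e1, smul_sub]; abel
    have hgperp : ∀ y, β u y = 0 → β u (g y) = 0 := by
      intro y hy
      rw [L.symm]
      refine L.beta_zero fun k => ?_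
      have : k • u = g ((k + ζ k • η) • u) := by
        rw [hgW, add_smul, map_add, map_smul, hζP η hη, smul_zero, add_zero, smul_assoc]
        abel
      rw [L.adj, this, hH g hg, L.Bsymm, L.B_smul, hy, mul_zero, map_zero]
    have hgperp' : ∀ y, β u y = 0 → β u (g.symm y) = 0 := by
      intro y hy
      rw [L.symm]
      refine L.beta_zero fun k => ?_
      rw [L.adj, iso_symm hH hg, hgW, map_sub, L.B_smul', L.symm, hy, mul_zero, map_zero, map_smul, L.B_smul',
        L.symm, hy, mul_zero, map_zero]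
      simp
    -- the form is preserved up to a multiple of the form over the small field
    have hform : ∀ x p, β u x = 0 → β u p = 0 →
        β (g x) (g p) = β x p - B x p • (z₀ * η) := by
      intro x p hx hp
      obtain ⟨v, hvdef⟩ : ∃ v, v = z₀⁻¹ • p := ⟨_, rfl⟩
      have hzv : z₀ • v = p := by rw [hvdef, smul_smul, mul_inv_cancel₀ hz00, one_smul]
      obtain ⟨v₁, hv₁def⟩ : ∃ v₁, v₁ = z₀⁻¹ • g p := ⟨_, rfl⟩
      have hzv₁ : z₀ • v₁ = g p := by rw [hv₁def, smul_smul, mul_inv_cancel₀ hz00, one_smul]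
      have huv : β u v = 0 := by rw [hvdef, map_smul, hp, smul_zero]
      have huv₁ : β u v₁ = 0 := by rw [hv₁def, map_smul, hgperp p hp, smul_zero]
      obtain ⟨a, ha, hax, haW, haq⟩ := hA v huv
      obtain ⟨a₁, ha₁, ha₁x, ha₁W, ha₁q⟩ := hA v₁ huv₁
      set k := g * a * g⁻¹ * a₁⁻¹ with hk
      have hkx : ∀ y, k y = g (a (g.symm (a₁.symm y))) := fun y => rfl
      have hkKer : Ker k := by
        refine ⟨H.mul_mem (H.mul_mem (H.mul_mem hg ha) (H.inv_mem hg)) (H.inv_mem ha₁), fun z hz => ?_,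
          fun y hy => ?_⟩
        · rw [hkx, a₁.symm_apply_eq.2 (ha₁W z).symm, g.symm_apply_eq.2 (hgfix z hz).symm, haW, hgfix z hz]
        · have hy' := hHpfix a₁ ha₁ (fun z _ => ha₁W z) y hy
          set y' := a₁.symm y with hy'def
          have hy'' := hHpfix g hg hgfix y' hy'
          set x' := g.symm y' with hx'def
          obtain ⟨z, hz, e1⟩ := haq x' hy''
          obtain ⟨z', hz', e2⟩ := ha₁q y' hy'
          have b1 : B w x' = B w y' := by
            rw [hx'def, L.Bsymm, iso_symm hH hg, hgw', map_sub, L.Bsymm y' (η • u), hy' η hη, sub_zero, L.Bsymm]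
          have b2 : B x' (z₀ • v) = B y' (z₀ • v₁) := by rw [hx'def, iso_symm hH hg, hzv, hzv₁]
          have b3 : B (z₀ • v) (z₀ • v) = B (z₀ • v₁) (z₀ • v₁) := by rw [hzv, hzv₁, hH g hg]
          have hay : a₁ y' = y := by rw [hy'def, a₁.apply_symm_apply]
          refine ⟨z - z' + (B y' (z₀ • v₁) + B (z₀ • v₁) (z₀ • v₁) / 2 * B w y') • η,
            Zc.add_mem (Zc.sub_mem hz hz') (Zc.smul_mem _ hη), ?_⟩
          have e3 : g x' = y' := by rw [hx'def, g.apply_symm_apply]
          have e4 : g (z₀ • v) = z₀ • v₁ := by rw [hzv, hzv₁]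
          rw [hkx, ← hy'def, ← hx'def, e1, b1, b2, b3]
          simp only [map_add, map_sub, LinearEquiv.map_smul, hgw', hgfix z hz, e3, e4]
          rw [add_smul, sub_smul, smul_assoc]
          linear_combination (norm := module) (-(1 : F)) • hay.symm + (1 : F) • e2.symm
      -- evaluate at `g x`
      have hgx0 : β u (g x) = 0 := hgperp x hx
      have hpre : ∀ y, β u y = 0 → Hp y := fun y hy z _ => by rw [L.B_smul, hy, mul_zero, map_zero]
      have hy2 : β u (a₁ (g x)) = 0 := by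
        rw [ha₁x]
        simp [hu, huv₁, hgx0]
      have h6 := hkill k hkKer _ (hpre _ hy2)
      rw [hkx, a₁.symm_apply_apply, g.symm_apply_apply, hax, ha₁x, L.symm x u, hx, L.symm (g x) u, hgx0] at h6
      simp only [zero_smul, mul_zero, add_zero, sub_zero, map_sub, hgW] at h6
      have h7 : (β x v - ζ (β x v) • η) • u = β (g x) v₁ • u := by
        rw [sub_smul, smul_assoc]
        linear_combination (norm := module) -h6
      have h8 := smul_left_injective K hu0 h7
      have h9 : ζ (β x v) = B x p := by rw [hz₀, ← hzv, L.B_smul', mul_comm]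
      rw [h9] at h8
      have h11 := congrArg (z₀ * ·) h8
      simp only [mul_sub, mul_smul_comm] at h11
      rw [← hzv₁, map_smul, smul_eq_mul, ← h11, ← smul_eq_mul, ← map_smul, hzv]
    -- the subspaces
    obtain ⟨q, hqdef⟩ : ∃ q, q = qm v' := ⟨_, rfl⟩
    let Ψ : V →ₗ[F] K × F × F := ((β u).restrictScalars F).prod ((B r₀).prod (B q))
    set S := LinearMap.ker Ψ with hS
    have hSmem : ∀ x, x ∈ S ↔ β u x = 0 ∧ B r₀ x = 0 ∧ B q x = 0 := fun x => by
      simp [hS, Ψ]
    have hgX : ∀ x, β u x = 0 → B r₀ x = 0 → ∃ z ∈ Zc, g x = x - B q x • r₀ - z • u := by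
      intro x hx hxr
      have hφ : β (e.symm x) u₁ = 0 := L.beta_zero fun k => by
        rw [L.adj, iso_symm hH he]
        obtain ⟨z, hz, e1⟩ := hW' k
        rw [e1, map_add, map_smul, L.B_smul', L.symm, hx, L.Bsymm x r₀, hxr]
        simp
      obtain ⟨z, hz, e1⟩ := hW' (β (e.symm x) v')
      refine ⟨z, hz, ?_⟩
      have h5 : θ (β (e.symm x) v') = B q x := by
        rw [ht₀, hqdef, L.Bsymm]
        show _ = B x (e (t₀ • v'))
        rw [← iso_symm hH he, L.B_smul', mul_comm]
      rw [hgx, hφ]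
      simp only [zero_smul, mul_zero, zero_sub, sub_zero, map_neg, e1, h5]
      abel
    have hrk : finrank F V ≤ finrank F S + (finrank F K + 2) := by
      have h1 := Ψ.finrank_range_add_finrank_ker
      have h2 := Submodule.finrank_le (LinearMap.range Ψ)
      rw [Module.finrank_prod, Module.finrank_prod, Module.finrank_self] at h2
      change _ + finrank F S = _ at h1
      omega
    have hnd : ∀ y, (∀ x, B y x = 0) → y = 0 := fun y hy => L.nondeg y fun x => L.beta_zero fun k => by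
      rw [L.adj]; exact hy _
    have hβr : β r₀ u = 0 := by rw [hr₀def]; exact heu d₀
    have hη0 : z₀ * η = 0 := by
      by_contra hne
      have hiso : ∀ x ∈ S, ∀ y ∈ S, B x y = 0 := by
        intro x hx y hy
        obtain ⟨a1, a2, a3⟩ := (hSmem x).1 hx
        obtain ⟨b1, b2, b3⟩ := (hSmem y).1 hy
        obtain ⟨z, hz, e1⟩ := hgX x a1 a2
        obtain ⟨z', hz', e2⟩ := hgX y b1 b2
        have h5 := hform x y a1 b1
        rw [e1, e2, a3, b3] at h5
        simp only [zero_smul, sub_zero] at h5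
        simp only [map_sub, map_smul, LinearMap.sub_apply, LinearMap.smul_apply, b1, L.symm x u, a1, hu,
          smul_zero, sub_zero] at h5
        exact (smul_eq_zero.1 (show B x y • (z₀ * η) = 0 by linear_combination h5)).resolve_right hne
      have := finrank_perp_le hnd S S hiso
      omega
    -- the orthogonal of `S` is too large
    obtain ⟨x, hx1, hx2, hx3⟩ : ∃ x, β u x = 0 ∧ B r₀ x = 0 ∧ B q x ≠ 0 := by
      by_contra hall
      push Not at hall
      let Φ : V →ₗ[F] K × F := ((β u).restrictScalars F).prod (B r₀)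
      set X := LinearMap.ker Φ with hX
      have h1 := Φ.finrank_range_add_finrank_ker
      have h2 := Submodule.finrank_le (LinearMap.range Φ)
      rw [Module.finrank_prod, Module.finrank_self] at h2
      change _ + finrank F X = _ at h1
      have hperp : ∀ y ∈ LinearMap.range (lineMap F K V u) ⊔ (F ∙ r₀) ⊔ (F ∙ q), ∀ x ∈ X, B y x = 0 := by
        intro y hy x hx
        obtain ⟨hx1, hx2⟩ : β u x = 0 ∧ B r₀ x = 0 := by simpa [hX, Φ] using hx
        obtain ⟨y', hy', y3, hy3, rfl⟩ := Submodule.mem_sup.1 hy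
        obtain ⟨y1, hy1, y2, hy2, rfl⟩ := Submodule.mem_sup.1 hy'
        obtain ⟨c, rfl⟩ := hy1
        obtain ⟨s, rfl⟩ := mem_span_singleton.1 hy2
        obtain ⟨s', rfl⟩ := mem_span_singleton.1 hy3
        simp [L.B_smul, hx1, hx2, hall x hx1 hx2]
      have h5 := finrank_perp_le hnd _ X hperp
      have h6 : finrank F (LinearMap.range (lineMap F K V u)) <
          finrank F (LinearMap.range (lineMap F K V u) ⊔ (F ∙ r₀) : Submodule F V) := by
        refine Submodule.finrank_lt_finrank_of_lt (lt_of_le_of_ne le_sup_left fun h => hr₀ ?_)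
        have : r₀ ∈ LinearMap.range (lineMap F K V u) := by
          rw [h]; exact Submodule.mem_sup_right (mem_span_singleton_self r₀)
        obtain ⟨c, hc⟩ := this
        exact mem_span_singleton.2 ⟨c, hc⟩
      have h7 : finrank F (LinearMap.range (lineMap F K V u) ⊔ (F ∙ r₀) : Submodule F V) <
          finrank F (LinearMap.range (lineMap F K V u) ⊔ (F ∙ r₀) ⊔ (F ∙ q) : Submodule F V) := by
        refine Submodule.finrank_lt_finrank_of_lt (lt_of_le_of_ne le_sup_left fun h => hqv' ?_)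
        rw [← hqdef]
        have : q ∈ LinearMap.range (lineMap F K V u) ⊔ (F ∙ r₀) := by
          rw [h]; exact Submodule.mem_sup_right (mem_span_singleton_self q)
        refine (sup_le_sup le_rfl ?_ : LinearMap.range (lineMap F K V u) ⊔ (F ∙ r₀) ≤ T₂) this
        rw [span_singleton_le_iff_mem]
        exact ⟨1, one_smul K r₀⟩
      omega
    have hperpS : ∀ y ∈ T₂ ⊔ (F ∙ q), ∀ p ∈ S, B y p = 0 := by
      intro y hy p hp
      obtain ⟨hp1, hp2, hp3⟩ := (hSmem p).1 hp
      obtain ⟨z, hz, e1⟩ := hgX x hx1 hx2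
      obtain ⟨z', hz', e2⟩ := hgX p hp1 hp2
      have h5 := hform x p hx1 hp1
      rw [hη0, smul_zero, sub_zero, e1, e2, hp3, zero_smul, sub_zero] at h5
      simp only [map_sub, map_smul, LinearMap.sub_apply, LinearMap.smul_apply, L.symm x u, hx1, hu, hp1,
        LinearMap.map_smul_of_tower, hβr, L.symm u r₀, smul_zero, sub_zero] at h5
      have h6 : β r₀ p = 0 := by
        have : B q x • β r₀ p = 0 := by linear_combination -h5
        exact (smul_eq_zero.1 this).resolve_left hx3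
      obtain ⟨y', hy', y3, hy3, rfl⟩ := Submodule.mem_sup.1 hy
      obtain ⟨y1, hy1, y2, hy2, rfl⟩ := Submodule.mem_sup.1 hy'
      obtain ⟨c, rfl⟩ := hy1
      obtain ⟨c', rfl⟩ := hy2
      obtain ⟨s', rfl⟩ := mem_span_singleton.1 hy3
      simp [L.B_smul, hp1, h6, hp3]
    have h5 := finrank_perp_le hnd _ S hperpS
    have h6 : finrank F T₂ < finrank F (T₂ ⊔ (F ∙ q) : Submodule F V) := by
      refine Submodule.finrank_lt_finrank_of_lt (lt_of_le_of_ne le_sup_left fun h => hqv' ?_)
      rw [← hqdef, h]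
      exact Submodule.mem_sup_right (mem_span_singleton_self q)
    have h7 : finrank F T₂ = finrank F K + finrank F K := by
      rw [hT₂]
      have h := Submodule.finrank_sup_add_finrank_inf_eq (LinearMap.range (lineMap F K V u))
        (LinearMap.range (lineMap F K V r₀))
      have hbot : LinearMap.range (lineMap F K V u) ⊓ LinearMap.range (lineMap F K V r₀) = ⊥ := by
        rw [Submodule.eq_bot_iff]
        rintro _ ⟨⟨c, rfl⟩, c', hc'⟩
        by_cases h0 : c' = 0
        · rw [← hc', lineMap_apply, h0, zero_smul]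
        · exfalso
          refine hr₀ (mem_span_singleton.2 ⟨c'⁻¹ * c, ?_⟩)
          rw [mul_smul]
          show c'⁻¹ • (lineMap F K V u) c = r₀
          rw [← hc', lineMap_apply, smul_smul, inv_mul_cancel₀ h0, one_smul]
      rw [hbot, finrank_bot, hiW, hiR] at h
      omega
    omega
  -- commutators inside the kernel
  have hcomm : ∀ k, Ker k → ∀ v, β u v = 0 → ∃ k', Ker k' ∧ ∀ y, Hp y → ∃ a : V ≃ₗ[F] V,
      (∀ x, a x = x + β x u • v - β x v • u - (qK β v * β x u) • u) ∧
      k' y - y = (k (a y) - a y) - (k y - y) := by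
    intro k hk v hv
    obtain ⟨hkH, hkf, hkq⟩ := hk
    obtain ⟨a, ha, hax, haW, -⟩ := hA v hv
    have hmain : ∀ y, Hp y → (a⁻¹ * k * a * k⁻¹) y - y = (k (a y) - a y) - (k y - y) ∧
        ∃ z ∈ Zc, (a⁻¹ * k * a * k⁻¹) y = y + z • u := by
      intro y hy
      have hHpay : Hp (a y) := fun z hz => by
        rw [← haW z, hH a ha]; exact hy z hz
      obtain ⟨z, hz, e1⟩ := hkq y hy
      obtain ⟨z', hz', e2⟩ := hkq (a y) hHpay
      have h1 : k.symm y = y - z • u := k.injective (by
        rw [k.apply_symm_apply, map_sub, e1, hkf z hz]; abel)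
      have h2 : (a⁻¹ * k * a * k⁻¹) y = y + (z' - z) • u := by
        show a.symm (k (a (k.symm y))) = _
        rw [h1, map_sub, haW, map_sub, e2, hkf z hz, map_sub, map_add, a.symm_apply_apply,
          a.symm_apply_eq.2 (haW z').symm, a.symm_apply_eq.2 (haW z).symm, sub_smul]
        abel
      refine ⟨?_, _, Zc.sub_mem hz' hz, h2⟩
      rw [h2, e1, e2, sub_smul]
      abel
    refine ⟨a⁻¹ * k * a * k⁻¹,
      ⟨H.mul_mem (H.mul_mem (H.mul_mem (H.inv_mem ha) hkH) ha) (H.inv_mem hkH), fun z hz => ?_,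
        fun y hy => (hmain y hy).2⟩, fun y hy => ⟨a, hax, (hmain y hy).1⟩⟩
    show a.symm (k (a (k.symm (z • u)))) = _
    rw [k.symm_apply_eq.2 (hkf z hz).symm, haW, hkf z hz, a.symm_apply_eq.2 (haW z).symm]
  have hTu : ∀ k, Ker k → k w = w → ∀ c : K, k (c • u) = c • u := by
    intro k hk hkw c
    obtain ⟨z, hz, e1⟩ := hWdec c
    rw [e1, map_add, LinearEquiv.map_smul, hkw, hk.2.1 z hz]
  have hpre : ∀ y, β u y = 0 → Hp y := fun y hy z _ => by rw [L.B_smul, hy, mul_zero, map_zero]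
  -- a kernel element fixing the line
  obtain ⟨k₁, hk₁, hk₁w, y₁, hy₁, hk₁y⟩ : ∃ k, Ker k ∧ k w = w ∧ ∃ y, Hp y ∧ k y ≠ y := by
    obtain ⟨k, hk, y, hy, hky⟩ := hker
    by_cases hkw : k w = w
    · exact ⟨k, hk, hkw, y, hy, hky⟩
    obtain ⟨v, hvP, hvv⟩ := L.exists_aniso hu hu' h1 (by omega)
    have huv : β u v = 0 := (mem_perpTwo.1 hvP).1
    obtain ⟨c, hc⟩ : ∃ c, τ c ≠ 0 := by
      by_contra hall
      push Not at hall
      exact L.τne (LinearMap.ext hall)
    obtain ⟨k', hk', hT⟩ := hcomm k hk v huv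
    obtain ⟨l, hl⟩ : ∃ l, l = c / (β v v * z₀) := ⟨_, rfl⟩
    refine ⟨k', hk', ?_, l • v, hpre _ (by rw [map_smul, huv, smul_zero]), ?_⟩
    · obtain ⟨a, hax, e1⟩ := hT w (fun z _ => by rw [hw]; exact hWsing z c₀)
      have : a w = w := by rw [hax, hw]; simp [hu, huv]
      rw [this, sub_self, sub_eq_zero] at e1
      exact e1
    · obtain ⟨a, hax, e1⟩ := hT (l • v) (hpre _ (by rw [map_smul, huv, smul_zero]))
      intro hfix
      have hay : a (l • v) = l • v - (l * β v v) • u := by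
        rw [hax]
        simp [L.symm v u, huv]
      obtain ⟨z, hz, e2⟩ := hWdec (l * β v v)
      rw [hfix, sub_self, hay, e2, map_sub, map_add, LinearEquiv.map_smul, hk.2.1 z hz] at e1
      have h5 : ζ (l * β v v) • (k w - w) = 0 := by linear_combination (norm := module) e1
      rw [smul_eq_zero, sub_eq_zero, or_iff_left hkw, hz₀, hl] at h5
      have hbz : c / (β v v * z₀) * β v v * z₀ = c := by field_simp
      rw [hbz] at h5
      exact hc h5
  -- a kernel element of rank one
  obtain ⟨h, zh, hzh, hh, hh0, k₂, hk₂, hk₂y⟩ : ∃ (h : V) (zh : K), zh ∈ Zc ∧ h = zh • u ∧ h ≠ 0 ∧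
      ∃ k, Ker k ∧ ∀ y, Hp y → k y = y + B w y • h := by
    set w' := z₀ • u' with hw'
    have hw'p : Hp w' := fun z hz => by rw [hw', L.B_smul, map_smul, h1, smul_eq_mul, mul_one, ← hz₀, hζP z hz]
    have hww' : B w w' = 1 := by rw [hw, hw', L.B_smul, map_smul, h1, smul_eq_mul, mul_one, ← hz₀, hζc]
    have hperp : ∀ y, Hp y → β u (y - B w y • w') = 0 := by
      intro y hy
      refine L.beta_zero fun k => ?_
      obtain ⟨z, hz, e1⟩ := hWdec k
      rw [e1, map_add B, B.map_smul, LinearMap.add_apply, LinearMap.smul_apply, map_sub, map_sub, hy z hz,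
        (B w).map_smul, (B (z • u)).map_smul, hww', hw'p z hz]
      simp
    by_cases hvan : ∀ y, β u y = 0 → k₁ y = y
    · obtain ⟨zh, hzh, e1⟩ := hk₁.2.2 w' hw'p
      have hall : ∀ y, Hp y → k₁ y = y + B w y • (zh • u) := by
        intro y hy
        have h5 := hvan _ (hperp y hy)
        rw [map_sub, LinearEquiv.map_smul, e1] at h5
        linear_combination (norm := module) h5
      refine ⟨zh • u, zh, hzh, rfl, fun h0 => hk₁y ?_, k₁, hk₁, hall⟩
      rw [hall y₁ hy₁, h0, smul_zero, add_zero]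
    · push Not at hvan
      obtain ⟨p, hp, hkp⟩ := hvan
      obtain ⟨zp, hzp, e1⟩ := hk₁.2.2 p (hpre p hp)
      obtain ⟨v, hvdef⟩ : ∃ v, v = z₀⁻¹ • p := ⟨_, rfl⟩
      have huv : β u v = 0 := by rw [hvdef, map_smul, hp, smul_zero]
      have hzv : z₀ • v = p := by rw [hvdef, smul_smul, mul_inv_cancel₀ hz00, one_smul]
      obtain ⟨k', hk', hT⟩ := hcomm k₁ hk₁ v huv
      refine ⟨zp • u, zp, hzp, rfl, fun h0 => hkp (by rw [e1, h0, add_zero]), k', hk', fun y hy => ?_⟩
      obtain ⟨a, hax, e2⟩ := hT y hy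
      obtain ⟨a', -, ha'x, -, haq⟩ := hA v huv
      obtain ⟨z, hz, e3⟩ := haq y hy
      rw [ha'x, ← hax, hzv] at e3
      rw [e3] at e2
      simp only [map_add, map_sub, LinearEquiv.map_smul, hk₁w, e1, hk₁.2.1 z hz] at e2
      linear_combination (norm := module) e2
  -- pure root elements
  have hpure : ∀ g : V ≃ₗ[F] V, g ∈ H → (∀ z ∈ Zc, g (z • u) = z • u) → (∀ x, Hp (g x - x)) →
      ∀ d, g w = w + d → B d d = 0 → B w d = 0 → Hp d → Sg H B h (-d) := by
    intro g hg hgf hgp d hgd hdd hwd hd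
    obtain ⟨hkH, hkf, -⟩ := hk₂
    have hgh : g h = h := by rw [hh]; exact hgf zh hzh
    have hkh : k₂ h = h := by rw [hh]; exact hkf zh hzh
    have hBh : ∀ y, Hp y → B h y = 0 := fun y hy => by rw [hh]; exact hy zh hzh
    let η : V →ₗ[F] V := k₂.toLinearMap - LinearMap.id + ((B h).smulRight w - (B w).smulRight h)
    have hηx : ∀ x, k₂ x = x - B h x • w + B w x • h + η x := fun x => by
      simp [η]; abel
    have hηp : ∀ y, Hp y → η y = 0 := fun y hy => by
      have h5 := hηx y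
      rw [hk₂y y hy, hBh y hy] at h5
      linear_combination (norm := module) -h5
    have hηo : ∀ y, Hp y → ∀ x, B y (η x) = 0 := fun y hy x => by
      have h5 := hH k₂ hkH y x
      have h6 : B h (k₂ x) = B h x := by conv_lhs => rw [← hkh, hH k₂ hkH]
      rw [hk₂y y hy, map_add, LinearMap.add_apply, map_smul, LinearMap.smul_apply, h6, hηx x] at h5
      simp only [map_add, map_sub, map_smul, smul_eq_mul, L.Bsymm y w, L.Bsymm y h, hBh y hy] at h5
      linear_combination h5
    have hgη : ∀ x, g (η x) = η x := by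
      intro x
      refine sub_eq_zero.1 (L.nondeg _ fun t => L.beta_zero fun l => ?_)
      rw [L.adj, map_sub, LinearMap.sub_apply, L.Bsymm (g (η x)), ← iso_symm hH hg, L.Bsymm (η x), ← LinearMap.sub_apply,
        ← map_sub]
      refine hηo _ ?_ x
      have := hgp (g.symm (l • t))
      rw [g.apply_symm_apply] at this
      intro z hz
      rw [← neg_sub (l • t), map_neg, this z hz, neg_zero]
    have hηg : ∀ x, η (g.symm x) = η x := fun x => by
      have h5 := hgp (g.symm x)
      rw [g.apply_symm_apply] at h5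
      have := hηp _ h5
      rw [map_sub, sub_eq_zero] at this
      exact this.symm
    refine ⟨g * k₂ * g⁻¹ * k₂⁻¹, H.mul_mem (H.mul_mem (H.mul_mem hg hkH) (H.inv_mem hg)) (H.inv_mem hkH),
      fun x => ?_⟩
    obtain ⟨y, rfl⟩ := k₂.surjective x
    show g (k₂ (g.symm (k₂.symm (k₂ y)))) = _
    rw [k₂.symm_apply_apply, hηx, map_add, map_add, map_sub, g.apply_symm_apply, LinearEquiv.map_smul,
      LinearEquiv.map_smul, hgη, hηg, hgd, hgh, L.Bsymm h (g.symm y), iso_symm hH hg, hgh, L.Bsymm w (g.symm y),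
      iso_symm hH hg, hgd, hηx y]
    have b1 : B w h = 0 := by rw [hw, hh]; exact hWsing _ _
    have b2 : B h h = 0 := by rw [hh]; exact hWsing _ _
    have b3 : B (η y) h = 0 := by
      rw [L.Bsymm]; exact hηo h (fun z hz => by rw [hh]; exact hWsing _ _) y
    have b4 : B (η y) d = 0 := by rw [L.Bsymm]; exact hηo d hd y
    simp only [map_add, map_sub, map_smul, map_neg, LinearMap.add_apply, LinearMap.sub_apply, LinearMap.smul_apply,
      LinearMap.neg_apply, smul_eq_mul, hdd, b1, b2, b3, b4, hwd, hBh d hd, L.Bsymm h y, L.Bsymm w y,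
      neg_zero, zero_div, mul_zero, zero_mul, zero_smul, add_zero, sub_zero, neg_neg]
    module
  -- the whole image line
  obtain ⟨v₀, hv₀1, hv₀2⟩ := L.exists_value_one hy₀
  have hW'S : ∀ k : K, Sg H B h (e (k • u₁)) := by
    intro k
    obtain ⟨b, hb, hbx, hbf, hbp, hbw⟩ := hB (k • v₀) (by rw [map_smul, hv₀1, smul_zero])
    rw [(β y₀).map_smul, hv₀2, smul_eq_mul, mul_one] at hbw
    have h5 := hpure b hb hbf hbp (-e (k • u₁)) (by rw [hbw, sub_eq_add_neg]) (by simp [hW'sing])
      (by rw [map_neg, hw, hWW', neg_zero]) (fun z _ => by rw [map_neg, hWW', neg_zero])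
    rwa [neg_neg] at h5
  have hWS : ∀ k : K, Sg H B h (k • u) := by
    intro k
    obtain ⟨v, hv1, hv2⟩ := L.exists_value_one hr₀
    obtain ⟨a, ha, hax, haW, -⟩ := hA ((-k) • v) (by rw [map_smul, hv1, smul_zero])
    have hah : a h = h := by rw [hh]; exact haW zh
    have h5 := (hW'S d₀).conj hH ha
    rw [← hr₀def, hah, hax, hr₀def, heu, ← hr₀def] at h5
    simp only [zero_smul, mul_zero, add_zero, sub_zero, map_neg, neg_mul, map_smul, smul_eq_mul, hv2, mul_one, neg_smul,
      sub_neg_eq_add] at h5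
    have h6 := hW'S (-d₀)
    rw [neg_smul, map_neg, ← hr₀def] at h6
    have b1 : B h h = 0 := by rw [hh]; exact hWsing _ _
    have b2 : B h r₀ = 0 := by rw [hh, hr₀def]; exact hWW' _ _
    have h7 := Sg.add L h5 h6 b1 (by rw [map_add, b2, hh, hWsing, add_zero]) (by rw [map_neg, b2, neg_zero])
    rwa [add_neg_cancel_comm] at h7
  refine ⟨u', zh, r₀ - β u' r₀ • u, h1, hu', fun h0 => hh0 (by rw [hh, h0, zero_smul]), fun h0 => hr₀
    (mem_span_singleton.2 ⟨_, (sub_eq_zero.1 h0).symm⟩), ?_, ?_, fun k => hh ▸ hWS k, fun t => ?_⟩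
  · refine mem_perpTwo.2 ⟨?_, ?_⟩
    · rw [map_sub, map_smul, hu, L.symm u r₀, hr₀def, heu, smul_zero, sub_zero]
    · rw [map_sub, map_smul, L.symm u' u, h1, smul_eq_mul, mul_one, sub_self]
  · simp [hr₀def, hW'sing, hWsing, hWW', L.Bsymm (e (d₀ • u₁))]
  · have h5 : Sg H B h (t • r₀) := by
      rw [hr₀def, ← LinearEquiv.map_smul, ← smul_assoc]; exact hW'S _
    have h6 : Sg H B h (-(t • (β u' r₀ • u))) := by
      rw [← smul_assoc, ← neg_smul]; exact hWS _
    have b1 : B h h = 0 := by rw [hh]; exact hWsing _ _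
    have h7 := Sg.add L h5 h6 b1 (by rw [map_smul, hh, hr₀def, hWW', smul_zero])
      (by rw [map_neg, map_smul, hh, hWsing, smul_zero, neg_zero])
    rw [smul_sub, sub_eq_add_neg, ← hh]
    exact h7

end Cfsg.Agent.ExtFieldMax.Orth
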