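import Cfsg.Agent.Lib.ExtFieldMax.OrthBasic

/-!
A root element at a singular line over an extension field gives every root element at two centres
that are not orthogonal.
-/

set_option autoImplicit false

namespace Cfsg.Agent.ExtFieldMax.Orth

open Module Submodule

variable {F K V : Type*} [Field F] [Field K] [Algebra F K] [AddCommGroup V] [Module F V] [Module K V]
  [IsScalarTower F K V] [FiniteDimensional F K] [FiniteDimensional K V]
  {B : LinearMap.BilinForm F V} {τ : K →ₗ[F] F} {β : V →ₗ[K] V →ₗ[K] K}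
  {H : Subgroup (V ≃ₗ[F] V)}

variable (L : ExtOrth B τ β)

include L

omit [IsScalarTower F K V] [FiniteDimensional F K] [FiniteDimensional K V] in
/-- Squares see everything. -/
theorem exists_sq_ne {c : K} (hc : c ≠ 0) : ∃ s : K, τ (c * (s * s)) ≠ 0 := by
  by_contra hall
  push Not at hall
  refine hc (L.uniq (b := 0) fun k => ?_)
  rw [mul_zero, map_zero]
  have h1 := hall (k + 1)
  rw [show c * ((k + 1) * (k + 1)) = c * (k * k) + (k * c + k * c) + c * (1 * 1) by ring, map_add, map_add, map_add,
    hall k, hall 1] at h1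
  exact (mul_eq_zero.1 (show (2 : F) * τ (k * c) = 0 by linear_combination h1)).resolve_left L.two

/-- An anisotropic vector with prescribed trace and non-degenerate pairing. -/
theorem exists_good [Finite F] [Finite K] (h4 : 4 ≤ finrank K V) (h7 : finrank F K = 2 → 7 ≤ finrank K V)
    (hr : 2 ≤ finrank F K) {u u' : V} (hu : β u u = 0) (hu' : β u' u' = 0) (h1 : β u u' = 1)
    {π : V} (hπ : π ∈ perpTwo β u u') (hπ0 : π ≠ 0) (hπB : B π π = 0) {c : K} (hc : c ≠ 0) :
    ∃ v ∈ perpTwo β u u', qK β v ≠ 0 ∧ τ (c * qK β v) = 0 ∧ τ (β π v * β π v / qK β v) ≠ 0 := by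
  classical
  cases nonempty_fintype F
  cases nonempty_fintype K
  set P := perpTwo β u u' with hP
  have hPnd : ∀ x ∈ P, x ≠ 0 → ∃ y ∈ P, β x y ≠ 0 := by
    intro x hx hx0
    by_contra hne
    push Not at hne
    exact hx0 (L.perpTwo_nondeg hu hu' h1 hx hne)
  have hfr : finrank K V ≤ finrank K P + 2 := ExtOrth.finrank_perpTwo (β := β) u u'
  rcases eq_or_lt_of_le hr with hr2 | hr3
  · -- a quadratic extension
    have h7' := h7 hr2.symm
    obtain ⟨l, hl0, hl⟩ : ∃ l : K, l ≠ 0 ∧ τ (c * l) = 0 := by
      obtain ⟨l, hl, hl0⟩ := (Submodule.ne_bot_iff _).1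
        (fun h : LinearMap.ker (τ ∘ₗ LinearMap.mulLeft F c) = ⊥ => by
          have := (τ ∘ₗ LinearMap.mulLeft F c).finrank_range_add_finrank_ker
          have h2 := Submodule.finrank_le (LinearMap.range (τ ∘ₗ LinearMap.mulLeft F c))
          rw [Module.finrank_self] at h2
          rw [h, finrank_bot] at this
          omega)
      exact ⟨l, hl0, by simpa using hl⟩
    by_cases hππ : β π π = 0
    · obtain ⟨p, hp, hpn⟩ := hPnd π hπ hπ0
      obtain ⟨s, hs⟩ := exists_sq_ne L (c := l⁻¹) (inv_ne_zero hl0)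
      have hs0 : s ≠ 0 := fun h => hs (by simp [h])
      obtain ⟨p', hp'def⟩ : ∃ p', p' = (s / β π p) • p := ⟨_, rfl⟩
      have hbp : β π p' = s := by rw [hp'def, map_smul, smul_eq_mul, div_mul_cancel₀ _ hpn]
      refine ⟨p' + ((l - qK β p') / s) • π, P.add_mem (hp'def ▸ P.smul_mem _ hp) (P.smul_mem _ hπ), ?_, ?_, ?_⟩
      all_goals
        have hq : qK β (p' + ((l - qK β p') / s) • π) = l := by
          rw [L.qK_add, L.qK_smul, L.qK_zero_iff.2 hππ, map_smul, smul_eq_mul, L.symm p' π, hbp,
            div_mul_cancel₀ _ hs0]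
          ring
      · rw [hq]; exact hl0
      · rw [hq]; exact hl
      · rw [hq, map_add, map_smul, hππ, smul_zero, add_zero, hbp, div_eq_inv_mul]
        exact hs
    · -- choose a vector of the orthogonal of `π`
      set A := qK β π with hA
      have hA0 : A ≠ 0 := fun h => hππ (L.qK_zero_iff.1 h)
      obtain ⟨s, hs⟩ := exists_sq_ne L (c := (2 * A) * (2 * A) / l)
        (div_ne_zero (mul_ne_zero (mul_ne_zero L.two_K hA0) (mul_ne_zero L.two_K hA0)) hl0)
      set R := P ⊓ LinearMap.ker (β π) with hRdef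
      have hR3 : 4 ≤ finrank K R := by
        have a1 := Submodule.finrank_sup_add_finrank_inf_eq P (LinearMap.ker (β π))
        have a2 := Submodule.finrank_le (P ⊔ LinearMap.ker (β π))
        have a3 := (β π).finrank_range_add_finrank_ker
        have a4 := Submodule.finrank_le (LinearMap.range (β π))
        rw [Module.finrank_self] at a4
        change 4 ≤ finrank K (P ⊓ LinearMap.ker (β π) : Submodule K V)
        omega
      obtain ⟨z, hzR, hz0, hzz⟩ := L.exists_isotropic R (by omega)
      obtain ⟨hzP, hzπ⟩ := Submodule.mem_inf.1 hzR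
      rw [LinearMap.mem_ker] at hzπ
      obtain ⟨p, hp, hpn⟩ := hPnd z hzP hz0
      obtain ⟨p', hp'def⟩ : ∃ p', p' = p - (β π p / β π π) • π := ⟨_, rfl⟩
      have hp'P : p' ∈ P := hp'def ▸ P.sub_mem hp (P.smul_mem _ hπ)
      have hπp' : β π p' = 0 := by
        rw [hp'def, map_sub, map_smul, smul_eq_mul, div_mul_cancel₀ _ hππ, sub_self]
      have hzp' : β z p' ≠ 0 := by
        rw [hp'def, map_sub, map_smul, L.symm z π, hzπ, smul_zero, sub_zero]; exact hpn
      set t := (l - s * s * A - qK β p') / β z p' with ht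
      have hq : qK β (s • π + (p' + t • z)) = l := by
        rw [L.qK_add, L.qK_smul, L.qK_add p', L.qK_smul, L.qK_zero_iff.2 hzz, β.map_smul, map_smul, map_add,
          map_smul, LinearMap.smul_apply, LinearMap.smul_apply, hπp', hzπ, L.symm p' z, smul_eq_mul, ht,
          div_mul_cancel₀ _ hzp']
        simp [hA]
      refine ⟨s • π + (p' + t • z), P.add_mem (P.smul_mem _ hπ) (P.add_mem hp'P (P.smul_mem _ hzP)),
        hq ▸ hl0, by rw [hq]; exact hl, ?_⟩
      rw [hq, map_add, map_add, map_smul, map_smul, hπp', hzπ, L.beta_self, ← hA]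
      simp only [smul_eq_mul, mul_zero, add_zero]
      convert hs using 3
      ring
  -- higher degree
  obtain ⟨v₁, hv₁, hq₁, hb₁⟩ : ∃ v ∈ P, qK β v ≠ 0 ∧ τ (β π v * β π v / qK β v) ≠ 0 := by
    by_contra hnone
    push Not at hnone
    by_cases hππ : β π π = 0
    · obtain ⟨p, hp, hpn⟩ := hPnd π hπ hπ0
      apply L.τne
      ext k
      rw [LinearMap.zero_apply]
      by_cases hk : k = 0
      · rw [hk, map_zero]
      obtain ⟨p', hp'def⟩ : ∃ p', p' = (β π p)⁻¹ • p := ⟨_, rfl⟩
      have hbp : β π p' = 1 := by rw [hp'def, map_smul, smul_eq_mul, inv_mul_cancel₀ hpn]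
      have hq : qK β (p' + (k⁻¹ - qK β p') • π) = k⁻¹ := by
        rw [L.qK_add, L.qK_smul, L.qK_zero_iff.2 hππ, map_smul, smul_eq_mul, L.symm p' π, hbp]
        ring
      have h5 := hnone (p' + (k⁻¹ - qK β p') • π) (P.add_mem (hp'def ▸ P.smul_mem _ hp) (P.smul_mem _ hπ))
        (by rw [hq]; exact inv_ne_zero hk)
      rwa [hq, map_add, map_smul, hππ, smul_zero, add_zero, hbp, div_inv_eq_mul, one_mul, one_mul] at h5
    · set A := qK β π with hA
      have hA0 : A ≠ 0 := fun h => hππ (L.qK_zero_iff.1 h)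
      obtain ⟨ρ, hρP, hρπ, hρ⟩ : ∃ ρ ∈ P, β π ρ = 0 ∧ qK β ρ ≠ 0 := by
        by_contra hall
        push Not at hall
        obtain ⟨x, hx, hx0⟩ : ∃ x ∈ P ⊓ LinearMap.ker (β π), x ≠ 0 := by
          refine (Submodule.ne_bot_iff _).1 fun h => ?_
          have a1 := Submodule.finrank_sup_add_finrank_inf_eq P (LinearMap.ker (β π))
          have a2 := Submodule.finrank_le (P ⊔ LinearMap.ker (β π))
          have a3 := (β π).finrank_range_add_finrank_ker
          have a4 := Submodule.finrank_le (LinearMap.range (β π))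
          rw [Module.finrank_self] at a4
          rw [h, finrank_bot] at a1
          omega
        obtain ⟨hxP, hxπ⟩ := Submodule.mem_inf.1 hx
        rw [LinearMap.mem_ker] at hxπ
        obtain ⟨p, hp, hpn⟩ := hPnd x hxP hx0
        obtain ⟨p', hp'def⟩ : ∃ p', p' = p - (β π p / β π π) • π := ⟨_, rfl⟩
        have hp'P : p' ∈ P := hp'def ▸ P.sub_mem hp (P.smul_mem _ hπ)
        have hπp' : β π p' = 0 := by
          rw [hp'def, map_sub, map_smul, smul_eq_mul, div_mul_cancel₀ _ hππ, sub_self]
        have h5 := hall _ (P.add_mem hxP hp'P) (by rw [map_add, hxπ, hπp', add_zero])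
        rw [L.qK_add, hall x hxP hxπ, hall p' hp'P hπp', zero_add, zero_add] at h5
        refine hpn ?_
        rwa [hp'def, map_sub, map_smul, L.symm x π, hxπ, smul_zero, sub_zero] at h5
      set C := qK β ρ with hC
      set T := LinearMap.ker (τ : K →ₗ[F] F) with hT
      let φ : K → K := fun k => 2 * A * (2 * A) / (A + k * k * C)
      have hval : ∀ k, A + k * k * C ≠ 0 → φ k ∈ T := by
        intro k hk
        have hq : qK β (π + k • ρ) = A + k * k * C := by
          rw [L.qK_add, L.qK_smul, map_smul, hρπ, smul_zero, add_zero]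
        have h5 := hnone _ (P.add_mem hπ (P.smul_mem k hρP)) (by rw [hq]; exact hk)
        rw [hq, map_add, map_smul, hρπ, smul_zero, add_zero, L.beta_self] at h5
        exact h5
      set G := Finset.univ.filter (fun k : K => A + k * k * C ≠ 0) with hG
      set T' := Finset.univ.filter (fun k : K => k ∈ T ∧ k ≠ 0) with hT'
      have hfib : ∀ y ∈ T', (G.filter fun k => φ k = y).card ≤ 2 := by
        intro y _
        rcases (G.filter fun k => φ k = y).eq_empty_or_nonempty with h0 | ⟨a, ha⟩
        · rw [h0]; simp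
        have hsub : (G.filter fun k => φ k = y) ⊆ {a, -a} := by
          intro k hk
          simp only [hG, Finset.mem_filter, Finset.mem_univ, true_and] at ha hk
          have e1 : φ k = φ a := hk.2.trans ha.2.symm
          simp only [φ] at e1
          rw [div_eq_div_iff hk.1 ha.1] at e1
          have e2 := mul_left_cancel₀ (mul_ne_zero (mul_ne_zero L.two_K hA0) (mul_ne_zero L.two_K hA0)) e1
          have e3 : (k - a) * (k + a) = 0 := by
            have : (k * k - a * a) * C = 0 := by linear_combination -e2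
            linear_combination (mul_eq_zero.1 this).resolve_right hρ
          rw [Finset.mem_insert, Finset.mem_singleton]
          rcases mul_eq_zero.1 e3 with h | h
          · exact Or.inl (sub_eq_zero.1 h)
          · exact Or.inr (eq_neg_of_add_eq_zero_left h)
        exact (Finset.card_le_card hsub).trans Finset.card_le_two
      have hmaps : ∀ k ∈ G, φ k ∈ T' := by
        intro k hk
        simp only [hG, Finset.mem_filter, Finset.mem_univ, true_and] at hk
        simp only [hT', Finset.mem_filter, Finset.mem_univ, true_and]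
        exact ⟨hval k hk, div_ne_zero (mul_ne_zero (mul_ne_zero L.two_K hA0) (mul_ne_zero L.two_K hA0)) hk⟩
      have hcount := Finset.card_le_mul_card_image_of_maps_to hmaps 2 hfib
      have hbad : (Finset.univ.filter (fun k : K => ¬ A + k * k * C ≠ 0)).card ≤ 2 := by
        rcases (Finset.univ.filter (fun k : K => ¬ A + k * k * C ≠ 0)).eq_empty_or_nonempty with h0 | ⟨a, ha⟩
        · rw [h0]; simp
        refine (Finset.card_le_card (t := {a, -a}) fun k hk => ?_).trans Finset.card_le_two
        simp only [Finset.mem_filter, Finset.mem_univ, true_and, not_not] at ha hk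
        have : (k - a) * (k + a) = 0 := by
          have : (k * k - a * a) * C = 0 := by linear_combination hk - ha
          linear_combination (mul_eq_zero.1 this).resolve_right hρ
        rw [Finset.mem_insert, Finset.mem_singleton]
        rcases mul_eq_zero.1 this with h | h
        · exact Or.inl (sub_eq_zero.1 h)
        · exact Or.inr (eq_neg_of_add_eq_zero_left h)
      have hsplit := Finset.card_filter_add_card_filter_not (s := (Finset.univ : Finset K)) (fun k : K => A + k * k * C ≠ 0)
      rw [Finset.card_univ, ← hG] at hsplit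
      have hT'le : T'.card + 1 ≤ Fintype.card T := by
        have hins : insert (0 : K) T' ⊆ Finset.univ.filter (fun k : K => k ∈ T) := by
          intro k hk
          rcases Finset.mem_insert.1 hk with rfl | hk
          · simp
          · simp only [hT', Finset.mem_filter, Finset.mem_univ, true_and] at hk ⊢
            exact hk.1
        have := Finset.card_le_card hins
        rw [Finset.card_insert_of_notMem (by simp [hT'])] at this
        rwa [Fintype.card_subtype]
      have hcardT : Fintype.card T = Fintype.card F ^ finrank F T := Module.card_eq_pow_finrank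
      have hcardK : Fintype.card K = Fintype.card F ^ finrank F K := Module.card_eq_pow_finrank
      have hTr : finrank F T + 1 = finrank F K := by
        have h1 := τ.finrank_range_add_finrank_ker
        have h2 := Submodule.finrank_le (LinearMap.range τ)
        rw [Module.finrank_self] at h2
        have h3 : LinearMap.range τ ≠ ⊥ := fun h => L.τne (LinearMap.range_eq_bot.1 h)
        have h4 := Submodule.one_le_finrank_iff.2 h3
        change _ + finrank F T = _ at h1
        omega
      have hq3 : 3 ≤ Fintype.card F := by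
        by_contra hlt
        have h2 : Fintype.card F = 2 := by have := Fintype.one_lt_card (α := F); omega
        refine L.two ?_
        have h5 := Nat.cast_card_eq_zero F
        rw [h2] at h5
        exact_mod_cast h5
      rw [← hTr, pow_succ] at hcardK
      have hpos : 1 ≤ Fintype.card F ^ finrank F T := Nat.one_le_pow _ _ (by omega)
      have h3' : Fintype.card F ^ finrank F T * 3 ≤ Fintype.card F ^ finrank F T * Fintype.card F :=
        Nat.mul_le_mul_left _ hq3
      omega
  let f : LinearMap.BilinForm F K :=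
    LinearMap.mk₂ F (fun a b => τ (c * qK β v₁ * (a * b))) (fun a b d => by simp [mul_add, add_mul])
      (fun s a d => by simp) (fun a b d => by simp [mul_add]) (fun s a d => by simp)
  obtain ⟨k, hk0, hk⟩ := exists_common_zero (W := K) (ι := Fin 1) (fun _ => f) (fun _ => 0) (by
    rw [Fintype.card_fin]; omega)
  have hk' : τ (c * qK β v₁ * (k * k)) = 0 := by simpa [f] using hk 0
  refine ⟨k • v₁, P.smul_mem _ hv₁, by rw [L.qK_smul]; exact mul_ne_zero (mul_ne_zero hk0 hk0) hq₁, ?_, ?_⟩
  · rw [L.qK_smul, show c * (k * k * qK β v₁) = c * qK β v₁ * (k * k) by ring]; exact hk'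
  · rw [L.qK_smul, map_smul, smul_eq_mul]
    rw [show k * β π v₁ * (k * β π v₁) / (k * k * qK β v₁) = β π v₁ * β π v₁ / qK β v₁ by field_simp]
    exact hb₁

/-- All root elements at two centres that are not orthogonal. -/
theorem full_pair [Finite F] [Finite K] (h4 : 4 ≤ finrank K V) (h7 : finrank F K = 2 → 7 ≤ finrank K V)
    (hr : 2 ≤ finrank F K) (hH : Iso H B) (hR : HasSiegel H β)
    {u u' : V} {z : K} {π : V} (hu : β u u = 0) (hu' : β u' u' = 0) (h1 : β u u' = 1) (hz : z ≠ 0)
    (hπ0 : π ≠ 0) (hπ : π ∈ perpTwo β u u') (hπB : B π π = 0)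
    (hW : ∀ k : K, Sg H B (z • u) (k • u)) (hπS : ∀ t : F, Sg H B (z • u) (t • π)) :
    ∃ a b, B a a = 0 ∧ B b b = 0 ∧ B a b ≠ 0 ∧ (∀ y, B a y = 0 → Sg H B a y) ∧
      ∀ y, B b y = 0 → Sg H B b y := by
  set P := perpTwo β u u' with hP
  obtain ⟨hπ1, hπ2⟩ := mem_perpTwo.1 hπ
  set h := z • u with hhdef
  have hBh : ∀ x, B h x = τ (z * β u x) := fun x => L.B_smul _ _ _
  have hhh : B h h = 0 := by rw [hBh, hhdef, map_smul, hu, smul_zero, mul_zero, map_zero]
  let S : Submodule F V :=
    { carrier := {y | B h y = 0 ∧ ∀ t : F, Sg H B h (t • y)}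
      zero_mem' := ⟨map_zero _, fun t => by rw [smul_zero]; exact Sg.zero h⟩
      add_mem' := fun {a b} ha hb => ⟨by rw [map_add, ha.1, hb.1, add_zero], fun t => by
        rw [smul_add]
        exact Sg.add L (ha.2 t) (hb.2 t) hhh (by rw [map_smul, ha.1, smul_zero])
          (by rw [map_smul, hb.1, smul_zero])⟩
      smul_mem' := fun s y hy => ⟨by rw [map_smul, hy.1, smul_zero], fun t => by
        rw [smul_smul]; exact hy.2 _⟩ }
  have hSmem : ∀ {y}, y ∈ S ↔ B h y = 0 ∧ ∀ t : F, Sg H B h (t • y) := fun {y} => Iff.rfl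
  have hWmem : ∀ k : K, k • u ∈ S := fun k => hSmem.2 ⟨by rw [hBh, map_smul, hu, smul_zero, mul_zero, map_zero],
    fun t => by rw [← smul_assoc]; exact hW _⟩
  have hπmem : π ∈ S := hSmem.2 ⟨by rw [hBh, hπ1, mul_zero, map_zero], hπS⟩
  -- two steps exchanging the lines
  have hn : ∀ v ∈ P, qK β v ≠ 0 → ∃ n ∈ H, (∀ c : K, n (c • u) = -(c * qK β v) • u') ∧
      ∀ y ∈ P, n y = y - (β y v / qK β v) • v - β y v • u' := by
    intro v hv hq
    obtain ⟨hv1, hv2⟩ := mem_perpTwo.1 hv
    obtain ⟨a, ha, hax, -, -⟩ := siegel_elem L hR hu' hv2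
    obtain ⟨b, hb, hbx, -, hbK⟩ := siegel_elem L hR hu (v := (qK β v)⁻¹ • v) (by rw [map_smul, hv1, smul_zero])
    refine ⟨b * a, H.mul_mem hb ha, fun c => ?_, fun y hy => ?_⟩
    · show b (a (c • u)) = _
      rw [hax, hbx]
      simp only [map_add, map_sub, map_smul, LinearMap.add_apply, LinearMap.sub_apply, LinearMap.smul_apply,
        smul_eq_mul, hu, hu', h1, L.symm u' u, hv1, hv2, L.symm v u, L.symm v u', L.beta_self v, L.qK_smul]
      match_scalars <;> field_simp <;> ring
    · obtain ⟨hy1, hy2⟩ := mem_perpTwo.1 hy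
      show b (a y) = _
      rw [hax, hbx]
      simp only [map_add, map_sub, map_smul, LinearMap.add_apply, LinearMap.sub_apply, LinearMap.smul_apply,
        smul_eq_mul, hu', h1, L.symm u' u, hv1, hv2, L.symm v u, L.symm v u', L.beta_self v, L.qK_smul,
        L.symm y u, L.symm y u', hy1, hy2]
      match_scalars <;> field_simp <;> ring
  -- a member of the second line
  have hcross : ∀ v ∈ P, qK β v ≠ 0 → τ (z * (z * qK β v)) = 0 → ∀ y ∈ P, y ∈ S →
      B y y - τ (β y v * β y v / qK β v) ≠ 0 → (z * qK β v) • u' ∈ S := by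
    intro v hv hq hzq y hyP hyS hne
    obtain ⟨hv1, hv2⟩ := mem_perpTwo.1 hv
    obtain ⟨hy1, hy2⟩ := mem_perpTwo.1 hyP
    obtain ⟨n, hn', hnu, hnP⟩ := hn v hv hq
    obtain ⟨x, hxdef⟩ : ∃ x, x = n h := ⟨_, rfl⟩
    have hx : x = -(z * qK β v) • u' := by rw [hxdef, hhdef, hnu]
    obtain ⟨y', hy'def⟩ : ∃ y', y' = y - (β y v / qK β v) • v := ⟨_, rfl⟩
    have hy'P : y' ∈ P := hy'def ▸ P.sub_mem hyP (P.smul_mem _ hv)
    have hxy' : Sg H B x y' := by
      have hmem : y + (-(β y v / qK β v)) • u ∈ S := S.add_mem hyS (hWmem _)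
      have h5 := ((hSmem.1 hmem).2 1).conj hH hn'
      rw [one_smul, ← hxdef, map_add, hnP y hyP, hnu, neg_mul, div_mul_cancel₀ _ hq, neg_neg, sub_add_cancel,
        ← hy'def] at h5
      exact h5
    obtain ⟨g, hg, hgx⟩ := hxy'
    have hBxy : B h x = 0 := by
      rw [hBh, hx, map_smul, h1, smul_eq_mul, mul_one, mul_neg, map_neg, hzq, neg_zero]
    have hBhy' : B h y' = 0 := by rw [hBh, (mem_perpTwo.1 hy'P).1, mul_zero, map_zero]
    have hByx : B y x = 0 := by rw [hx, L.B_smul', L.symm y u', hy2, mul_zero, map_zero]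
    have hgh : g h = h := by
      rw [hgx, hBxy, hBhy']
      simp
    have hgy : g y = y - B y y' • x := by
      rw [hgx, hByx]
      simp
    have hne' : B y y' ≠ 0 := by
      convert hne using 1
      rw [hy'def, map_sub, L.B_smul' _ y v]
      congr 2
      ring
    have h7 : ∀ t : F, Sg H B h (t • x) := by
      intro t
      set s := -t / B y y' with hs
      have h8 := ((hSmem.1 hyS).2 s).conj hH hg
      rw [hgh, LinearEquiv.map_smul, hgy] at h8
      have h9 := Sg.add L h8 ((hSmem.1 hyS).2 (-s)) hhh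
        (by rw [map_smul, map_sub, (hSmem.1 hyS).1, map_smul, hBxy]; simp)
        (by rw [map_smul, (hSmem.1 hyS).1]; simp)
      convert h9 using 1
      rw [smul_sub, smul_smul, show s * B y y' = -t by rw [hs, div_mul_cancel₀ _ hne']]
      module
    have h10 : x ∈ S := hSmem.2 ⟨hBxy, h7⟩
    have h11 := S.neg_mem h10
    rwa [hx, neg_smul, neg_neg] at h11
  -- one vector of the second line
  obtain ⟨v, hv, hq, hzq, hπv⟩ := exists_good L h4 h7 hr hu hu' h1 hπ hπ0 hπB (mul_ne_zero hz hz)
  have hk := hcross v hv hq (by rw [← mul_assoc]; exact hzq) π hπ hπmem (by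
    rw [hπB, zero_sub]; exact neg_ne_zero.2 hπv)
  -- the orthogonal of the two lines
  have hPmem : ∀ p ∈ P, p ∈ S := by
    intro p hp
    obtain ⟨hp1, hp2⟩ := mem_perpTwo.1 hp
    obtain ⟨k, hkdef⟩ : ∃ k, k = z * qK β v := ⟨_, rfl⟩
    have hk0 : k ≠ 0 := hkdef ▸ mul_ne_zero hz hq
    rw [← hkdef] at hk
    obtain ⟨a, ha, hax, -, -⟩ := siegel_elem L hR hu (v := k⁻¹ • p) (by rw [map_smul, hp1, smul_zero])
    have hah : a h = h := by rw [hax, hhdef]; simp [hu, hp1]
    have hau : a (k • u') = k • u' + p - (qK β (k⁻¹ • p) * k) • u := by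
      rw [hax]
      simp only [map_smul, LinearMap.smul_apply, smul_eq_mul, L.symm u' u, h1, hp2, mul_one, mul_zero, zero_smul,
        sub_zero, smul_smul, mul_inv_cancel₀ hk0, one_smul]
    have hmem : a (k • u') ∈ S := hSmem.2 ⟨by conv_lhs => rw [← hah, hH a ha]
                                              exact (hSmem.1 hk).1, fun t => by
      rw [← LinearEquiv.map_smul, ← hah]; exact ((hSmem.1 hk).2 t).conj hH ha⟩
    have h5 := S.add_mem (S.sub_mem hmem hk) (hWmem (qK β (k⁻¹ • p) * k))
    convert h5 using 1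
    rw [hau]
    abel
  have hu'mem : ∀ k : K, τ (z * k) = 0 → k • u' ∈ S := by
    intro k hk
    by_cases hk0 : k = 0
    · rw [hk0, zero_smul]; exact S.zero_mem
    obtain ⟨w, hw, hwq⟩ := L.exists_qK hu hu' h1 h4 (l := k / z) (div_ne_zero hk0 hz)
    have hzw : z * qK β w = k := by rw [hwq, mul_div_cancel₀ _ hz]
    have hq0 : qK β w ≠ 0 := by rw [hwq]; exact div_ne_zero hk0 hz
    obtain ⟨l, hl⟩ := exists_sq_ne L (c := qK β w) hq0
    rw [← hzw]
    refine hcross w hw hq0 (by rw [hzw]; exact hk) (l • w) (P.smul_mem _ hw) (hPmem _ (P.smul_mem _ hw)) ?_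
    intro h5
    refine hl ?_
    have e1 : B (l • w) (l • w) = 2 * τ (qK β w * (l * l)) := by
      rw [L.B_smul, map_smul, smul_eq_mul, L.beta_self, two_mul (τ _), ← map_add]
      congr 1
      ring
    have e2 : τ (β (l • w) w * β (l • w) w / qK β w) = 4 * τ (qK β w * (l * l)) := by
      rw [map_smul, LinearMap.smul_apply, smul_eq_mul, L.beta_self, show (4 : F) * τ (qK β w * (l * l)) =
        τ (qK β w * (l * l)) + τ (qK β w * (l * l)) + τ (qK β w * (l * l)) + τ (qK β w * (l * l)) by ring,
        ← map_add, ← map_add, ← map_add]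
      congr 1
      field_simp
      ring
    rw [e1, e2] at h5
    exact (mul_eq_zero.1 (show (2 : F) * τ (qK β w * (l * l)) = 0 by linear_combination -h5)).resolve_left L.two
  have hfull : ∀ y, B h y = 0 → Sg H B h y := by
    intro y hy
    have hmem : y ∈ S := by
      have h5 := S.add_mem (S.add_mem (hWmem (β u' y)) (hPmem _ (L.decomp hu hu' h1 y))) (hu'mem (β u y) (by
        rw [← hBh]; exact hy))
      convert h5 using 1
      abel
    simpa using (hSmem.1 hmem).2 1
  -- the second centre
  obtain ⟨v', hv', hq'⟩ := L.exists_qK hu hu' h1 h4 (l := 1) one_ne_zero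
  obtain ⟨s, hs⟩ := exists_sq_ne L (c := z * z) (mul_ne_zero hz hz)
  have hs0 : s ≠ 0 := fun h => hs (by simp [h])
  have hqs : qK β (s • v') = s * s := by rw [L.qK_smul, hq', mul_one]
  obtain ⟨n, hn', hnu, -⟩ := hn (s • v') (P.smul_mem _ hv') (by rw [hqs]; exact mul_ne_zero hs0 hs0)
  refine ⟨h, n h, hhh, by rw [hH n hn', hhh], ?_, hfull, fun y hy => ?_⟩
  · rw [hBh, hhdef, hnu, hqs, map_smul, h1, smul_eq_mul, mul_one, mul_neg, map_neg, neg_ne_zero]
    rwa [← mul_assoc]
  · have h5 := (hfull (n.symm y) (by rw [L.Bsymm, iso_symm hH hn', L.Bsymm]; exact hy)).conj hH hn'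
    rwa [n.apply_symm_apply] at h5

end Cfsg.Agent.ExtFieldMax.Orth
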