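import Cfsg.Agent.Lib.ExtFieldMax.OrthGain
import Cfsg.Agent.Lib.ExtFieldMax.OrthRootElem
import Cfsg.Agent.Lib.ExtFieldMax.OrthSpread
import Cfsg.Agent.Lib.TransvMax.QuadSingular

/-!
The normaliser of a self-adjoint extension field is maximal in the derived orthogonal group.
-/

set_option autoImplicit false

namespace Cfsg.Agent.ExtFieldMax.Orth

open Module Submodule
open scoped Matrix MatrixGroups commutatorElement
open Cfsg.Agent.TransvMax (pB glOf linOf siegelHom_apply)

variable {ι : Type} [Fintype ι] [DecidableEq ι] {F : Type*} [Field F] [Finite F]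

omit [DecidableEq ι] in
/-- Squares of isometries are commutators. -/
theorem sq_mem_commutator [DecidableEq ι] {Q : QuadraticForm F (ι → F)} (S : QMax.QSetting Q)
    {g : (ι → F) ≃ₗ[F] (ι → F)} (hg : g ∈ FormsLib.oGroup Q) :
    g * g ∈ ⁅FormsLib.oGroup Q, FormsLib.oGroup Q⁆ := by
  set O := FormsLib.oGroup Q
  set C := ⁅O, O⁆
  have hC : C ≤ O := Subgroup.commutator_le_self O
  have hnorm : ∀ a ∈ O, ∀ c ∈ C, a * c * a⁻¹ ∈ C := by
    intro a ha c hc
    have h1 : a * c * a⁻¹ = ⁅a, c⁆ * c := by rw [commutatorElement_def]; group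
    rw [h1]
    exact C.mul_mem (Subgroup.commutator_mem_commutator ha (hC hc)) hc
  let M : Subgroup ((ι → F) ≃ₗ[F] (ι → F)) :=
    { carrier := {a | a ∈ O ∧ a * a ∈ C}
      one_mem' := ⟨O.one_mem, by rw [one_mul]; exact C.one_mem⟩
      mul_mem' := fun {a b} ha hb => ⟨O.mul_mem ha.1 hb.1, by
        have h1 : a * b * (a * b) = (a * ⁅b, a⁆ * a⁻¹) * (a * a) * (b * b) := by
          rw [commutatorElement_def]; group
        rw [h1]
        exact C.mul_mem (C.mul_mem (hnorm a ha.1 _ (Subgroup.commutator_mem_commutator hb.1 ha.1)) ha.2) hb.2⟩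
      inv_mem' := fun {a} ha => ⟨O.inv_mem ha.1, by rw [← mul_inv_rev]; exact C.inv_mem ha.2⟩ }
  refine (QMax.oGroup_le_of_gens S (M := M) (fun u w hu hw => ?_) (fun v hv => ?_) hg).2
  · exact ⟨S.siegel_mem_oGroup hu hw,
      C.mul_mem (QMax.siegel_mem_commutator S hu hw) (QMax.siegel_mem_commutator S hu hw)⟩
  · refine ⟨FormsLib.refl_mem Q hv, ?_⟩
    have h1 : FormsLib.refl Q v hv * FormsLib.refl Q v hv = 1 := by
      nth_rewrite 2 [← FormsLib.refl_inv Q hv]
      exact mul_inv_cancel _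
    rw [h1]
    exact C.one_mem

section Semilinear

variable {L : Type*} [Field L] [Finite L] [Algebra F L] [Module L (ι → F)]

omit [Finite F] [Algebra F L] in
/-- Maps preserving lines normalise the field. -/
theorem normalise_of_lines [Algebra F L] (ρ : L →ₐ[F] Matrix ι ι F)
    (hsmul : ∀ (k : L) (x : ι → F), k • x = ρ k *ᵥ x) (h2 : 2 ≤ finrank L (ι → F))
    (K : Subalgebra F (Matrix ι ι F)) (hρ : ∀ x, x ∈ K ↔ ∃ l, ρ l = x) (g : GL ι F)
    (hg : ∀ (v : ι → F) (c : L), ∃ d : L,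
      (g : Matrix ι ι F) *ᵥ (c • v) = d • ((g : Matrix ι ι F) *ᵥ v)) :
    g ∈ Cfsg.Geo.subalgebraNormalizer K := by
  classical
  haveI : Module.Finite L (ι → F) := Module.finite_of_finrank_pos (by omega)
  obtain ⟨a, ha⟩ : ∃ a : ι → F, a ≠ 0 := by
    by_contra hall
    push Not at hall
    haveI : Subsingleton (ι → F) := ⟨fun x y => by rw [hall x, hall y]⟩
    rw [Module.finrank_zero_of_subsingleton] at h2
    omega
  have hto : ∀ k ∈ K, (g : Matrix ι ι F) * k * ((g⁻¹ : GL ι F) : Matrix ι ι F) ∈ K := by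
    intro k hk
    set T := (g : Matrix ι ι F) * k * ((g⁻¹ : GL ι F) : Matrix ι ι F) with hT
    have hline : ∀ y, ∃ d : L, T *ᵥ y = d • y := by
      intro y
      obtain ⟨k', hk'⟩ := (hρ k).1 hk
      obtain ⟨d, hd⟩ := hg (((g⁻¹ : GL ι F) : Matrix ι ι F) *ᵥ y) k'
      refine ⟨d, ?_⟩
      rw [hT, ← Matrix.mulVec_mulVec, ← Matrix.mulVec_mulVec]
      rw [hsmul k', hk'] at hd
      rw [hd, TransvMax.mulVec_inv_mulVec]
    have key : ∀ a b, a ≠ 0 → b ∉ span L {a} → ∀ d e : L, T *ᵥ a = d • a → T *ᵥ b = e • b → d = e := by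
      intro a b ha hb d e hd he
      obtain ⟨w, hw⟩ := hline (a + b)
      rw [Matrix.mulVec_add, hd, he, smul_add] at hw
      have h1 : (e - w) • b = (w - d) • a := by
        rw [sub_smul, sub_smul, sub_eq_sub_iff_add_eq_add, add_comm, hw, add_comm]
      have h2 : e - w = 0 := by
        by_contra hne
        exact hb (mem_span_singleton.2 ⟨(e - w)⁻¹ * (w - d), by
          rw [mul_smul, ← h1, smul_smul, inv_mul_cancel₀ hne, one_smul]⟩)
      rw [h2, zero_smul] at h1
      have h3 : w - d = 0 := (smul_eq_zero.1 h1.symm).resolve_right ha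
      rw [← sub_eq_zero.1 h3, sub_eq_zero.1 h2]
    obtain ⟨b, hb⟩ : ∃ b, b ∉ span L {a} := by
      by_contra hall
      push Not at hall
      have := finrank_span_singleton (K := L) ha
      rw [show span L {a} = ⊤ from eq_top_iff.2 fun x _ => hall x, finrank_top] at this
      omega
    obtain ⟨d, hd⟩ := hline a
    obtain ⟨e, he⟩ := hline b
    have hde := key a b ha hb d e hd he
    have hb0 : b ≠ 0 := fun e => hb (by rw [e]; exact zero_mem _)
    have hall : ∀ y, T *ᵥ y = d • y := by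
      intro y
      obtain ⟨f, hf⟩ := hline y
      by_cases hy : y ∈ span L {a}
      · by_cases hy0 : y = 0
        · rw [hy0, Matrix.mulVec_zero, smul_zero]
        have hby : b ∉ span L {y} := fun h => hb ((span_le.2 (by simpa using hy)) h)
        rw [hf, key y b hy0 hby f e hf he, hde]
      · rw [hf, ← key a y ha hy d f hd hf]
    have : T = ρ d := Matrix.ext_iff_mulVec.2 fun y => by rw [hall, hsmul]
    rw [this]
    exact (hρ _).2 ⟨d, rfl⟩
  intro k
  refine ⟨hto k, fun h => ?_⟩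
  haveI : Finite K := Finite.of_surjective (fun l : L => (⟨ρ l, (hρ _).2 ⟨l, rfl⟩⟩ : K)) fun x => by
    obtain ⟨l, hl⟩ := (hρ _).1 x.2
    exact ⟨l, Subtype.ext hl⟩
  let φ : K → K := fun x => ⟨_, hto x x.2⟩
  have hφ : Function.Injective φ := by
    intro x y hxy
    have := congrArg Subtype.val hxy
    simp only [φ, Units.mul_left_inj, Units.mul_right_inj] at this
    exact Subtype.ext this
  obtain ⟨k', hk'⟩ := (Finite.injective_iff_surjective.1 hφ) ⟨_, h⟩
  have := congrArg Subtype.val hk'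
  simp only [φ, Units.mul_left_inj, Units.mul_right_inj] at this
  rw [← this]; exact k'.2

end Semilinear

theorem orthExt_of {L : Type*} [Field L] [Finite L] [Algebra F L] {r : ℕ} (hr : r.Prime)
    (hL : finrank F L = r) {Q : QuadraticForm F (ι → F)} (S : QMax.QSetting Q) (h2 : (2 : F) ≠ 0)
    (hn : 13 ≤ Fintype.card ι) (h4 : ∀ k, r * k = Fintype.card ι → 4 ≤ k) (h14 : r = 2 → 14 ≤ Fintype.card ι)
    (ρ : L →ₐ[F] Matrix ι ι F) (K : Subalgebra F (Matrix ι ι F))
    (hρ : ∀ x, x ∈ K ↔ ∃ l, ρ l = x)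
    (hsa : ∀ k ∈ K, ∀ u v, pB Q (k *ᵥ u) v = pB Q u (k *ᵥ v)) :
    Cfsg.Geo.IsMaximalIn (Cfsg.Geo.omegaGL ⇑Q) (Cfsg.Geo.subalgebraNormalizer K ⊓ Cfsg.Geo.omegaGL ⇑Q) := by
  classical
  letI : Module L (ι → F) :=
    Module.compHom (ι → F) ((Matrix.toLinAlgEquiv' (R := F) (n := ι)).toAlgHom.toRingHom.comp ρ.toRingHom)
  have hsmul : ∀ (k : L) (x : ι → F), k • x = ρ k *ᵥ x := fun k x => rfl
  haveI : IsScalarTower F L (ι → F) := ⟨fun c k x => by
    rw [hsmul, hsmul, map_smul, Matrix.smul_mulVec]⟩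
  haveI : Module.Finite L (ι → F) := Module.Finite.of_finite
  haveI : FiniteDimensional F L := Module.Finite.of_finite
  have hmul : r * finrank L (ι → F) = Fintype.card ι := by
    rw [← hL, Module.finrank_mul_finrank, Module.finrank_fintype_fun_eq_card]
  have hm4 : 4 ≤ finrank L (ι → F) := h4 _ hmul
  have hm7 : finrank F L = 2 → 7 ≤ finrank L (ι → F) := by
    intro h
    rw [hL] at h
    have := h14 h
    rw [h] at hmul
    omega
  set B := pB Q with hB
  obtain ⟨τ, β, Lf⟩ := exists_extOrth (K := L) B S.pB_comm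
    (fun u hu => S.eq_of_forall fun x => by rw [S.pB_comm, hu x, map_zero])
    (fun k x y => by rw [hsmul, hsmul]; exact hsa _ ((hρ _).2 ⟨k, rfl⟩) x y) h2
  have hQB : ∀ y, Q y = B y y / 2 := fun y => by rw [hB, S.pB_self, mul_div_cancel_left₀ _ h2]
  have hfr : 2 ≤ finrank F L := by rw [hL]; exact hr.two_le
  obtain ⟨u₀, -, hu₀0, hu₀⟩ := Lf.exists_isotropic (⊤ : Submodule L (ι → F)) (by rw [finrank_top]; omega)
  obtain ⟨u₀', h01, hu₀'⟩ := Lf.exists_hyp hu₀ hu₀0
  obtain ⟨v₀, hv₀, hv₀v⟩ := Lf.exists_aniso hu₀ hu₀' h01 (by omega)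
  refine QMax.maximal_in_omegaGL S _ inf_le_right ?_ fun M hHM hM ⟨g, hgM, hg⟩ => ?_
  · -- some root element is not semilinear
    obtain ⟨hv1, hv2⟩ := mem_perpTwo.1 hv₀
    have hu : Q u₀ = 0 := by rw [hQB, ← Lf.spec, hu₀, map_zero, zero_div]
    have hw : pB Q v₀ u₀ = 0 := by rw [← hB, Lf.Bsymm, ← Lf.spec, hv1, map_zero]
    refine ⟨_, QMax.glOf_siegel_mem_omega S hu hw, fun hmem => ?_⟩
    set G := glOf (S.siegel u₀ v₀ hu hw)
    have hGx : ∀ x, (G : Matrix ι ι F) *ᵥ x = S.siegel u₀ v₀ hu hw x := TransvMax.glOf_mulVec _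
    have hlines : ∀ k : L, ∃ d : L, S.siegel u₀ v₀ hu hw (k • u₀') = d • S.siegel u₀ v₀ hu hw u₀' := by
      intro k
      obtain ⟨d, hd⟩ := (hρ _).1 ((hmem.1 (ρ k)).1 ((hρ _).2 ⟨k, rfl⟩))
      refine ⟨d, ?_⟩
      rw [← hGx, ← hGx, hsmul k, hsmul d, hd, ← Matrix.mulVec_mulVec, ← Matrix.mulVec_mulVec,
        TransvMax.inv_mulVec_mulVec]
    have key : ∀ k : L, algebraMap F L (τ k) = k * algebraMap F L (τ 1) := by
      intro k
      obtain ⟨d, hd⟩ := hlines k
      rw [S.siegel_apply, S.siegel_apply, siegelHom_apply, siegelHom_apply] at hd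
      have b1 : ∀ c : L, B (c • u₀') u₀ = τ c := fun c => by
        rw [Lf.B_smul, Lf.symm u₀' u₀, h01, mul_one]
      have b2 : ∀ c : L, B (c • u₀') v₀ = 0 := fun c => by rw [Lf.B_smul, hv2, mul_zero, map_zero]
      rw [← hB, b1, b2] at hd
      have b1' := b1 1
      have b2' := b2 1
      rw [one_smul] at b1' b2'
      rw [b1', b2'] at hd
      simp only [← algebraMap_smul L (_ : F) (_ : ι → F), zero_smul, map_zero, sub_zero, smul_add, smul_sub] at hd
      have hd1 : k = d := by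
        have := congrArg (β u₀) hd
        simpa [h01, hv1, hu₀] using this
      have h3 := congrArg (β v₀) hd
      simp only [map_add, map_sub, map_smul, smul_eq_mul, Lf.symm v₀ u₀', hv2, Lf.symm v₀ u₀, hv1,
        mul_zero, zero_add, sub_zero, ← hd1] at h3
      exact mul_right_cancel₀ hv₀v (by linear_combination h3)
    obtain ⟨k, hk, hk0⟩ : ∃ k, τ k = 0 ∧ k ≠ 0 := by
      obtain ⟨k, hk, hk0⟩ := (Submodule.ne_bot_iff _).1 (fun h : LinearMap.ker τ = ⊥ => by
        have h1 := τ.finrank_range_add_finrank_ker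
        have h3 := Submodule.finrank_le (LinearMap.range τ)
        rw [Module.finrank_self] at h3
        rw [h, finrank_bot] at h1
        omega)
      exact ⟨k, hk, hk0⟩
    have h1 := key k
    rw [hk, map_zero, eq_comm, mul_eq_zero] at h1
    have h0 := h1.resolve_left hk0
    refine Lf.τne (LinearMap.ext fun c => (algebraMap F L).injective ?_)
    rw [key c, h0, mul_zero, LinearMap.zero_apply, map_zero]
  -- the overgroup
  set H := M.comap (glOf (ι := ι) (F := F)) with hHdef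
  have hHO : ∀ e ∈ H, e ∈ FormsLib.oGroup Q := fun e he => by
    have := QMax.omegaGL_iso S (hM he)
    rwa [show linOf (glOf e) = e from LinearEquiv.ext fun x => by simp [TransvMax.glOf_mulVec]] at this
  have hH : Iso H B := fun e he x y => S.pB_of_mem (hHO e he) x y
  have hR : HasSiegel H β := by
    intro u v hu hv
    let E : (ι → F) → (ι → F) →ₗ[F] (ι → F) := fun v => (LinearMap.id + (β.flip u).smulRight v -
      (β.flip v).smulRight u - (qK β v • β.flip u).smulRight u : (ι → F) →ₗ[L] (ι → F)).restrictScalars F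
    have hEx : ∀ v x, E v x = x + β x u • v - β x v • u - (qK β v * β x u) • u := fun v x => rfl
    have hEE : ∀ v w, β u v = 0 → β u w = 0 → ∀ x, E v (E w x) = E (v + w) x := by
      intro v w hv hw x
      rw [hEx, hEx, hEx, Lf.qK_add]
      simp only [map_add, map_sub, map_smul, LinearMap.add_apply, LinearMap.sub_apply, LinearMap.smul_apply,
        smul_eq_mul, hu, hv, hw, Lf.symm v u, Lf.symm w u, Lf.symm w v]
      match_scalars <;> ring
    have hE0 : ∀ x, E 0 x = x := fun x => by rw [hEx]; simp [qK]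
    have mk : ∀ v, β u v = 0 → ∃ e : (ι → F) ≃ₗ[F] (ι → F), e ∈ FormsLib.oGroup Q ∧ ∀ x, e x = E v x := by
      intro v hv
      have hv' : β u (-v) = 0 := by rw [map_neg, hv, neg_zero]
      refine ⟨LinearEquiv.ofLinearMap (E v) (E (-v))
        (LinearMap.ext fun x => by rw [LinearMap.comp_apply, hEE v _ hv hv', add_neg_cancel, hE0]; rfl)
        (LinearMap.ext fun x => by rw [LinearMap.comp_apply, hEE _ v hv' hv, neg_add_cancel, hE0]; rfl),
        fun x => ?_, fun x => rfl⟩
      show Q (E v x) = Q x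
      rw [hQB, hQB, ← Lf.spec, ← Lf.spec, hEx]
      congr 2
      simp only [map_add, map_sub, map_smul, LinearMap.add_apply, LinearMap.sub_apply, LinearMap.smul_apply,
        smul_eq_mul, hu, hv, Lf.symm v u, Lf.symm u x, Lf.symm v x, Lf.beta_self v]
      ring
    have h2L := Lf.two_K
    obtain ⟨e, heO, hex⟩ := mk ((2 : L)⁻¹ • v) (by rw [map_smul, hv, smul_zero])
    have hexx : ∀ x, (e * e) x = x + β x u • v - β x v • u - (qK β v * β x u) • u := by
      intro x
      show e (e x) = _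
      rw [hex, hex, hEE _ _ (by rw [map_smul, hv, smul_zero]) (by rw [map_smul, hv, smul_zero]), ← add_smul,
        show (2 : L)⁻¹ + 2⁻¹ = 1 by field_simp; norm_num, one_smul, hEx]
    refine ⟨e * e, hHM ⟨fun k => ?_, ?_⟩, hexx⟩
    · have hcomm : ∀ k ∈ K, (glOf (e * e) : Matrix ι ι F) * k = k * (glOf (e * e) : Matrix ι ι F) := by
        intro k hk
        obtain ⟨l, rfl⟩ := (hρ k).1 hk
        refine Matrix.ext_iff_mulVec.2 fun x => ?_
        rw [← Matrix.mulVec_mulVec, ← Matrix.mulVec_mulVec, TransvMax.glOf_mulVec, TransvMax.glOf_mulVec,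
          ← hsmul, ← hsmul, hexx, hexx]
        simp only [map_smul, LinearMap.smul_apply, smul_eq_mul]
        match_scalars <;> ring
      constructor
      · intro hk
        rw [hcomm k hk, mul_assoc, ← Units.val_mul, mul_inv_cancel, Units.val_one, mul_one]
        exact hk
      · intro hk
        have h1 := hcomm _ hk
        simp only [mul_assoc, ← Units.val_mul, inv_mul_cancel, Units.val_one, mul_one] at h1
        rw [mul_assoc, (Units.mul_right_inj _).1 h1] at hk
        exact hk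
    · rw [QMax.omegaGL_eq S]
      exact ⟨_, sq_mem_commutator S heO, rfl⟩
  have hne : ∃ e ∈ H, ∃ (v : ι → F) (c : L), ∀ d : L, e (c • v) ≠ d • e v := by
    refine ⟨linOf g, by rw [hHdef, Subgroup.mem_comap, TransvMax.glOf_linOf]; exact hgM, ?_⟩
    by_contra hall
    push Not at hall
    refine hg ⟨normalise_of_lines ρ hsmul (by omega) K hρ g fun v c => ?_, hM hgM⟩
    obtain ⟨d, hd⟩ := hall v c
    refine ⟨d, ?_⟩
    rw [← TransvMax.glOf_linOf g, TransvMax.glOf_mulVec, TransvMax.glOf_mulVec]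
    exact hd
  have hr' : (finrank F L).Prime := by rw [hL]; exact hr
  obtain ⟨e, he, u₁, u, hu₁, h₁, hu, hu0, hd, horth⟩ := exists_orth_config Lf hr' hm4 hH hR hne
  obtain ⟨u', z, π, h1, hu', hz, hπ0, hπP, hπB, hW, hπS⟩ :=
    exists_root Lf hm4 (by rw [Module.finrank_fintype_fun_eq_card]; exact hn) hfr hH hR he hu₁ h₁ hu hu0 hd horth
  obtain ⟨a, b, ha, hb, hab, hA, hBb⟩ := full_pair Lf hm4 hm7 hfr hH hR hu hu' h1 hz hπ0 hπP hπB hW hπS
  have hmem : ∀ a w (ha : Q a = 0) (hw : pB Q w a = 0), Sg H B a w → glOf (S.siegel a w ha hw) ∈ M := by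
    intro a w ha hw ⟨e, he, hex⟩
    have : S.siegel a w ha hw = e := LinearEquiv.ext fun x => by
      rw [S.siegel_apply, siegelHom_apply, hex, ← hB, hQB w]
    rw [this]
    exact he
  have hQa : Q a = 0 := by rw [hQB, ha, zero_div]
  have hQb : Q b = 0 := by rw [hQB, hb, zero_div]
  exact QMax.siegel_mem_of_pair S hQa hQb hab
    (fun w hw => hmem a w hQa hw (hA w (by rw [hB, S.pB_comm]; exact hw)))
    (fun w hw => hmem b w hQb hw (hBb w (by rw [hB, S.pB_comm]; exact hw)))

theorem orthExt {r : ℕ} (hr : r.Prime) {Q : QuadraticForm F (ι → F)} (S : QMax.QSetting Q) (h2 : (2 : F) ≠ 0)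
    (hn : 13 ≤ Fintype.card ι) (h4 : ∀ k, r * k = Fintype.card ι → 4 ≤ k) (h14 : r = 2 → 14 ≤ Fintype.card ι)
    (K : Subalgebra F (Matrix ι ι F)) (hK : Cfsg.Geo.IsFieldSubalgebra r K)
    (hsa : ∀ k ∈ K, ∀ u v, pB Q (k *ᵥ u) v = pB Q u (k *ᵥ v)) :
    Cfsg.Geo.IsMaximalIn (Cfsg.Geo.omegaGL ⇑Q) (Cfsg.Geo.subalgebraNormalizer K ⊓ Cfsg.Geo.omegaGL ⇑Q) := by
  classical
  haveI : Nonempty ι := Fintype.card_pos_iff.1 (by omega)
  letI : CommRing K := { (inferInstance : Ring K) with mul_comm := fun a b => Subtype.ext (hK.comm _ a.2 _ b.2) }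
  haveI : Nontrivial K := ⟨⟨0, 1, fun h => by
    have := congrArg (fun x : K => (x : Matrix ι ι F)) h
    simp at this⟩⟩
  haveI : NoZeroDivisors K := ⟨fun {a b} hab => by
    by_cases ha : a = 0
    · exact Or.inl ha
    · obtain ⟨y, hy, hay⟩ := hK.inv _ a.2 (fun h => ha (Subtype.ext h))
      right
      have : (⟨y, hy⟩ : K) * a = 1 := by rw [mul_comm]; exact Subtype.ext hay
      calc b = (⟨y, hy⟩ : K) * a * b := by rw [this, one_mul]
        _ = 0 := by rw [mul_assoc, hab, mul_zero]⟩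
  haveI : IsDomain K := NoZeroDivisors.to_isDomain K
  letI : Fintype K := Fintype.ofFinite K
  letI : Field K := Fintype.fieldOfDomain K
  exact orthExt_of (L := K) hr hK.finrank_eq S h2 hn h4 h14 K.val K
    (fun x => ⟨fun h => ⟨⟨x, h⟩, rfl⟩, by rintro ⟨l, rfl⟩; exact l.2⟩) hsa

end Cfsg.Agent.ExtFieldMax.Orth
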