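import Cfsg.Agent.Lib.ExtFieldMax.OrthBasic

/-!
An isometry that is not semilinear sends some singular line of an orthogonal space over an extension
field to a subspace meeting a singular line properly.
-/

set_option autoImplicit false

namespace Cfsg.Agent.ExtFieldMax.Orth

open Module Submodule

variable {F K V : Type*} [Field F] [Field K] [Algebra F K] [AddCommGroup V] [Module F V] [Module K V]
  [IsScalarTower F K V] [FiniteDimensional K V]
  {B : LinearMap.BilinForm F V} {τ : K →ₗ[F] F} {β : V →ₗ[K] V →ₗ[K] K}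
  {H : Subgroup (V ≃ₗ[F] V)}

variable (L : ExtOrth B τ β)

include L

theorem exists_nonline [Finite K] [FiniteDimensional F K] (h4 : 4 ≤ finrank K V) (hH : Iso H B)
    {e : V ≃ₗ[F] V} (he : e ∈ H) {v₀ : V} {c₀ : K} (hne : ∀ d : K, e (c₀ • v₀) ≠ d • e v₀) :
    ∃ u, u ≠ 0 ∧ β u u = 0 ∧ ∃ c : K, ∀ d : K, e (c • u) ≠ d • e u := by
  by_contra hno
  push Not at hno
  obtain ⟨u, -, hu0, hu⟩ := L.exists_isotropic (⊤ : Submodule K V) (by rw [finrank_top]; omega)
  obtain ⟨u', h1, hu'⟩ := L.exists_hyp hu hu0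
  have hu'0 : u' ≠ 0 := fun h => by rw [h, map_zero] at h1; exact zero_ne_one h1
  choose σ hσ using hno u hu0 hu
  choose σ' hσ' using hno u' hu'0 hu'
  -- the images of the two lines are lines
  have hsurj : ∀ w, w ≠ 0 → ∀ s : K → K, (∀ c, e (c • w) = s c • e w) → Function.Surjective s := by
    intro w hw s hs
    haveI : Finite K := inferInstance
    refine Finite.injective_iff_surjective.1 fun a b hab => ?_
    exact smul_left_injective K hw (e.injective (by rw [hs, hs, hab]))
  have hperp : ∀ w, w ≠ 0 → ∀ s : K → K, (∀ c, e (c • w) = s c • e w) → ∀ z, β w z = 0 →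
      β (e w) (e z) = 0 := by
    intro w hw s hs z hz
    refine L.beta_zero fun k => ?_
    obtain ⟨c, rfl⟩ := hsurj w hw s hs k
    rw [← hs, hH e he, L.B_smul, hz, mul_zero, map_zero]
  have heu : β (e u) (e u) = 0 := hperp u hu0 σ hσ u hu
  have heu' : β (e u') (e u') = 0 := hperp u' hu'0 σ' hσ' u' hu'
  have hne1 : β (e u) (e u') ≠ 0 := by
    intro h
    have h0 : ∀ k : K, B (k • u) u' = 0 := fun k => by
      rw [← hH e he, hσ, L.B_smul, h, mul_zero, map_zero]
    rw [L.beta_zero h0] at h1
    exact zero_ne_one h1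
  have hP : ∀ z ∈ perpTwo β u u', β (e u) (e z) = 0 ∧ β (e u') (e z) = 0 := fun z hz =>
    ⟨hperp u hu0 σ hσ z (mem_perpTwo.1 hz).1, hperp u' hu'0 σ' hσ' z (mem_perpTwo.1 hz).2⟩
  -- the multiplier on the orthogonal of the two lines
  have hv : ∀ v ∈ perpTwo β u u', ∀ c : K, e (c • v) = σ c • e v ∧
      σ' (c * qK β v) = σ c * σ' (qK β v) := by
    intro v hv c
    obtain ⟨hv1, hv2⟩ := mem_perpTwo.1 hv
    have hw : ∀ w : V, w ∈ perpTwo β u u' → qK β w = qK β v → β (u + w - qK β v • u') (u + w - qK β v • u') = 0 ∧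
        u + w - qK β v • u' ≠ 0 := by
      intro w hw hq
      obtain ⟨hw1, hw2⟩ := mem_perpTwo.1 hw
      refine ⟨?_, fun h => ?_⟩
      · simp only [map_add, map_sub, map_smul, LinearMap.add_apply, LinearMap.sub_apply, LinearMap.smul_apply,
          smul_eq_mul, hu, hu', h1, L.symm u' u, hw1, hw2, L.symm w u, L.symm w u', L.beta_self w, hq]
        ring
      · have := congrArg (β u') h
        simp [map_add, map_sub, L.symm u' u, h1, hw2, hu'] at this
    obtain ⟨hp, hp0⟩ := hw v hv rfl
    obtain ⟨hm, hm0⟩ := hw (-v) (neg_mem hv) (by simp [qK])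
    obtain ⟨A, hA⟩ := hno _ hp0 hp c
    obtain ⟨A', hA'⟩ := hno _ hm0 hm c
    rw [smul_sub, smul_add, map_sub, map_add, map_sub, map_add, hσ, smul_smul, hσ', hσ' (qK β v)] at hA
    rw [smul_sub, smul_add, smul_neg, map_sub, map_add, map_neg, map_sub, map_add, map_neg, hσ, smul_smul,
      hσ', hσ' (qK β v)] at hA'
    obtain ⟨hc1, hc2⟩ := hP _ ((perpTwo β u u').smul_mem c hv)
    obtain ⟨hd1, hd2⟩ := hP v hv
    have e1 := congrArg (β (e u')) hA
    have e2 := congrArg (β (e u')) hA'
    have e3 := congrArg (β (e u)) hA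
    have e4 := congrArg (β (e u)) hA'
    simp only [map_add, map_sub, map_neg, map_smul, smul_eq_mul, heu, heu', hc1, hc2, hd1, hd2,
      L.symm (e u') (e u), mul_zero, add_zero, sub_zero, neg_zero, zero_add, zero_sub] at e1 e2 e3 e4
    have a1 : σ c = A := mul_right_cancel₀ hne1 e1
    have a2 : σ c = A' := mul_right_cancel₀ hne1 e2
    have a3 : σ' (c * qK β v) * β (e u) (e u') = A * (σ' (qK β v) * β (e u) (e u')) := by
      linear_combination -e3
    refine ⟨?_, mul_right_cancel₀ hne1 (by rw [a3, ← a1, mul_assoc])⟩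
    have h2 : (2 : K) • e (c • v) = (2 : K) • (σ c • e v) := by
      rw [← a1] at hA
      rw [← a2] at hA'
      linear_combination (norm := module) hA - hA'
    exact smul_right_injective V L.two_K h2
  obtain ⟨v, hvP, hvv⟩ := L.exists_aniso hu hu' h1 (by omega)
  have hev : e v ≠ 0 := fun h => hvv (by rw [e.map_eq_zero_iff.1 h, map_zero])
  have hmul : ∀ a b, σ (a * b) = σ a * σ b := by
    intro a b
    refine smul_left_injective K hev ?_
    show σ (a * b) • e v = (σ a * σ b) • e v
    rw [← (hv v hvP _).1, mul_smul, (hv _ ((perpTwo β u u').smul_mem b hvP) a).1, (hv v hvP b).1, smul_smul]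
  have hq : qK β v ≠ 0 := fun h => hvv (L.qK_zero_iff.1 h)
  have hu'c : ∀ a k, σ' (a * k) = σ a * σ' k := by
    intro a k
    have h2 := (hv v hvP (k / qK β v)).2
    rw [div_mul_cancel₀ _ hq] at h2
    have h3 := (hv v hvP (a * (k / qK β v))).2
    rw [mul_assoc, div_mul_cancel₀ _ hq] at h3
    rw [h3, hmul, h2, mul_assoc]
  have hall : ∀ (c : K) x, e (c • x) = σ c • e x := by
    intro c x
    have hd := L.decomp hu hu' h1 x
    have hx : x = β u' x • u + (x - β u' x • u - β u x • u') + β u x • u' := by abel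
    rw [hx, smul_add, smul_add, map_add, map_add, map_add, map_add, smul_smul, smul_smul, hσ, hσ',
      hσ (β u' x), hσ' (β u x), (hv _ hd c).1, hmul, hu'c, smul_add, smul_add, smul_smul, smul_smul]
  exact hne _ (hall c₀ v₀)

theorem exists_start [Finite K] [FiniteDimensional F K] (h4 : 4 ≤ finrank K V) (hR : HasSiegel H β)
    {e : V ≃ₗ[F] V} (he : e ∈ H) {u : V} (hu0 : u ≠ 0) {c₀ : K}
    (hne : ∀ d : K, e (c₀ • u) ≠ d • e u) :
    ∃ e' ∈ H, 1 ≤ finrank F (coef K e' u u) ∧ finrank F (coef K e' u u) < finrank F K := by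
  set x := e u with hxdef
  have hx0 : x ≠ 0 := fun h => hu0 (e.map_eq_zero_iff.1 h)
  suffices hmove : ∃ a ∈ H, a x = x ∧ ∃ d : K, ∀ k : K, a (e (d • u)) ≠ e (k • u) by
    obtain ⟨a, ha, hax, d, hd⟩ := hmove
    refine ⟨(e⁻¹ * a * e)⁻¹, H.inv_mem (H.mul_mem (H.mul_mem (H.inv_mem he) ha) he), ?_, ?_⟩
    · refine Submodule.one_le_finrank_iff.2 fun h => ?_
      have h1 : (1 : K) ∈ coef K (e⁻¹ * a * e).symm u u := mem_coef_symm.2 ⟨1, by
        show e.symm (a (e ((1 : K) • u))) = (1 : K) • u
        rw [one_smul, ← hxdef, hax, hxdef, e.symm_apply_apply]⟩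
      change (1 : K) ∈ coef K (e⁻¹ * a * e).symm u u at h1
      rw [show ((e⁻¹ * a * e)⁻¹ : V ≃ₗ[F] V) = (e⁻¹ * a * e).symm from rfl] at h
      rw [h, Submodule.mem_bot] at h1
      exact one_ne_zero h1
    · refine lt_of_le_of_ne (Submodule.finrank_le _) fun heq => ?_
      have htop := Submodule.eq_top_of_finrank_eq heq
      have h1 : d ∈ coef K (e⁻¹ * a * e).symm u u := by
        rw [show ((e⁻¹ * a * e)⁻¹ : V ≃ₗ[F] V) = (e⁻¹ * a * e).symm from rfl] at htop
        rw [htop]; exact Submodule.mem_top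
      obtain ⟨k, hk⟩ := mem_coef_symm.1 h1
      refine hd k ?_
      have h2 : e.symm (a (e (d • u))) = k • u := hk
      rw [← h2, e.apply_symm_apply]
  by_contra hall
  push Not at hall
  -- the image is no line
  have hline : ∀ D : V, (∀ k : K, ∃ d : K, k • D = e (d • u)) → D = 0 := by
    intro D hD
    by_contra hD0
    choose s hs using hD
    have hsurj : Function.Surjective s := Finite.injective_iff_surjective.1 fun a b hab =>
      smul_left_injective K hD0 (show a • D = b • D by rw [hs a, hs b, hab])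
    obtain ⟨k₁, hk₁⟩ := hsurj 1
    obtain ⟨k₂, hk₂⟩ := hsurj c₀
    have hk₁0 : k₁ ≠ 0 := fun h => hu0 (by
      have := hs k₁
      rw [hk₁, h, zero_smul, one_smul] at this
      exact e.map_eq_zero_iff.1 this.symm)
    refine hne (k₂ / k₁) ?_
    have e1 := hs k₁
    rw [hk₁, one_smul, ← hxdef] at e1
    rw [← hk₂, ← hs k₂, ← e1, smul_smul, div_mul_cancel₀ _ hk₁0]
  -- the elements fixing `x`
  have key : ∀ z v : V, β z z = 0 → β z v = 0 → β x z = 0 → β x v = 0 → ∀ d : K,
      β (e (d • u)) z • v = β (e (d • u)) v • z := by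
    intro z v hz hzv hxz hxv d
    set y := e (d • u)
    have hmem : ∀ k : K, ∃ d' : K, y + (k * β y z) • v - (k * β y v) • z - (k * k * qK β v * β y z) • z = e (d' • u) := by
      intro k
      obtain ⟨a, ha, hax, -, -⟩ := siegel_elem L hR hz (v := k • v) (by rw [map_smul, hzv, smul_zero])
      obtain ⟨d', hd'⟩ := hall a ha (by rw [hax, map_smul, hxz, hxv]; simp) d
      refine ⟨d', ?_⟩
      rw [← hd', hax, L.qK_smul, LinearMap.map_smul (β y), smul_eq_mul, smul_smul, mul_comm (β y z) k, mul_assoc]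
    refine sub_eq_zero.1 (hline _ fun k => ?_)
    obtain ⟨a, ha⟩ := hmem k
    obtain ⟨b, hb⟩ := hmem (-k)
    refine ⟨(algebraMap F K 2)⁻¹ * (a - b), ?_⟩
    have h2 : algebraMap F K 2 ≠ 0 := by rw [map_ofNat]; exact L.two_K
    rw [mul_smul, ← map_inv₀, algebraMap_smul, LinearEquiv.map_smul, sub_smul, map_sub, ← ha, ← hb,
      ← algebraMap_smul K (2 : F)⁻¹, map_inv₀, map_ofNat]
    have := L.two_K
    match_scalars <;> field_simp <;> ring
  have hkx : ∀ d : K, ∃ k : K, e (d • u) = k • x := by
    intro d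
    set y := e (d • u)
    by_cases hxx : β x x = 0
    · obtain ⟨x', h1, hx'⟩ := L.exists_hyp hxx hx0
      obtain ⟨v, hv, hvv⟩ := L.exists_aniso hxx hx' h1 (by omega)
      obtain ⟨hv1, hv2⟩ := mem_perpTwo.1 hv
      have e1 := key x v hxx hv1 hxx hv1 d
      have e2 := congrArg (β v) e1
      rw [LinearMap.map_smul, LinearMap.map_smul, L.symm v x, hv1, smul_zero, smul_eq_mul] at e2
      have hyx : β y x = 0 := (mul_eq_zero.1 e2).resolve_right hvv
      refine ⟨β x' y, sub_eq_zero.1 (L.nondeg _ fun t => ?_)⟩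
      have ht : β x (t - β x t • x') = 0 := by simp [h1]
      have e3 := key x _ hxx ht hxx ht d
      rw [show β (e (d • u)) x = 0 from hyx, zero_smul, eq_comm, smul_eq_zero] at e3
      have e4 : β y (t - β x t • x') = 0 := e3.resolve_right hx0
      simp only [map_sub, map_smul, LinearMap.sub_apply, LinearMap.smul_apply, smul_eq_mul] at e4 ⊢
      linear_combination e4 + β x t * L.symm y x'
    · have h3 : 3 ≤ finrank K (LinearMap.ker (β x)) := by
        have h1 := (β x).finrank_range_add_finrank_ker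
        have h2 := Submodule.finrank_le (LinearMap.range (β x))
        rw [Module.finrank_self] at h2
        omega
      obtain ⟨z, hz, hz0, hzz⟩ := L.exists_isotropic _ h3
      rw [LinearMap.mem_ker] at hz
      obtain ⟨t₀, ht₀, -⟩ := L.exists_hyp hzz hz0
      set x₁ := t₀ - (β x t₀ / β x x) • x with hx₁
      have hxx₁ : β x x₁ = 0 := by
        rw [hx₁, map_sub, map_smul, smul_eq_mul, div_mul_cancel₀ _ hxx, sub_self]
      have hzx₁ : β z x₁ = 1 := by
        rw [hx₁, map_sub, map_smul, L.symm z x, hz, smul_zero, sub_zero, ht₀]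
      set z' := x₁ - qK β x₁ • z with hz'def
      have hxz' : β x z' = 0 := by rw [hz'def, map_sub, map_smul, hxx₁, hz, smul_zero, sub_zero]
      have hzz' : β z z' = 1 := by rw [hz'def, map_sub, map_smul, hzx₁, hzz, smul_zero, sub_zero]
      have hz'z' : β z' z' = 0 := by
        rw [hz'def]
        simp only [map_sub, map_smul, LinearMap.sub_apply, LinearMap.smul_apply, smul_eq_mul, hzz, hzx₁,
          L.symm x₁ z, L.beta_self x₁]
        ring
      -- an anisotropic vector orthogonal to all three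
      obtain ⟨v, hxv, hzv, hz'v, hvv⟩ : ∃ v, β x v = 0 ∧ β z v = 0 ∧ β z' v = 0 ∧ β v v ≠ 0 := by
        by_contra hnone
        push Not at hnone
        obtain ⟨w, hwker, hw0⟩ : ∃ w ∈ perpTwo β z z' ⊓ LinearMap.ker (β x), w ≠ 0 := by
          refine (Submodule.ne_bot_iff _).1 fun h => ?_
          have a1 := Submodule.finrank_sup_add_finrank_inf_eq (perpTwo β z z') (LinearMap.ker (β x))
          have a2 := Submodule.finrank_le (perpTwo β z z' ⊔ LinearMap.ker (β x))
          have a3 := ExtOrth.finrank_perpTwo (β := β) z z'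
          rw [h, finrank_bot] at a1
          omega
        obtain ⟨hw12, hwx⟩ := Submodule.mem_inf.1 hwker
        obtain ⟨hw1, hw2⟩ := mem_perpTwo.1 hw12
        rw [LinearMap.mem_ker] at hwx
        refine hw0 (L.nondeg w fun t => ?_)
        set t' := t - (β x t / β x x) • x - β z' t • z - β z t • z' with ht'
        have a1 : β x t' = 0 := by
          simp [ht', hz, hxz', hxx]
        have a2 : β z t' = 0 := by
          simp [ht', hzz, hzz', L.symm z x, hz]
        have a3 : β z' t' = 0 := by
          simp [ht', hz'z', L.symm z' z, hzz', L.symm z' x, hxz']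
        have b1 := hnone w hwx hw1 hw2
        have b2 := hnone t' a1 a2 a3
        have b3 := hnone (w + t') (by rw [map_add, hwx, a1, add_zero]) (by rw [map_add, hw1, a2, add_zero])
          (by rw [map_add, hw2, a3, add_zero])
        simp only [map_add, LinearMap.add_apply, b1, b2, L.symm t' w, zero_add, add_zero] at b3
        have b4 : β w t' = 0 :=
          (mul_eq_zero.1 (show (2 : K) * β w t' = 0 by linear_combination b3)).resolve_left L.two_K
        simpa [ht', L.symm w x, hwx, L.symm w z, hw1, L.symm w z', hw2] using b4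
      have hyz : β y z = 0 := by
        have e2 := congrArg (β v) (key z v hzz hzv hz hxv d)
        rw [LinearMap.map_smul, LinearMap.map_smul, L.symm v z, hzv, smul_zero, smul_eq_mul] at e2
        exact (mul_eq_zero.1 e2).resolve_right hvv
      have hyz' : β y z' = 0 := by
        have e2 := congrArg (β v) (key z' v hz'z' hz'v hxz' hxv d)
        rw [LinearMap.map_smul, LinearMap.map_smul, L.symm v z', hz'v, smul_zero, smul_eq_mul] at e2
        exact (mul_eq_zero.1 e2).resolve_right hvv
      refine ⟨β x y / β x x, sub_eq_zero.1 (L.nondeg _ fun t => ?_)⟩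
      set s := β x t / β x x with hs
      have b1 : β x (t - s • x - β z t • z') = 0 := by simp [hs, hxz', hxx]
      have b2 : β z (t - s • x - β z t • z') = 0 := by simp [hzz', L.symm z x, hz]
      have e3 := key z _ hzz b2 hz b1 d
      rw [show β (e (d • u)) z = 0 from hyz, zero_smul, eq_comm, smul_eq_zero] at e3
      have e4 : β y (t - s • x - β z t • z') = 0 := e3.resolve_right hz0
      simp only [map_sub, map_smul, LinearMap.sub_apply, LinearMap.smul_apply, smul_eq_mul, hyz'] at e4 ⊢
      rw [hs] at e4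
      rw [L.symm y x] at e4
      field_simp at e4 ⊢
      linear_combination e4
  obtain ⟨k, hk⟩ := hkx c₀
  exact hne k hk

end Cfsg.Agent.ExtFieldMax.Orth
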