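import Cfsg.Agent.Lib.ExtFieldMax.Gen

/-!
The field of four elements inside four dimensions over the field of two elements.
-/

set_option autoImplicit false

namespace Cfsg.Agent.ExtFieldMax

open Module Submodule

variable {F K V : Type*} [Field F] [Field K] [Algebra F K] [AddCommGroup V] [Module F V] [Module K V]
  [IsScalarTower F K V]

theorem line_all_two [Finite F] [FiniteDimensional F K] [FiniteDimensional K V] (hF : Nat.card F = 2)
    (hm : finrank K V = 2) {H : Subgroup (V ≃ₗ[F] V)} (hG : HasLin K H) {z : V} (hz : z ≠ 0)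
    {f₀ : V →ₗ[F] F} (hf₀ : f₀ ≠ 0) (hf₀z : ∀ c : K, f₀ (c • z) = 0) (h₀ : InH H (f₀.smulRight z)) :
    ∀ f : V →ₗ[F] F, (∀ c : K, f (c • z) = 0) → InH H (f.smulRight z) := by
  intro f hf
  obtain ⟨v, hv⟩ : ∃ v, v ∉ (K ∙ z) := by
    by_contra hall
    push Not at hall
    have := finrank_span_singleton (K := K) hz
    rw [show (K ∙ z) = ⊤ from eq_top_iff.2 fun x _ => hall x, finrank_top] at this
    omega
  obtain ⟨ψ, hψ, hψv⟩ := exists_dual_one (F := K) _ hv
  have hψz : ψ z = 0 := hψ _ (mem_span_singleton_self z)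
  have hker : (K ∙ z) = LinearMap.ker ψ := by
    refine Submodule.eq_of_le_of_finrank_le (fun w hw => hψ w hw) ?_
    have hne : ψ.range ≠ ⊥ := fun h => by
      have : ψ v ∈ ψ.range := ⟨v, rfl⟩
      rw [h, Submodule.mem_bot, hψv] at this
      exact one_ne_zero this
    have h1 := ψ.finrank_range_add_finrank_ker
    have h2 := Submodule.one_le_finrank_iff.mpr hne
    rw [finrank_span_singleton hz]
    omega
  have hdec : ∀ (g : V →ₗ[F] F), (∀ c : K, g (c • z) = 0) → ∀ x, g x = g (ψ x • v) := by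
    intro g hg x
    have : x - ψ x • v ∈ (K ∙ z) := by
      rw [hker, LinearMap.mem_ker, map_sub, map_smul, hψv, smul_eq_mul, mul_one, sub_self]
    obtain ⟨c, hc⟩ := mem_span_singleton.1 this
    have := hg c
    rw [hc, map_sub] at this
    exact sub_eq_zero.1 this
  have hφ : f₀ ∘ₗ lineMap F K V v ≠ 0 := fun h => hf₀ (LinearMap.ext fun x => by
    rw [hdec f₀ hf₀z x, LinearMap.zero_apply]
    simpa using LinearMap.congr_fun h (ψ x))
  obtain ⟨d, hd⟩ := dual_mul_surjective hφ (f ∘ₗ lineMap F K V v)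
  by_cases hd0 : d = 0
  · refine InH.zero.congr fun x => ?_
    have := hd (ψ x)
    simp only [hd0, mul_zero, map_zero, LinearMap.comp_apply, lineMap_apply] at this
    simp [hdec f hf x, this]
  have hnorm : Algebra.norm F d⁻¹ = 1 := by
    classical
    cases nonempty_fintype F
    rw [Nat.card_eq_fintype_card] at hF
    have h := FiniteField.pow_card_sub_one_eq_one (Algebra.norm F d⁻¹)
      (Algebra.norm_ne_zero_iff.2 (inv_ne_zero hd0))
    rwa [hF, pow_one] at h
  obtain ⟨g, hg, hgx, hgs⟩ := scale_mem hG ψ v d⁻¹ hψv hnorm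
  refine ((h₀.transfer hg).congr fun x => ?_)
  simp only [LinearMap.smulRight_apply, LinearMap.comp_apply, LinearEquiv.coe_coe, hgx z, hψz, zero_mul, zero_smul,
    add_zero]
  congr 1
  rw [hdec f hf x, hdec f₀ hf₀z, hgs, map_add, ψ.map_smul, hψv, smul_eq_mul, mul_one, inv_inv]
  have := hd (ψ x)
  simp only [LinearMap.comp_apply, lineMap_apply] at this
  rw [this]
  congr 2
  ring

theorem small_trv [Finite F] [Finite K] [FiniteDimensional F K] [FiniteDimensional K V] (hF : Nat.card F = 2)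
    (hr : finrank F K = 2) (hm : finrank K V = 2) {H : Subgroup (V ≃ₗ[F] V)} (hG : HasLin K H)
    (hne : ∃ e ∈ H, ∃ (v : V) (c : K), ∀ d : K, e (c • v) ≠ d • e v) :
    ∀ (z : V) (f : V →ₗ[F] F), f z = 0 → InH H (f.smulRight z) := by
  classical
  obtain ⟨e, he, w₁, w, hw₁, hw, hd⟩ := exists_config (by rw [hr]; norm_num) (by omega) hG hne
  obtain ⟨ν, hν, hν0⟩ : ∃ c ∈ coef K e w₁ w, c ≠ 0 :=
    Submodule.exists_mem_ne_zero_of_ne_bot (Submodule.one_le_finrank_iff.1 (by omega))
  obtain ⟨μ, hμ⟩ := mem_coef.1 hν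
  have hμ0 : μ ≠ 0 := fun h => by
    rw [h, zero_smul, map_zero, eq_comm, smul_eq_zero] at hμ
    exact hμ.elim hν0 hw
  obtain ⟨u, hudef⟩ : ∃ u, u = ν • w := ⟨_, rfl⟩
  obtain ⟨u₁, hu1def⟩ : ∃ u, u = μ • w₁ := ⟨_, rfl⟩
  have hu : u ≠ 0 := hudef ▸ smul_ne_zero hν0 hw
  have hu₁ : u₁ ≠ 0 := hu1def ▸ smul_ne_zero hμ0 hw₁
  -- a generator of the field
  obtain ⟨δ, hδ⟩ : ∃ c : K, c ∉ Submodule.span F {(1 : K)} := by
    by_contra hall
    push Not at hall
    have := finrank_span_singleton (K := F) (one_ne_zero (α := K))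
    rw [show Submodule.span F {(1 : K)} = ⊤ from eq_top_iff.2 fun x _ => hall x, finrank_top, hr] at this
    omega
  have hbas : ∀ c : K, ∃ a b : F, c = algebraMap F K a + algebraMap F K b * δ := by
    intro c
    have hli : LinearIndependent F ![(1 : K), δ] := by
      rw [LinearIndependent.pair_iff' one_ne_zero]
      intro a ha
      exact hδ (mem_span_singleton.2 ⟨a, ha⟩)
    have htop := hli.span_eq_top_of_card_eq_finrank (by rw [hr]; simp)
    have hc : c ∈ Submodule.span F (Set.range ![(1 : K), δ]) := by rw [htop]; exact Submodule.mem_top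
    rw [show Set.range ![(1 : K), δ] = {1, δ} by
      rw [Matrix.range_cons, Matrix.range_cons, Matrix.range_empty, Set.union_empty, ← Set.insert_eq]] at hc
    obtain ⟨a, b, hab⟩ := mem_span_pair.1 hc
    exact ⟨a, b, by rw [← hab, Algebra.smul_def, Algebra.smul_def, mul_one]⟩
  have hF2 : ∀ a : F, a = 0 ∨ a = 1 := by
    intro a
    by_contra hcon
    push Not at hcon
    cases nonempty_fintype F
    have : ({0, 1, a} : Finset F).card ≤ Fintype.card F := Finset.card_le_univ _
    rw [Nat.card_eq_fintype_card] at hF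
    rw [Finset.card_insert_of_notMem (by simp [hcon.1.symm]),
      Finset.card_insert_of_notMem (by simp [hcon.2.symm]), Finset.card_singleton] at this
    omega
  have hfour : ∀ c : K, c = 0 ∨ c = 1 ∨ c = δ ∨ c = δ + 1 := by
    intro c
    obtain ⟨a, b, rfl⟩ := hbas c
    rcases hF2 a with rfl | rfl <;> rcases hF2 b with rfl | rfl <;> simp [add_comm]
  have h2F : (2 : F) = 0 := by
    rcases hF2 2 with h | h
    · exact h
    · exact absurd (show (1 : F) = 0 by linear_combination h) one_ne_zero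
  have h2K : (2 : K) = 0 := by
    have := congrArg (algebraMap F K) h2F
    rwa [map_ofNat, map_zero] at this
  have h2V : ∀ x : V, x + x = 0 := fun x => by
    rw [← two_smul K x, h2K, zero_smul]
  have hδ0 : δ ≠ 0 := fun h => hδ (by rw [h]; exact Submodule.zero_mem _)
  have hδ1 : δ ≠ 1 := fun h => hδ (by rw [h]; exact mem_span_singleton_self 1)
  have hδ2 : δ * δ = δ + 1 := by
    rcases hfour (δ * δ) with h | h | h | h
    · exact absurd (mul_self_eq_zero.1 h) hδ0
    · have : (δ - 1) * (δ - 1) = 0 := by linear_combination h + (1 - δ) * h2K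
      exact absurd (sub_eq_zero.1 (mul_self_eq_zero.1 this)) hδ1
    · exact absurd (mul_left_cancel₀ hδ0 (by rwa [mul_one])) hδ1
    · exact h
  -- the configuration
  have heu : e u₁ = u := by rw [hudef, hu1def, hμ]
  have hcd : finrank F (coef K e u₁ u) ≤ 1 := by
    have hinj : Function.Injective (LinearMap.mulRight F ν) := mul_left_injective₀ hν0
    have hle : (coef K e u₁ u).map (LinearMap.mulRight F ν) ≤ coef K e w₁ w := by
      rintro x ⟨c, hc, rfl⟩
      obtain ⟨d, hdc⟩ := mem_coef.1 hc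
      refine mem_coef.2 ⟨d * μ, ?_⟩
      rw [mul_smul, ← hu1def, hdc, hudef, smul_smul]; rfl
    have := Submodule.finrank_mono hle
    rw [← (Submodule.equivMapOfInjective _ hinj _).finrank_eq] at this
    omega
  obtain ⟨r₀, hr0def⟩ : ∃ r, r = e (δ • u₁) := ⟨_, rfl⟩
  have hone : (1 : K) ∈ coef K e u₁ u := mem_coef.2 ⟨1, by rw [one_smul, one_smul, heu]⟩
  have hnoδ : δ ∉ coef K e u₁ u := by
    intro h
    have hall : coef K e u₁ u = ⊤ := eq_top_iff.2 fun c _ => by
      obtain ⟨a, b, rfl⟩ := hbas c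
      rw [← Algebra.smul_def, ← mul_one (algebraMap F K a), ← Algebra.smul_def]
      exact add_mem (Submodule.smul_mem _ a hone) (Submodule.smul_mem _ b h)
    rw [hall, finrank_top, hr] at hcd
    omega
  have hr₀ : r₀ ∉ (K ∙ u) := by
    intro h
    obtain ⟨d, hd'⟩ := mem_span_singleton.1 h
    rcases hfour d with hd₁ | hd₁ | hd₁ | hd₁ <;> rw [hd₁] at hd'
    · rw [zero_smul, eq_comm, hr0def, LinearEquiv.map_eq_zero_iff, smul_eq_zero] at hd'
      exact hd'.elim hδ0 hu₁
    · rw [one_smul, ← heu, hr0def, e.injective.eq_iff] at hd'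
      exact hδ1 (smul_left_injective K hu₁ (show δ • u₁ = (1 : K) • u₁ by rw [one_smul, ← hd']))
    · exact hnoδ (mem_coef.2 ⟨δ, by rw [← hr0def, hd']⟩)
    · refine hnoδ (mem_coef.2 ⟨δ + 1, ?_⟩)
      rw [add_smul, map_add, ← hr0def, ← hd', one_smul, heu, add_smul, one_smul, add_assoc, h2V, add_zero]
  have hy₀ : e.symm (δ • u) ∉ (K ∙ u₁) := by
    intro h
    obtain ⟨d, hd'⟩ := mem_span_singleton.1 h
    exact hnoδ (mem_coef.2 ⟨d, by rw [hd', e.apply_symm_apply]⟩)
  obtain ⟨Φ, hΦ, hΦy⟩ := exists_dual_one (F := K) _ hy₀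
  have hΦu : Φ u₁ = 0 := hΦ _ (mem_span_singleton_self u₁)
  obtain ⟨ψ, hψ, hψr⟩ := exists_dual_one (F := K) _ hr₀
  have hψu : ψ u = 0 := hψ _ (mem_span_singleton_self u)
  have hind : ∀ a c : K, a • u + c • r₀ = 0 → a = 0 ∧ c = 0 := by
    intro a c h
    have hc : c = 0 := by simpa [hψu, hψr] using congrArg ψ h
    rw [hc, zero_smul, add_zero, smul_eq_zero] at h
    exact ⟨h.resolve_right hu, hc⟩
  have hdec : ∀ x, ∃ a c : K, x = a • u + c • r₀ := by
    intro x
    have hsp : span K ({u, r₀} : Set V) = ⊤ := by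
      refine Submodule.eq_top_of_finrank_eq (le_antisymm (Submodule.finrank_le _) ?_)
      have hlt : (K ∙ u) < span K ({u, r₀} : Set V) :=
        lt_of_le_of_ne (span_mono (by simp)) fun h => hr₀ (by rw [h]; exact subset_span (by simp))
      have := Submodule.finrank_lt_finrank_of_lt hlt
      rw [finrank_span_singleton hu] at this
      omega
    obtain ⟨a, c, h⟩ := mem_span_pair.1 (show x ∈ span K ({u, r₀} : Set V) by rw [hsp]; exact Submodule.mem_top)
    exact ⟨a, c, h.symm⟩
  obtain ⟨γ, hγ⟩ : ∃ g, g = Φ (e.symm (δ • r₀)) := ⟨_, rfl⟩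
  have hsu : e.symm u = u₁ := by rw [← heu, e.symm_apply_apply]
  have hsr : e.symm r₀ = δ • u₁ := by rw [hr0def, e.symm_apply_apply]
  have hγ2 : γ = δ ∨ γ = δ + 1 := by
    have hR : ∀ x, Φ (e.symm x) = 0 → ∃ d : K, x = e (d • u₁) := by
      intro x hx
      have hker : (K ∙ u₁) = LinearMap.ker Φ := by
        refine Submodule.eq_of_le_of_finrank_le (fun w hw => hΦ w hw) ?_
        have hne : Φ.range ≠ ⊥ := fun h => by
          have : Φ (e.symm (δ • u)) ∈ Φ.range := ⟨_, rfl⟩
          rw [h, Submodule.mem_bot, hΦy] at this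
          exact one_ne_zero this
        have h1 := Φ.finrank_range_add_finrank_ker
        have h2 := Submodule.one_le_finrank_iff.mpr hne
        rw [finrank_span_singleton hu₁]
        omega
      have hmem : e.symm x ∈ (K ∙ u₁) := by rw [hker]; exact hx
      obtain ⟨d, hd'⟩ := mem_span_singleton.1 hmem
      exact ⟨d, by rw [hd', e.apply_symm_apply]⟩
    have himg : ∀ d : K, ∃ a c : K, e (d • u₁) = a • u + c • r₀ ∧ (a = 0 ∨ a = 1) ∧ (c = 0 ∨ c = 1) := by
      intro d
      rcases hfour d with hd₁ | hd₁ | hd₁ | hd₁ <;> rw [hd₁]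
      · exact ⟨0, 0, by simp, Or.inl rfl, Or.inl rfl⟩
      · exact ⟨1, 0, by simp [heu], Or.inr rfl, Or.inl rfl⟩
      · exact ⟨0, 1, by simp [← hr0def], Or.inl rfl, Or.inr rfl⟩
      · exact ⟨1, 1, by rw [add_smul, map_add, one_smul, one_smul, one_smul, ← hr0def, heu, add_comm], Or.inr rfl, Or.inr rfl⟩
    have hbad : ∀ a : K, Φ (e.symm (a • u + δ • r₀)) ≠ 0 := by
      intro a h
      obtain ⟨d, hd'⟩ := hR _ h
      obtain ⟨a', c', h', -, hc'⟩ := himg d
      rw [h'] at hd'
      have := (hind (a - a') (δ - c') (by rw [sub_smul, sub_smul]; linear_combination (norm := module) hd')).2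
      rcases hc' with rfl | rfl
      · exact hδ0 (by simpa using this)
      · exact hδ1 (sub_eq_zero.1 this)
    rcases hfour γ with h | h | h | h
    · exact absurd (show Φ (e.symm ((0 : K) • u + δ • r₀)) = 0 by rw [zero_smul, zero_add, ← hγ, h]) (hbad 0)
    · refine absurd ?_ (hbad δ)
      rw [map_add, map_add, hΦy, ← hγ, h]
      linear_combination h2K
    · exact Or.inl h
    · exact Or.inr h
  -- the conjugated transvections
  have hb : ∀ lam : K, ∃ b ∈ H, b u = u ∧ b r₀ = r₀ ∧ b (δ • u) = δ • u + e (lam • u₁) ∧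
      b (δ • r₀) = δ • r₀ + e ((γ * lam) • u₁) := by
    intro lam
    obtain ⟨b, hb, hbx⟩ := (hasLin_trv hG Φ (lam • u₁) (by rw [map_smul, hΦu, smul_zero])).conj he
    refine ⟨b, hb, ?_, ?_, ?_, ?_⟩ <;> rw [hbx]
    · simp [hsu, hΦu]
    · simp [hsr, hΦu]
    · simp [hΦy]
    · simp [← hγ, smul_smul]
  have hlinmap : ∀ a b c d : K, a * d - b * c ≠ 0 → ∃ g : V ≃ₗ[K] V, g.restrictScalars F ∈ H ∧
      g u = a • u + b • r₀ ∧ g r₀ = c • u + d • r₀ := by
    intro a b c d hdet
    obtain ⟨χ, hχ, hχu⟩ := exists_dual_one (F := K) (K ∙ r₀) (y := u) (fun h => by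
      obtain ⟨k, hk⟩ := mem_span_singleton.1 h
      have := (hind (-1) k (by rw [hk]; simp)).1
      simp at this)
    have hχr : χ r₀ = 0 := hχ _ (mem_span_singleton_self r₀)
    let g₀ : V →ₗ[K] V := χ.smulRight (a • u + b • r₀) + ψ.smulRight (c • u + d • r₀)
    have hg₀u : g₀ u = a • u + b • r₀ := by simp [g₀, hχu, hψu]
    have hg₀r : g₀ r₀ = c • u + d • r₀ := by simp [g₀, hχr, hψr]
    have hinj : Function.Injective g₀ := by
      rw [injective_iff_map_eq_zero]
      intro x hx
      obtain ⟨p, q, rfl⟩ := hdec x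
      rw [map_add, g₀.map_smul p u, g₀.map_smul q r₀, hg₀u, hg₀r] at hx
      obtain ⟨h1, h2⟩ := hind (p * a + q * c) (p * b + q * d) (by
        rw [← hx]; module)
      have hp : p = 0 := (mul_eq_zero.1 (show (a * d - b * c) * p = 0 by linear_combination d * h1 - c * h2)).resolve_left hdet
      have hq : q = 0 := (mul_eq_zero.1 (show (a * d - b * c) * q = 0 by linear_combination a * h2 - b * h1)).resolve_left hdet
      simp [hp, hq]
    refine ⟨LinearEquiv.ofInjectiveEndo g₀ hinj, hG _ ?_, hg₀u, hg₀r⟩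
    cases nonempty_fintype F
    have h := FiniteField.pow_card_sub_one_eq_one _
      (LinearEquiv.isUnit_det' ((LinearEquiv.ofInjectiveEndo g₀ hinj).restrictScalars F)).ne_zero
    rw [Nat.card_eq_fintype_card] at hF
    rw [hF, pow_one] at h
    exact h
  -- functionals given on the basis
  obtain ⟨τ, hτ1, hτδ⟩ : ∃ τ : K →ₗ[F] F, τ 1 = 1 ∧ τ δ = 0 := by
    obtain ⟨τ, hτ, h⟩ := exists_dual_one (F := F) (F ∙ δ) (y := (1 : K)) (fun h => by
      obtain ⟨a, ha⟩ := mem_span_singleton.1 h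
      rcases hF2 a with rfl | rfl
      · simp at ha
      · exact hδ1 (by simpa using ha))
    exact ⟨τ, h, hτ δ (mem_span_singleton_self δ)⟩
  obtain ⟨σ, hσ1, hσδ⟩ : ∃ σ : K →ₗ[F] F, σ 1 = 0 ∧ σ δ = 1 := by
    obtain ⟨σ, hσ, h⟩ := exists_dual_one (F := F) (F ∙ (1 : K)) (y := δ) hδ
    exact ⟨σ, hσ 1 (mem_span_singleton_self 1), h⟩
  obtain ⟨χ, hχ, hχu⟩ := exists_dual_one (F := K) (K ∙ r₀) (y := u) (fun h => by
      obtain ⟨k, hk⟩ := mem_span_singleton.1 h
      have := (hind (-1) k (by rw [hk]; simp)).1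
      simp at this)
  have hχr : χ r₀ = 0 := hχ _ (mem_span_singleton_self r₀)
  obtain ⟨k, hk⟩ : ∃ k : K → K, ∀ x, k x = algebraMap F K (σ x) := ⟨fun x => algebraMap F K (σ x), fun _ => rfl⟩
  have hk0 : k 0 = 0 := by rw [hk, map_zero, map_zero]
  have hk1 : k 1 = 0 := by rw [hk, hσ1, map_zero]
  have hkδ : k δ = 1 := by rw [hk, hσδ, map_one]
  have hkd : k (δ + 1) = 1 := by rw [hk, map_add, hσδ, hσ1, add_zero, map_one]
  have hkd' : k (1 + δ) = 1 := by rw [add_comm, hkd]
  have hdd : (δ + 1) * δ = 1 := by rw [add_mul, hδ2, one_mul]; linear_combination δ * h2K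
  have hdd' : δ * (δ + 1) = 1 := by rw [mul_comm, hdd]
  have hd1d : (δ + 1) * (δ + 1) = δ := by linear_combination hδ2 + (δ + 1) * h2K
  -- the coordinates of the conjugated transvections
  have hbP : ∀ lam : K, ∃ b ∈ H, ∀ a c : K,
      b (a • u + c • r₀) = a • u + c • r₀ + k a • e (lam • u₁) + k c • e ((γ * lam) • u₁) := by
    intro lam
    obtain ⟨b, hb', bu, br, bdu, bdr⟩ := hb lam
    refine ⟨b, hb', fun a c => ?_⟩
    obtain ⟨a₁, a₂, rfl⟩ := hbas a
    obtain ⟨c₁, c₂, rfl⟩ := hbas c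
    have hka : ∀ p q : F, k (algebraMap F K p + algebraMap F K q * δ) = algebraMap F K q := fun p q => by
      rw [hk, ← Algebra.smul_def, ← mul_one (algebraMap F K p), ← Algebra.smul_def]
      simp [hσ1, hσδ]
    simp only [hka, add_smul, mul_smul, algebraMap_smul, map_add, map_smul, bu, br, bdu, bdr, smul_add]
    abel
  have hstep : ∀ (a b c d : K) (g : V ≃ₗ[K] V), g u = a • u + b • r₀ → g r₀ = c • u + d • r₀ → ∀ p q : K,
      g.restrictScalars F (p • u + q • r₀) = (p * a + q * c) • u + (p * b + q * d) • r₀ := by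
    intro a b c d g hgu hgr p q
    show g (p • u + q • r₀) = _
    rw [map_add, map_smul, map_smul, hgu, hgr]
    module
  have hext : ∀ S T : V →ₗ[F] V,
      (∀ p q : K, ((p = 1 ∨ p = δ) ∧ q = 0) ∨ (p = 0 ∧ (q = 1 ∨ q = δ)) →
        S (p • u + q • r₀) = T (p • u + q • r₀)) → S = T := by
    intro S T h
    have h1 := h 1 0 (by simp)
    have h2 := h δ 0 (by simp)
    have h3 := h 0 1 (by simp)
    have h4 := h 0 δ (by simp)
    simp only [one_smul, zero_smul, zero_add, add_zero] at h1 h2 h3 h4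
    ext x
    obtain ⟨a, c, rfl⟩ := hdec x
    obtain ⟨a₁, a₂, rfl⟩ := hbas a
    obtain ⟨c₁, c₂, rfl⟩ := hbas c
    simp only [add_smul, mul_smul, algebraMap_smul, map_add, map_smul, h1, h2, h3, h4]
  have hmem : ∀ {t : V ≃ₗ[F] V} {D : V →ₗ[F] V}, t ∈ H → (t : V →ₗ[F] V) = LinearMap.id + D → InH H D :=
    fun {t D} ht h => ⟨t, ht, fun x => LinearMap.congr_fun h x⟩
  have key : ∃ z, z ≠ 0 ∧ ∃ f : V →ₗ[F] F, f ≠ 0 ∧ (∀ c : K, f (c • z) = 0) ∧ InH H (f.smulRight z) := by
    rcases hγ2 with hγe | hγo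
    · -- the even case
      obtain ⟨b, hb', hbp⟩ := hbP δ
      have hB : ∀ a c : K, b (a • u + c • r₀) = (a + k c) • u + (c + k a + k c) • r₀ := fun a c => by
        rw [hbp, hγe, hδ2, add_smul δ, map_add, ← hr0def, one_smul, heu]
        module
      obtain ⟨g, hg, gu, gr⟩ := hlinmap 1 δ δ δ (by
        intro h; exact one_ne_zero (α := K) (by linear_combination -h - hδ2 + 0 * h2K))
      obtain ⟨g', hg', gu', gr'⟩ := hlinmap 0 δ δ 0 (by simpa using hδ0)
      refine ⟨(1 : K) • u + (δ + 1) • r₀, fun h => one_ne_zero (hind 1 _ h).1,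
        τ ∘ₗ χ.restrictScalars F + σ ∘ₗ ψ.restrictScalars F, ?_, ?_, hmem
          (t := g.restrictScalars F * b * (g'.restrictScalars F * b))
          (H.mul_mem (H.mul_mem hg hb') (H.mul_mem hg' hb')) (hext _ _ fun p q hpq => ?_)⟩
      · intro h
        simpa [hχu, hψu, hτ1] using LinearMap.congr_fun h u
      · intro c
        obtain ⟨c₁, c₂, rfl⟩ := hbas c
        rw [smul_add, smul_smul, smul_smul, mul_one,
          show (algebraMap F K c₁ + algebraMap F K c₂ * δ) * (δ + 1) = c₁ • (δ + 1) + c₂ • (1 : K) by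
            rw [Algebra.smul_def, Algebra.smul_def, mul_one, add_mul, mul_assoc, hdd', mul_one],
          ← Algebra.smul_def, ← mul_one (algebraMap F K c₁), ← Algebra.smul_def]
        simp only [LinearMap.add_apply, LinearMap.comp_apply, LinearMap.restrictScalars_apply, map_add, χ.map_smul,
          ψ.map_smul, hχu, hχr, hψu, hψr, smul_eq_mul, mul_one, mul_zero, add_zero, zero_add, map_smul, hτ1, hτδ,
          hσ1, hσδ]
        simp
        linear_combination c₁ * h2F
      · have hL : (g.restrictScalars F * b * (g'.restrictScalars F * b)) (p • u + q • r₀) =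
            g.restrictScalars F (b (g'.restrictScalars F (b (p • u + q • r₀)))) := rfl
        rw [LinearEquiv.coe_coe, hL, hB, hstep _ _ _ _ g' gu' gr', hB, hstep _ _ _ _ g gu gr]
        simp only [LinearMap.add_apply, LinearMap.id_coe, id_eq, LinearMap.smulRight_apply, LinearMap.comp_apply,
          LinearMap.restrictScalars_apply, map_add, map_smul, hχu, hχr, hψu, hψr, smul_eq_mul, mul_one, mul_zero,
          add_zero, zero_add]
        rcases hpq with ⟨rfl | rfl, rfl⟩ | ⟨rfl, rfl | rfl⟩ <;>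
        · simp only [hk0, hk1, hkδ, hkd, hkd', hdd, hdd', hδ2, hτ1, hτδ, hσ1, hσδ, map_zero, zero_add, add_zero,
            zero_mul, mul_zero, one_mul, mul_one, add_mul, mul_add, one_smul, zero_smul, h2V]
          all_goals (match_scalars <;> simp only [mul_one] <;> grind)
    · -- the odd case
      obtain ⟨b, hb', hbp⟩ := hbP 1
      obtain ⟨b', hb'', hbp'⟩ := hbP (δ + 1)
      have hB : ∀ a c : K, b (a • u + c • r₀) = (a + k a + k c) • u + (c + k c) • r₀ := fun a c => by
        rw [hbp, hγo, mul_one, add_smul δ, map_add, ← hr0def, one_smul, heu]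
        module
      have hB' : ∀ a c : K, b' (a • u + c • r₀) = (a + k a) • u + (c + k a + k c) • r₀ := fun a c => by
        rw [hbp', hγo, hd1d, add_smul δ, map_add, ← hr0def, one_smul, heu]
        module
      obtain ⟨g, hg, gu, gr⟩ := hlinmap 0 δ 1 0 (by simpa using hδ0)
      obtain ⟨g', hg', gu', gr'⟩ := hlinmap 0 1 δ 0 (by simpa using hδ0)
      refine ⟨(0 : K) • u + (δ + 1) • r₀, fun h => hδ1 (by linear_combination (hind 0 _ h).2 - h2K),
        σ ∘ₗ χ.restrictScalars F, ?_, ?_, hmem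
          (t := g.restrictScalars F * b * (g'.restrictScalars F * b'))
          (H.mul_mem (H.mul_mem hg hb') (H.mul_mem hg' hb'')) (hext _ _ fun p q hpq => ?_)⟩
      · intro h
        simpa [hχu, hσδ] using LinearMap.congr_fun h (δ • u)
      · intro c
        simp [hχr]
      · have hL : (g.restrictScalars F * b * (g'.restrictScalars F * b')) (p • u + q • r₀) =
            g.restrictScalars F (b (g'.restrictScalars F (b' (p • u + q • r₀)))) := rfl
        rw [LinearEquiv.coe_coe, hL, hB', hstep _ _ _ _ g' gu' gr', hB, hstep _ _ _ _ g gu gr]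
        simp only [LinearMap.add_apply, LinearMap.id_coe, id_eq, LinearMap.smulRight_apply, LinearMap.comp_apply,
          LinearMap.restrictScalars_apply, map_add, map_smul, hχu, hχr, smul_eq_mul, mul_one, mul_zero,
          add_zero, zero_add]
        rcases hpq with ⟨rfl | rfl, rfl⟩ | ⟨rfl, rfl | rfl⟩ <;>
        · simp only [hk0, hk1, hkδ, hkd, hkd', hdd, hdd', hδ2, hσ1, hσδ, map_zero, zero_add, add_zero,
            zero_mul, mul_zero, one_mul, mul_one, add_mul, mul_add, one_smul, zero_smul, h2V]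
          all_goals (match_scalars <;> simp only [mul_one] <;> grind)
  obtain ⟨z, hz, f, hf, hfz, hin⟩ := key
  exact all_trv_of_line (by omega) hG hz (line_all_two hF hm hG hz hf hfz hin)

end Cfsg.Agent.ExtFieldMax
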