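import Cfsg.Agent.Lib.ExtFieldMax.Config

/-!
Symplectic forms with self-adjoint multiplication by an extension field.
-/

set_option autoImplicit false

namespace Cfsg.Agent.ExtFieldMax

open Module Submodule

variable {F K V : Type*} [Field F] [Field K] [Algebra F K] [AddCommGroup V] [Module F V] [Module K V]
  [IsScalarTower F K V]

/-- An alternating non-degenerate form for which the scalars of `K` are self-adjoint. -/
structure ExtSp (K : Type*) [Field K] [Module K V] (B : LinearMap.BilinForm F V) : Prop where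
  alt : ∀ x, B x x = 0
  nondeg : ∀ u, (∀ x, B x u = 0) → u = 0
  adj : ∀ (k : K) x y, B (k • x) y = B x (k • y)
  altk : ∀ (k : K) x, B (k • x) x = 0

theorem dual_uniq {τ : K →ₗ[F] F} (hτ : τ ≠ 0) {a b : K} (h : ∀ k, τ (k * a) = τ (k * b)) : a = b := by
  by_contra hne
  apply hτ
  ext k
  have := h (k * (a - b)⁻¹)
  have h2 : τ (k * (a - b)⁻¹ * (a - b)) = 0 := by rw [mul_sub, map_sub, this, sub_self]
  rw [inv_mul_cancel_right₀ (sub_ne_zero.2 hne)] at h2
  simpa using h2

/-- `ω u` is the `K`-valued form paired against `u`. -/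
structure Lift (K : Type*) [Field K] [Algebra F K] [Module K V] (B : LinearMap.BilinForm F V)
    (τ : K →ₗ[F] F) (ω : V → (V →ₗ[K] K)) : Prop where
  τne : τ ≠ 0
  spec : ∀ u x, τ (ω u x) = B x u

theorem exists_lift [FiniteDimensional F K] [FiniteDimensional K V] (B : LinearMap.BilinForm F V) :
    ∃ (τ : K →ₗ[F] F) (ω : V → (V →ₗ[K] K)), Lift K B τ ω := by
  obtain ⟨τ, -, hτ⟩ := exists_dual_one (F := F) (⊥ : Submodule F K) (y := 1) (by simp)
  have hτ0 : τ ≠ 0 := fun h => by rw [h, LinearMap.zero_apply] at hτ; exact zero_ne_one hτ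
  have h : ∀ u, ∃ Φ : V →ₗ[K] K, ∀ x, B.flip u x = τ (Φ x) := fun u => dual_rep hτ0 _
  choose ω hω using h
  exact ⟨τ, ω, hτ0, fun u x => (hω u x).symm⟩

namespace Lift

variable {B : LinearMap.BilinForm F V} {τ : K →ₗ[F] F} {ω : V → (V →ₗ[K] K)} (L : Lift K B τ ω) (S : ExtSp K B)

include L in
theorem spec_mul (u x : V) (k : K) : τ (k * ω u x) = B (k • x) u := by
  rw [← L.spec, map_smul, smul_eq_mul]

include L S

theorem self (u : V) : ω u u = 0 :=
  dual_uniq L.τne fun k => by rw [L.spec_mul, mul_zero, map_zero, S.altk]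

theorem swap (u x : V) : ω x u = -ω u x :=
  dual_uniq L.τne fun k => by
    rw [mul_neg, map_neg, L.spec_mul, L.spec_mul]
    have h := S.alt ((k • u) + x)
    simp only [map_add, LinearMap.add_apply, S.alt, zero_add, add_zero] at h
    have h2 : B (k • x) u = B x (k • u) := S.adj k x u
    rw [h2]
    linear_combination h

theorem smul_left (c : K) (u x : V) : ω (c • u) x = c * ω u x :=
  dual_uniq L.τne fun k => by
    rw [L.spec_mul, ← mul_assoc, L.spec_mul, ← S.adj, smul_smul, mul_comm]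

theorem add_left (u v x : V) : ω (u + v) x = ω u x + ω v x :=
  dual_uniq L.τne fun k => by rw [L.spec_mul, mul_add, map_add τ, L.spec_mul, L.spec_mul, map_add]

theorem sub_left (u v x : V) : ω (u - v) x = ω u x - ω v x :=
  dual_uniq L.τne fun k => by rw [L.spec_mul, mul_sub, map_sub τ, L.spec_mul, L.spec_mul, map_sub]

theorem exists_partner {u : V} (hu : u ≠ 0) : ∃ x, ω u x ≠ 0 := by
  by_contra h
  push Not at h
  exact hu (S.nondeg u fun x => by rw [← L.spec, h, map_zero])

theorem two_le_finrank [FiniteDimensional K V] {u : V} (hu : u ≠ 0) : 2 ≤ finrank K V := by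
  obtain ⟨x, hx⟩ := L.exists_partner S hu
  by_contra hlt
  have h1 : finrank K V = 1 := by
    have : 0 < finrank K V := by
      rw [Module.finrank_pos_iff]
      exact ⟨⟨u, 0, hu⟩⟩
    omega
  obtain ⟨c, rfl⟩ := exists_smul_eq_of_finrank_eq_one h1 hu x
  rw [map_smul, L.self S, smul_zero] at hx
  exact hx rfl

/-- A map preserving `B` and commuting with `K` preserves the lifted form. -/
theorem map_map {g : V ≃ₗ[F] V} (hg : ∀ x y, B (g x) (g y) = B x y) (hk : ∀ (k : K) x, g (k • x) = k • g x)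
    (u x : V) : ω (g u) (g x) = ω u x :=
  dual_uniq L.τne fun k => by rw [L.spec_mul, L.spec_mul, ← hk, hg]

theorem symm_apply {g : V ≃ₗ[F] V} (hg : ∀ x y, B (g x) (g y) = B x y) (hk : ∀ (k : K) x, g (k • x) = k • g x)
    (u x : V) : ω u (g.symm x) = ω (g u) x := by
  conv_rhs => rw [← g.apply_symm_apply x]
  rw [L.map_map S hg hk]

end Lift

/-- `H` contains every root element of the symplectic group over `K`. -/
def HasRoot (ω : V → (V →ₗ[K] K)) (H : Subgroup (V ≃ₗ[F] V)) : Prop :=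
  ∀ (l : K) (u : V), InH H (((l • ω u).smulRight u).restrictScalars F)

section Linear

variable {B : LinearMap.BilinForm F V} {τ : K →ₗ[F] F} {ω : V → (V →ₗ[K] K)}
  {H : Subgroup (V ≃ₗ[F] V)}

/-- Preserves the form and commutes with `K`. -/
def Good (K : Type*) [Field K] [Module K V] (B : LinearMap.BilinForm F V) (g : V ≃ₗ[F] V) : Prop :=
  (∀ x y, B (g x) (g y) = B x y) ∧ ∀ (k : K) x, g (k • x) = k • g x

theorem root_good (L : Lift K B τ ω) (S : ExtSp K B) (hR : HasRoot ω H) (l : K) (u : V) :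
    ∃ g ∈ H, Good K B g ∧ ∀ x, g x = x + (l * ω u x) • u := by
  obtain ⟨g, hg, hgx⟩ := hR l u
  have hgx' : ∀ x, g x = x + (l * ω u x) • u := fun x => by rw [hgx]; rfl
  refine ⟨g, hg, ⟨fun x y => ?_, fun k x => ?_⟩, hgx'⟩
  · rw [hgx', hgx']
    simp only [map_add, LinearMap.add_apply]
    have h1 : ∀ (a : K) z, B z (a • u) = τ (a * ω u z) := fun a z => by rw [L.spec_mul, S.adj]
    have h2 : ∀ (a : K) z, B (a • u) z = -τ (a * ω u z) := fun a z => by
      rw [← h1]
      have h := S.alt (a • u + z)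
      simp only [map_add, LinearMap.add_apply, S.alt, zero_add, add_zero] at h
      linear_combination h
    rw [h1 _ x, h2 _ y, h2 _ ((l * ω u y) • u), map_smul (ω u), L.self S, smul_zero, mul_zero, map_zero]
    have : l * ω u y * ω u x = l * ω u x * ω u y := by ring
    rw [this]
    ring
  · rw [hgx', hgx', map_smul, smul_add, smul_smul, smul_eq_mul]
    congr 2
    ring

theorem one_step (L : Lift K B τ ω) (S : ExtSp K B) (hR : HasRoot ω H) {u w : V} (h : ω w u ≠ 0) :
    ∃ g ∈ H, Good K B g ∧ g u = w := by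
  obtain ⟨g, hg, hgood, hgx⟩ := root_good L S hR (ω w u)⁻¹ (w - u)
  refine ⟨g, hg, hgood, ?_⟩
  rw [hgx, L.sub_left S, L.self S, sub_zero, inv_mul_cancel₀ h, one_smul]
  abel

theorem two_step (L : Lift K B τ ω) (S : ExtSp K B) (hR : HasRoot ω H) {u w : V} (hu : u ≠ 0) (hw : w ≠ 0) :
    ∃ g ∈ H, Good K B g ∧ g u = w := by
  obtain ⟨z, h1, h2⟩ : ∃ z, ω z u ≠ 0 ∧ ω w z ≠ 0 := by
    obtain ⟨x, hx⟩ := L.exists_partner S hu
    obtain ⟨y, hy⟩ := L.exists_partner S hw
    by_cases hxw : ω w x = 0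
    · by_cases hyu : ω u y = 0
      · refine ⟨x + y, ?_, ?_⟩
        · rw [L.swap S, map_add, hyu, add_zero, neg_ne_zero]; exact hx
        · rw [map_add, hxw, zero_add]; exact hy
      · exact ⟨y, by rw [L.swap S, neg_ne_zero]; exact hyu, hy⟩
    · exact ⟨x, by rw [L.swap S, neg_ne_zero]; exact hx, hxw⟩
  obtain ⟨g₁, hg₁, ⟨hB₁, hk₁⟩, e₁⟩ := one_step L S hR h1
  obtain ⟨g₂, hg₂, ⟨hB₂, hk₂⟩, e₂⟩ := one_step L S hR h2
  exact ⟨g₂ * g₁, H.mul_mem hg₂ hg₁, ⟨fun x y => by simp [hB₁, hB₂], fun k x => by simp [hk₁, hk₂]⟩,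
    by simp [e₁, e₂]⟩

end Linear

end Cfsg.Agent.ExtFieldMax
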