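import Cfsg.Agent.Lib.ExtFieldMax.SpBasic

/-!
A non-semilinear symplectic map gives a pair of lines meeting in a hyperplane and not orthogonal.
-/

set_option autoImplicit false

namespace Cfsg.Agent.ExtFieldMax

open Module Submodule

variable {F K V : Type*} [Field F] [Field K] [Algebra F K] [AddCommGroup V] [Module F V] [Module K V]
  [IsScalarTower F K V]

theorem improve_root [FiniteDimensional F K] [FiniteDimensional K V] (hr : (finrank F K).Prime)
    {H : Subgroup (V ≃ₗ[F] V)} {e : V ≃ₗ[F] V} (he : e ∈ H) (Φ₀ : V →ₗ[K] K)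
    {u₁ u : V} (hΦ₀u : Φ₀ u₁ = 0) (hroot : ∀ l : K, InH H (((l • Φ₀).smulRight u₁).restrictScalars F))
    (hnorth : ∃ c : K, Φ₀ (e.symm (c • u)) ≠ 0)
    (h₁ : u₁ ≠ 0) (hu : u ≠ 0) (hlo : 1 ≤ finrank F (coef K e u₁ u))
    (hhi : finrank F (coef K e u₁ u) + 2 ≤ finrank F K) :
    ∃ e' ∈ H, ∃ u' : V, u' ≠ 0 ∧ finrank F (coef K e u₁ u) < finrank F (coef K e' u' u') ∧
      finrank F (coef K e' u' u') < finrank F K := by
  set Zc := coef K e u₁ u with hZc
  set Z' := coef K e.symm u u₁ with hZ'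
  have hdim : finrank F Z' = finrank F Zc := finrank_coef_symm h₁ hu
  obtain ⟨c₀, hc₀⟩ := hnorth
  set y₀ := e.symm (c₀ • u) with hy₀
  obtain ⟨s, hs⟩ : ∃ s : K, s = (Φ₀ y₀)⁻¹ := ⟨_, rfl⟩
  obtain ⟨Φ, hΦdef⟩ : ∃ Φ : V →ₗ[K] K, Φ = s • Φ₀ := ⟨_, rfl⟩
  have hΦy : Φ y₀ = 1 := by rw [hΦdef, LinearMap.smul_apply, smul_eq_mul, hs, inv_mul_cancel₀ hc₀]
  have hΦu : Φ u₁ = 0 := by rw [hΦdef, LinearMap.smul_apply, hΦ₀u, smul_zero]
  set β : K →ₗ[F] K := Φ.restrictScalars F ∘ₗ e.symm.toLinearMap ∘ₗ lineMap F K V u with hβ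
  have hβapp : ∀ c, β c = Φ (e.symm (c • u)) := fun c => rfl
  have hβc₀ : β c₀ = 1 := by rw [hβapp, ← hy₀, hΦy]
  have hZker : Zc ≤ LinearMap.ker β := by
    intro c hc
    obtain ⟨d, hd⟩ := mem_coef.1 hc
    rw [LinearMap.mem_ker, hβapp, ← hd, e.symm_apply_apply, map_smul, hΦu, smul_zero]
  -- the pair `lam`, a witness outside `P`
  suffices hlam : ∃ lam : K, (∃ c, β c * lam ∉ Z') ∧
      finrank F Zc < finrank F (Z'.comap (LinearMap.mulRight F lam ∘ₗ β)) by
    obtain ⟨lam, ⟨c₁, hc₁⟩, hlt⟩ := hlam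
    obtain ⟨t, ht, htx⟩ := ((hroot (lam * s)).congr (D₂ := (Φ.smulRight (lam • u₁)).restrictScalars F) fun x => by
      simp [hΦdef, smul_smul, mul_comm, mul_left_comm, mul_assoc]).conj he
    have htx' : ∀ c : K, t (c • u) = c • u + e ((β c * lam) • u₁) := by
      intro c
      rw [htx]
      simp [hβapp, smul_smul]
    refine ⟨t, ht, u, hu, hlt.trans_le ?_, ?_⟩
    · refine finrank_le_of_line (coef K t u u) _ hu t fun c hc => ?_
      have hc' : β c * lam ∈ coef K e.symm u u₁ := by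
        rw [Submodule.mem_comap, LinearMap.comp_apply, LinearMap.mulRight_apply] at hc
        exact hc
      obtain ⟨d, hd⟩ := mem_coef_symm.1 hc'
      refine ⟨c + d, mem_coef.2 ⟨c, ?_⟩, ?_⟩
      · rw [htx', hd, add_smul]
      · rw [htx', hd, add_smul]
    · refine lt_of_le_of_ne (Submodule.finrank_le _) fun heq => hc₁ ?_
      have htop : coef K t u u = ⊤ := Submodule.eq_top_of_finrank_eq heq
      -- the line of `u` is fixed
      have hback : ∀ c : K, ∃ d : K, t (c • u) = d • u := by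
        intro c
        have : coef K t.symm u u = ⊤ := by
          apply Submodule.eq_top_of_finrank_eq
          rw [finrank_coef_symm hu hu, htop, finrank_top]
        exact mem_coef_symm.1 (by rw [this]; exact Submodule.mem_top : c ∈ coef K t.symm u u)
      obtain ⟨d, hd⟩ := hback c₁
      rw [htx'] at hd
      exact mem_coef_symm.2 ⟨d - c₁, by rw [sub_smul, ← hd]; abel⟩
  by_cases hA : ∃ z ∈ Z', ∃ c, β c * z ∉ Z'
  · obtain ⟨z, hz, hc⟩ := hA
    refine ⟨z, hc, lt_of_le_of_lt (Submodule.finrank_mono hZker) (Submodule.finrank_lt_finrank_of_lt ?_)⟩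
    refine lt_of_le_of_ne (fun c hc => ?_) fun h => ?_
    · show β c * z ∈ Z'
      rw [LinearMap.mem_ker.1 hc, zero_mul]; exact Z'.zero_mem
    · have h0 : c₀ ∈ Z'.comap (LinearMap.mulRight F z ∘ₗ β) := by
        show β c₀ * z ∈ Z'
        rw [hβc₀, one_mul]; exact hz
      rw [← h, LinearMap.mem_ker, hβc₀] at h0
      exact one_ne_zero h0
  · push Not at hA
    have hstab : ∀ c, β c ∈ stabAlg Z' := fun c z hz => hA z hz c
    rcases eq_bot_or_top_of_prime F K hr (stabAlg Z') with hb | ht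
    · obtain ⟨lam, hlam⟩ : ∃ lam, lam ∉ Z' := by
        by_contra hall
        push Not at hall
        have : finrank F Z' = finrank F K := by
          rw [show Z' = ⊤ from eq_top_iff.2 fun x _ => hall x, finrank_top]
        omega
      have hrange : LinearMap.range β ≤ F ∙ (1 : K) := by
        rintro x ⟨c, rfl⟩
        have := hstab c
        rw [hb, Algebra.mem_bot] at this
        obtain ⟨a, ha⟩ := this
        exact Submodule.mem_span_singleton.2 ⟨a, by rw [← ha, Algebra.smul_def, mul_one]⟩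
      have h1 : finrank F (LinearMap.range β) ≤ 1 :=
        (Submodule.finrank_mono hrange).trans_eq (finrank_span_singleton one_ne_zero)
      have h2 := β.finrank_range_add_finrank_ker
      refine ⟨lam, ⟨c₀, by rwa [hβc₀, one_mul]⟩, ?_⟩
      have h3 : LinearMap.ker β ≤ Z'.comap (LinearMap.mulRight F lam ∘ₗ β) := fun c hc => by
        show β c * lam ∈ Z'
        rw [LinearMap.mem_ker.1 hc, zero_mul]; exact Z'.zero_mem
      have h4 := Submodule.finrank_mono h3
      omega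
    · exfalso
      obtain ⟨z, hz, hz0⟩ : ∃ z ∈ Z', z ≠ 0 := by
        by_contra hall
        push Not at hall
        have : finrank F Z' = 0 := by
          rw [show Z' = ⊥ from (Submodule.eq_bot_iff _).2 hall, finrank_bot]
        omega
      have hall : ∀ y, y ∈ Z' := fun y => by
        have hy : y * z⁻¹ ∈ stabAlg Z' := by rw [ht]; exact Algebra.mem_top
        have := hy z hz
        rwa [inv_mul_cancel_right₀ hz0] at this
      have : finrank F Z' = finrank F K := by
        rw [show Z' = ⊤ from eq_top_iff.2 fun x _ => hall x, finrank_top]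
      omega

theorem exists_notMem_two {W : Type*} [AddCommGroup W] [Module F W] (P Q : Submodule F W) (hP : ∃ x, x ∉ P)
    (hQ : ∃ x, x ∉ Q) : ∃ x, x ∉ P ∧ x ∉ Q := by
  obtain ⟨a, ha⟩ := hP
  obtain ⟨b, hb⟩ := hQ
  by_cases h : a ∈ Q
  · by_cases h' : b ∈ P
    · exact ⟨a + b, fun h2 => ha ((P.add_mem_iff_left h').1 h2), fun h2 => hb ((Q.add_mem_iff_right h).1 h2)⟩
    · exact ⟨b, h', hb⟩
  · exact ⟨a, ha, h⟩

/-- Replace a configuration by one that is not orthogonal. -/
theorem fixup [FiniteDimensional F K] [FiniteDimensional K V] {B : LinearMap.BilinForm F V} {τ : K →ₗ[F] F}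
    {ω : V → (V →ₗ[K] K)} (L : Lift K B τ ω) (S : ExtSp K B) {H : Subgroup (V ≃ₗ[F] V)}
    (hH : ∀ e ∈ H, ∀ x y, B (e x) (e y) = B x y) (hR : HasRoot ω H) {e : V ≃ₗ[F] V} (he : e ∈ H)
    {u₁ u : V} (h₁ : u₁ ≠ 0) (hu : u ≠ 0) (hlo : 1 ≤ finrank F (coef K e u₁ u))
    (hhi : finrank F (coef K e u₁ u) < finrank F K) :
    ∃ e' ∈ H, ∃ v₁ v : V, v₁ ≠ 0 ∧ v ≠ 0 ∧ finrank F (coef K e u₁ u) ≤ finrank F (coef K e' v₁ v) ∧
      finrank F (coef K e' v₁ v) < finrank F K ∧ ∃ c : K, ω v₁ (e'.symm (c • v)) ≠ 0 := by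
  by_cases hno : ∃ c : K, ω u₁ (e.symm (c • u)) ≠ 0
  · exact ⟨e, he, u₁, u, h₁, hu, le_rfl, hhi, hno⟩
  push Not at hno
  have hBsymm : ∀ x y, B (e.symm x) y = B x (e y) := fun x y => by
    rw [← hH e he (e.symm x) y, e.apply_symm_apply]
  obtain ⟨d₀, hd₀⟩ : ∃ d, d ∉ coef K e.symm u u₁ := by
    by_contra hall
    push Not at hall
    rw [← finrank_coef_symm h₁ hu, show coef K e.symm u u₁ = ⊤ from eq_top_iff.2 fun x _ => hall x,
      finrank_top] at hhi
    exact lt_irrefl _ hhi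
  set r₀ := e (d₀ • u₁) with hr0
  have hr₀u : ω r₀ u = 0 := dual_uniq L.τne fun k => by
    have h := hno k
    rw [L.spec_mul, mul_zero, map_zero, hr0, ← hBsymm, ← L.spec, L.smul_left S, h, mul_zero, map_zero]
  have hur₀ : ω u r₀ = 0 := by rw [L.swap S, hr₀u, neg_zero]
  obtain ⟨w, hw1, hw2⟩ : ∃ w, ω u w = 0 ∧ ω r₀ w ≠ 0 := by
    by_contra hall
    push Not at hall
    obtain ⟨y, hy⟩ := L.exists_partner S hu
    set a := ω r₀ y / ω u y
    have : r₀ = a • u := by
      refine sub_eq_zero.1 (S.nondeg _ fun x => ?_)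
      rw [← L.spec, L.sub_left S, L.smul_left S]
      have h1 := hall (x - (ω u x / ω u y) • y) (by simp [map_sub, map_smul, div_mul_cancel₀ _ hy])
      rw [map_sub, map_smul, smul_eq_mul, sub_eq_zero] at h1
      rw [h1, show ω u x / ω u y * ω r₀ y = a * ω u x by simp only [a]; ring, sub_self, map_zero]
    exact hd₀ (mem_coef_symm.2 ⟨a, this⟩)
  have hw0 : w ≠ 0 := fun h => hw2 (by rw [h, map_zero])
  set β : K →ₗ[F] K := (ω u₁).restrictScalars F ∘ₗ e.symm.toLinearMap ∘ₗ lineMap F K V w with hβ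
  have hβapp : ∀ c, β c = ω u₁ (e.symm (c • w)) := fun c => rfl
  have hpair : ∀ c d : K, τ (d * β c) = B (c • w) (e (d • u₁)) := fun c d => by
    rw [hβapp, L.spec_mul, ← hBsymm, S.adj]
  -- the kernel is large
  have hker : finrank F (coef K e u₁ u) ≤ finrank F (LinearMap.ker β) := by
    let T : K →ₗ[F] Module.Dual F K :=
      { toFun := fun a => τ ∘ₗ LinearMap.mulRight F a
        map_add' := fun a b => by ext k; simp [mul_add]
        map_smul' := fun c a => by ext k; simp }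
    have hT : Function.Injective T := fun a b h => dual_uniq L.τne fun k => LinearMap.congr_fun h k
    have hle : (LinearMap.range β).map T ≤ (coef K e.symm u u₁).dualAnnihilator := by
      rintro x ⟨a, ⟨c, rfl⟩, rfl⟩
      rw [Submodule.mem_dualAnnihilator]
      intro d hd
      obtain ⟨k, hk⟩ := mem_coef_symm.1 hd
      show τ (d * β c) = 0
      rw [hpair, hk, ← L.spec, L.smul_left S, map_smul, hw1, smul_zero, mul_zero, map_zero]
    have h1 := Submodule.finrank_mono hle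
    rw [← (Submodule.equivMapOfInjective T hT _).finrank_eq] at h1
    have h2 := Subspace.finrank_add_finrank_dualAnnihilator_eq (K := F) (coef K e.symm u u₁)
    have h3 := β.finrank_range_add_finrank_ker
    rw [finrank_coef_symm h₁ hu] at h2
    omega
  obtain ⟨c, hc⟩ : ∃ c, β c ≠ 0 := by
    by_contra hall
    push Not at hall
    refine hw2 (dual_uniq L.τne fun k => ?_)
    rw [mul_zero, map_zero, L.spec_mul, hr0, ← hpair, hall, mul_zero, map_zero]
  obtain ⟨lam, hl1, hl2⟩ : ∃ lam, lam ∉ (coef K e.symm w u₁).comap (LinearMap.mulLeft F (β c)) ∧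
      lam ∉ LinearMap.ker (τ ∘ₗ LinearMap.mulLeft F (β c * β c)) := by
    have hz : ∀ {z : K}, z ≠ 0 → ∀ P : Submodule F K, (∃ x, x ∉ P) → ∃ x, x ∉ P.comap (LinearMap.mulLeft F z) :=
      fun {z} hz P ⟨x, hx⟩ => ⟨z⁻¹ * x, fun h => hx (by
        rwa [Submodule.mem_comap, LinearMap.mulLeft_apply, mul_inv_cancel_left₀ hz] at h)⟩
    refine exists_notMem_two _ _ (hz hc _ ?_) ?_
    · by_contra hall
      push Not at hall
      obtain ⟨k, hk⟩ := mem_coef_symm.1 (hall d₀)
      refine hw2 ?_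
      rw [hr0, hk, L.smul_left S, L.self S, mul_zero]
    · obtain ⟨x, hx⟩ : ∃ x, τ x ≠ 0 := by
        by_contra hall
        push Not at hall
        exact L.τne (LinearMap.ext hall)
      exact ⟨(β c * β c)⁻¹ * x, fun h => hx (by
        rwa [LinearMap.mem_ker, LinearMap.comp_apply, LinearMap.mulLeft_apply,
          mul_inv_cancel_left₀ (mul_ne_zero hc hc)] at h)⟩
  obtain ⟨b, hb, hbx⟩ := (hR lam u₁).conj he
  have hbw : ∀ k : K, b (k • w) = k • w + e ((β k * lam) • u₁) := fun k => by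
    rw [hbx]; simp [hβapp, smul_smul, mul_comm]
  refine ⟨b, hb, w, w, hw0, hw0, hker.trans (Submodule.finrank_mono fun k hk => mem_coef.2 ⟨k, ?_⟩),
    lt_of_le_of_ne (Submodule.finrank_le _) fun heq => ?_, c, fun h => ?_⟩
  · rw [hbw, LinearMap.mem_ker.1 hk, zero_mul, zero_smul, map_zero, add_zero]
  · have htop : coef K b.symm w w = ⊤ := Submodule.eq_top_of_finrank_eq (by rw [finrank_coef_symm hw0 hw0, heq])
    obtain ⟨d, hd⟩ := mem_coef_symm.1 (by rw [htop]; exact Submodule.mem_top : c ∈ coef K b.symm w w)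
    rw [hbw] at hd
    refine hl1 ?_
    rw [Submodule.mem_comap, LinearMap.mulLeft_apply]
    exact mem_coef_symm.2 ⟨d - c, by rw [sub_smul, ← hd]; abel⟩
  · apply hl2
    rw [LinearMap.mem_ker, LinearMap.comp_apply, LinearMap.mulLeft_apply]
    have h0 : B (b.symm (c • w)) (c • w) = 0 := by
      rw [← L.spec, L.smul_left S, h, mul_zero, map_zero]
    have h1 : B (b.symm (c • w)) (c • w) = B (c • w) (b (c • w)) := by
      rw [← hH b hb (b.symm (c • w)) (c • w), b.apply_symm_apply]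
    rw [h1, hbw, map_add, S.alt, zero_add, ← hpair] at h0
    rw [← h0]
    congr 1
    ring

theorem exists_config_root [FiniteDimensional F K] [FiniteDimensional K V] (hr : (finrank F K).Prime)
    {B : LinearMap.BilinForm F V} {τ : K →ₗ[F] F}
    {ω : V → (V →ₗ[K] K)} (L : Lift K B τ ω) (S : ExtSp K B) {H : Subgroup (V ≃ₗ[F] V)}
    (hH : ∀ e ∈ H, ∀ x y, B (e x) (e y) = B x y) (hR : HasRoot ω H)
    (hne : ∃ e ∈ H, ∃ (v : V) (c : K), ∀ d : K, e (c • v) ≠ d • e v) :
    ∃ e ∈ H, ∃ u₁ u : V, u₁ ≠ 0 ∧ u ≠ 0 ∧ finrank F (coef K e u₁ u) + 1 = finrank F K ∧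
      ∃ c : K, ω u₁ (e.symm (c • u)) ≠ 0 := by
  suffices key : ∀ k, ∀ e ∈ H, ∀ u₁ u : V, u₁ ≠ 0 → u ≠ 0 → 1 ≤ finrank F (coef K e u₁ u) →
      finrank F (coef K e u₁ u) < finrank F K → finrank F K ≤ finrank F (coef K e u₁ u) + k →
      ∃ e ∈ H, ∃ u₁ u : V, u₁ ≠ 0 ∧ u ≠ 0 ∧ finrank F (coef K e u₁ u) + 1 = finrank F K ∧
        ∃ c : K, ω u₁ (e.symm (c • u)) ≠ 0 by
    obtain ⟨e, he, v, c, hvc⟩ := hne
    have hv : v ≠ 0 := fun h => hvc 0 (by simp [h])
    have hev : e v ≠ 0 := fun h => hv (e.injective (by rw [h, map_zero]))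
    refine key (finrank F K) e he v (e v) hv hev ?_ ?_ (by omega)
    · refine Submodule.one_le_finrank_iff.2 fun h => ?_
      have : (1 : K) ∈ coef K e v (e v) := mem_coef.2 ⟨1, by simp⟩
      rw [h, Submodule.mem_bot] at this
      exact one_ne_zero this
    · refine lt_of_le_of_ne (Submodule.finrank_le _) fun heq => ?_
      have : c ∈ coef K e.symm (e v) v := by
        have : coef K e.symm (e v) v = ⊤ := Submodule.eq_top_of_finrank_eq
          (by rw [finrank_coef_symm hv hev, heq])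
        rw [this]; exact Submodule.mem_top
      obtain ⟨d, hd⟩ := mem_coef_symm.1 this
      exact hvc d hd
  intro k
  induction k with
  | zero => intro e he u₁ u _ _ _ hlt hle; omega
  | succ k ih =>
    intro e he u₁ u h₁ hu hlo hlt hle
    obtain ⟨e', he', v₁, v, hv₁, hv, hge, hlt', hno⟩ := fixup L S hH hR he h₁ hu hlo hlt
    by_cases htop : finrank F (coef K e' v₁ v) + 1 = finrank F K
    · exact ⟨e', he', v₁, v, hv₁, hv, htop, hno⟩
    obtain ⟨e'', he'', u', hu', hgt, hlt''⟩ := improve_root hr he' (ω v₁) (L.self S v₁) (fun l => hR l v₁) hno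
      hv₁ hv (by omega) (by omega)
    exact ih e'' he'' u' u' hu' hu' (by omega) hlt'' (by omega)

end Cfsg.Agent.ExtFieldMax
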