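import Cfsg.Agent.Lib.ExtFieldMax.SpConfig
import Cfsg.Agent.Lib.ExtFieldMax.Extract

/-!
A symplectic transvection over the base field from a non-semilinear map.
-/

set_option autoImplicit false

namespace Cfsg.Agent.ExtFieldMax

open Module Submodule

variable {F K V : Type*} [Field F] [Field K] [Algebra F K] [AddCommGroup V] [Module F V] [Module K V]
  [IsScalarTower F K V]

/-- Squaring is surjective in a finite field of characteristic two. -/
theorem exists_sq_of_two [Finite K] (h2 : (2 : K) = 0) (z : K) : ∃ x, x * x = z := by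
  have hinj : Function.Injective (fun x : K => x * x) := by
    intro a b h
    have h' : a * a = b * b := h
    have : (a - b) * (a - b) = 0 := by linear_combination h' + (b * b - a * b) * h2
    exact sub_eq_zero.1 (mul_self_eq_zero.1 this)
  exact (Finite.injective_iff_surjective.1 hinj) z

/-- `x ↦ c B(x, z) z` -/
abbrev trD (B : LinearMap.BilinForm F V) (c : F) (z : V) : Module.End F V := (c • B.flip z).smulRight z

theorem exists_sep {B : LinearMap.BilinForm F V} {τ : K →ₗ[F] F} {ω : V → (V →ₗ[K] K)} (L : Lift K B τ ω)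
    (S : ExtSp K B) {u w : V} (hu : u ≠ 0) (h : ∀ a : K, w ≠ a • u) : ∃ x, ω u x = 0 ∧ ω w x = 1 := by
  obtain ⟨x, hx1, hx2⟩ : ∃ x, ω u x = 0 ∧ ω w x ≠ 0 := by
    by_contra hall
    push Not at hall
    obtain ⟨y, hy⟩ := L.exists_partner S hu
    set a := ω w y / ω u y
    refine h a (sub_eq_zero.1 (S.nondeg _ fun x => ?_))
    rw [← L.spec, L.sub_left S, L.smul_left S]
    have h1 := hall (x - (ω u x / ω u y) • y) (by simp [map_sub, map_smul, div_mul_cancel₀ _ hy])
    rw [map_sub, map_smul, smul_eq_mul, sub_eq_zero] at h1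
    rw [h1, show ω u x / ω u y * ω w y = a * ω u x by simp only [a]; ring, sub_self, map_zero]
  exact ⟨(ω w x)⁻¹ • x, by simp [hx1], by simp [hx2]⟩

theorem exists_sp_transvection [Finite F] [Finite K] [FiniteDimensional F K] [FiniteDimensional K V]
    (hr : (finrank F K).Prime) (h22 : finrank K V = 2 → ¬ (Nat.card F = 2 ∧ finrank F K = 2))
    {B : LinearMap.BilinForm F V} {τ : K →ₗ[F] F} {ω : V → (V →ₗ[K] K)} (L : Lift K B τ ω) (S : ExtSp K B)
    {H : Subgroup (V ≃ₗ[F] V)} (hH : ∀ e ∈ H, ∀ x y, B (e x) (e y) = B x y) (hR : HasRoot ω H)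
    (hne : ∃ e ∈ H, ∃ (v : V) (c : K), ∀ d : K, e (c • v) ≠ d • e v) :
    ∃ (z : V) (c : F), z ≠ 0 ∧ c ≠ 0 ∧ InH H (trD B c z) := by
  classical
  obtain ⟨e, he, u₁, u, h₁, hu, hd, hno⟩ := exists_config_root hr L S hH hR hne
  obtain ⟨c₀, d₀, ζ, θ, hζc, hθd, hζP, hζm, hθm, hθP, hy₀, hr₀⟩ := exists_frame h₁ hu hd
  have hBsymm : ∀ x y, B (e.symm x) y = B x (e y) := fun x y => by
    rw [← hH e he (e.symm x) y, e.apply_symm_apply]
  have hswapB : ∀ x y, B x y = -B y x := fun x y => by
    have h := S.alt (x + y)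
    simp only [map_add, LinearMap.add_apply, S.alt, zero_add, add_zero] at h
    linear_combination h
  obtain ⟨n₁, hn₁⟩ : ∃ n, n = ω u₁ (e.symm (c₀ • u)) := ⟨_, rfl⟩
  obtain ⟨n₂, hn₂⟩ : ∃ n, n = ω u (e (d₀ • u₁)) := ⟨_, rfl⟩
  have hn₁0 : n₁ ≠ 0 := by
    obtain ⟨c, hc⟩ := hno
    rw [pull_eq hζc hζm (ω u₁) (L.self S u₁) c, ← hn₁] at hc
    exact fun h => hc (by rw [h, smul_zero])
  have hψR0 : ∀ d : K, ω u (e (d • u₁)) = θ d • n₂ := fun d => by
    have := pull_eq (e := e.symm) (u₁ := u) (u := u₁) hθd hθm (ω u) (L.self S u) d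
    simp only [LinearEquiv.symm_symm] at this
    rw [this, hn₂]
  -- the two functionals are seen through the trace pairing
  have hpair1 : ∀ d c : K, B (c • u) (e (d • u₁)) = τ (d * (ζ c • n₁)) := fun d c => by
    rw [hn₁, ← pull_eq hζc hζm (ω u₁) (L.self S u₁) c, L.spec_mul, ← hBsymm, S.adj]
  have hpair2 : ∀ d c : K, B (e (d • u₁)) (c • u) = τ (c * (θ d • n₂)) := fun d c => by
    rw [← hψR0, L.spec_mul, S.adj]
  set D₂ := τ (c₀ * n₂) with hD₂
  have hD : τ (d₀ * n₁) = -D₂ := by
    have h1 := hpair1 d₀ c₀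
    have h2 := hpair2 d₀ c₀
    rw [hζc, one_smul] at h1
    rw [hθd, one_smul] at h2
    rw [hD₂, ← h1, ← h2, hswapB]
  have hζτ : ∀ c, τ (c * n₂) = ζ c * D₂ := fun c => by
    have h1 := hpair1 d₀ c
    have h2 := hpair2 d₀ c
    rw [hθd, one_smul] at h2
    rw [mul_smul_comm, map_smul τ, smul_eq_mul, hD] at h1
    rw [← h2, hswapB, h1]
    ring
  have hθτ : ∀ d, τ (d * n₁) = -(θ d * D₂) := fun d => by
    have h1 := hpair1 d c₀
    have h2 := hpair2 d c₀
    rw [hζc, one_smul] at h1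
    rw [mul_smul_comm, map_smul τ, smul_eq_mul, ← hD₂] at h2
    rw [← h1, ← h2, hswapB]
  have hD0 : D₂ ≠ 0 := fun h => by
    refine hn₁0 (dual_uniq L.τne fun k => ?_)
    rw [hθτ, h, mul_zero, neg_zero, mul_zero, map_zero]
  have hn₂0 : n₂ ≠ 0 := fun h => hD0 (by rw [hD₂, h, mul_zero, map_zero])
  -- normalised functionals
  obtain ⟨r₀, hr0def⟩ : ∃ r, r = e (d₀ • u₁) := ⟨_, rfl⟩
  obtain ⟨ψ, hψdef⟩ : ∃ f : V →ₗ[K] K, f = n₂⁻¹ • ω u := ⟨_, rfl⟩
  have hψr : ψ r₀ = 1 := by
    rw [hψdef, hr0def, LinearMap.smul_apply, ← hn₂, smul_eq_mul, inv_mul_cancel₀ hn₂0]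
  have hψu : ψ u = 0 := by rw [hψdef, LinearMap.smul_apply, L.self S, smul_zero]
  have hψc : ∀ c : K, ψ (c • u) = 0 := fun c => by rw [map_smul, hψu, smul_zero]
  have hψx : ∀ x, ω u x = n₂ * ψ x := fun x => by
    rw [hψdef, LinearMap.smul_apply, smul_eq_mul, mul_inv_cancel_left₀ hn₂0]
  have hψR : ∀ d : K, ψ (e (d • u₁)) = algebraMap F K (θ d) := fun d => by
    rw [hψdef, LinearMap.smul_apply, hψR0, smul_eq_mul, mul_smul_comm, inv_mul_cancel₀ hn₂0, Algebra.smul_def, mul_one]
  obtain ⟨Φ, hΦdef⟩ : ∃ f : V →ₗ[K] K, f = n₁⁻¹ • ω u₁ := ⟨_, rfl⟩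
  have hΦu : Φ u₁ = 0 := by rw [hΦdef, LinearMap.smul_apply, L.self S, smul_zero]
  have hΦW : ∀ c : K, Φ (e.symm (c • u)) = algebraMap F K (ζ c) := fun c => by
    rw [hΦdef, LinearMap.smul_apply, pull_eq hζc hζm (ω u₁) (L.self S u₁) c, ← hn₁, smul_eq_mul, mul_smul_comm,
      inv_mul_cancel₀ hn₁0, Algebra.smul_def, mul_one]
  -- the maps seen through `ψ`
  let T : Module.End F K →+ Module.End F V :=
    { toFun := fun M => lineMap F K V u ∘ₗ M ∘ₗ ψ.restrictScalars F
      map_zero' := by ext; simp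
      map_add' := fun M N => by ext; simp [add_smul] }
  have hT : ∀ M x, T M x = M (ψ x) • u := fun M x => rfl
  have hTT : ∀ M N x, T M (T N x) = 0 := fun M N x => by rw [hT, hT, hψc, map_zero, zero_smul]
  let E : AddSubgroup (Module.End F K) :=
    { carrier := {M | InH H (T M)}
      zero_mem' := by rw [Set.mem_setOf_eq, map_zero]; exact InH.zero
      add_mem' := fun {M N} hM hN => by
        rw [Set.mem_setOf_eq, map_add]; exact InH.add hM hN (hTT M N)
      neg_mem' := fun {M} hM => by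
        rw [Set.mem_setOf_eq, map_neg]; exact InH.neg hM (hTT M M) }
  -- the symmetric rank two map
  let Sy : K → K → Module.End F K := fun a b =>
    (ζ ∘ₗ LinearMap.mulRight F a).smulRight b + (ζ ∘ₗ LinearMap.mulRight F b).smulRight a
  let P : K → Module.End F K := fun a => (ζ ∘ₗ LinearMap.mulRight F a).smulRight a
  -- the elements with their linear part
  have hgen : ∀ ν, ζ ν = 0 → ∀ l : K, Sy l ν + ζ l • P ν ∈ E := by
    intro ν hζν
    obtain ⟨μ, hμ⟩ := mem_coef.1 (hζm ν hζν)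
    have hθμ : θ μ = 0 := hθP μ (mem_coef_symm.2 ⟨ν, hμ⟩)
    set Bm : Module.End F V :=
      e.toLinearMap ∘ₗ (Φ.smulRight (μ • u₁)).restrictScalars F ∘ₗ e.symm.toLinearMap with hB
    have hInB : InH H Bm := ((hR (μ * n₁⁻¹) u₁).congr fun x => by
      simp [hΦdef, smul_smul, mul_comm, mul_left_comm, mul_assoc]).conj he
    have hBx : ∀ x, Bm x = e ((Φ (e.symm x) * μ) • u₁) := fun x => by
      show e (Φ (e.symm x) • μ • u₁) = _
      rw [smul_smul]
    have hBW : ∀ c : K, Bm (c • u) = ζ c • (ν • u) := fun c => by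
      rw [hBx, hΦW, mul_smul, algebraMap_smul, map_smul, hμ]
    have hBB : ∀ x, Bm (Bm x) = 0 := fun x => by
      rw [hBx, hBx, e.symm_apply_apply, Φ.map_smul, hΦu]; simp
    obtain ⟨b, hb, hbx⟩ := id hInB
    have hbs : ∀ x, b.symm x = x - Bm x := fun x => b.injective (by
      rw [b.apply_symm_apply, hbx, map_sub, hBB]; abel)
    have hf : ∀ x, θ (Φ (e.symm x) * μ) = -ζ (ν * ψ x) := fun x => by
      have h1 : τ (Φ (e.symm x) * μ * n₁) = τ (ν * ψ x * n₂) := by
        rw [show Φ (e.symm x) * μ * n₁ = μ * ω u₁ (e.symm x) by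
            rw [hΦdef, LinearMap.smul_apply, smul_eq_mul]; field_simp,
          show ν * ψ x * n₂ = ν * ω u x by rw [hψx]; ring,
          L.spec_mul, L.spec_mul, S.adj, S.adj, hBsymm, hμ]
      rw [hθτ, hζτ] at h1
      exact mul_right_cancel₀ hD0 (by linear_combination -h1)
    intro l
    have hA : InH H (T (LinearMap.mulRight F l)) := by
      refine (hR (l * n₂⁻¹) u).congr fun x => ?_
      rw [hT]
      simp [hψdef, mul_comm, mul_left_comm, mul_assoc]
    show InH H (T _)
    refine ((hA.conj hb).sub hA (hTT _ _) fun x => ?_).congr fun x => ?_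
    · show b (T _ (b.symm (T _ x))) = 0
      have : ∀ c : K, T (LinearMap.mulRight F l) (b.symm (c • u)) = 0 := fun c => by
        rw [hbs, hBW, ← smul_assoc, ← sub_smul, hT, hψc, map_zero, zero_smul]
      rw [hT _ x, this, map_zero]
    · show b (T _ (b.symm x)) - T _ x = T _ x
      have hψb : ψ (b.symm x) = ψ x + algebraMap F K (ζ (ν * ψ x)) := by
        rw [hbs, map_sub, hBx, hψR, hf, map_neg, sub_neg_eq_add]
      have h6 : (ψ x + algebraMap F K (ζ (ν * ψ x))) * l = ψ x * l + ζ (ν * ψ x) • l := by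
        rw [add_mul, Algebra.smul_def]
      rw [hT, hψb, LinearMap.mulRight_apply, h6, hbx, hBW, hT, hT, LinearMap.mulRight_apply, mul_comm ν (ψ x)]
      simp only [P, Sy, LinearMap.add_apply, LinearMap.smul_apply, LinearMap.smulRight_apply, LinearMap.comp_apply,
        LinearMap.mulRight_apply, map_add, map_smul, smul_eq_mul, add_smul, smul_assoc, mul_smul, smul_add]
      module
  -- from a rank one map to a transvection
  have hfin : ∀ a : K, a ≠ 0 → ∀ c : F, c ≠ 0 → c • P a ∈ E →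
      ∃ (z : V) (c : F), z ≠ 0 ∧ c ≠ 0 ∧ InH H (trD B c z) := by
    intro a ha c hc hmem
    refine ⟨a • u, c * D₂⁻¹, smul_ne_zero ha hu, mul_ne_zero hc (inv_ne_zero hD0),
      (hmem : InH H (T _)).congr fun x => ?_⟩
    have h1 : B x (a • u) = ζ (ψ x * a) * D₂ := by
      rw [← hζτ, ← L.spec, L.smul_left S, hψx]; congr 1; ring
    rw [hT]
    show (c • P a) (ψ x) • u = ((c * D₂⁻¹) • B.flip (a • u)) x • a • u
    show (c • (ζ (ψ x * a) • a)) • u = (c * D₂⁻¹ * B x (a • u)) • a • u
    rw [h1]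
    rw [show c * D₂⁻¹ * (ζ (ψ x * a) * D₂) = c * ζ (ψ x * a) by field_simp, smul_smul, ← smul_assoc]
  -- a kernel vector
  obtain ⟨ν, hν, hν0⟩ : ∃ c ∈ coef K e u₁ u, c ≠ 0 :=
    Submodule.exists_mem_ne_zero_of_ne_bot (Submodule.one_le_finrank_iff.1 (by have := hr.two_le; omega))
  have hζν := hζP ν hν
  by_cases h2 : (2 : F) = 0
  swap
  · refine hfin ν hν0 2 h2 ?_
    have := hgen ν hζν ν
    rw [hζν, zero_smul, add_zero] at this
    rwa [show (2 : F) • P ν = Sy ν ν by rw [two_smul]]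
  -- characteristic two
  have h2K : (2 : K) = 0 := by
    have := congrArg (algebraMap F K) h2
    rwa [map_ofNat, map_zero] at this
  have hSyl : ∀ (t : F) a b, Sy (t • a) b = t • Sy a b ∧ Sy a (t • b) = t • Sy a b := fun t a b => by
    constructor <;>
    · ext k
      simp only [Sy, LinearMap.add_apply, LinearMap.smul_apply, LinearMap.smulRight_apply, LinearMap.comp_apply,
        LinearMap.mulRight_apply, mul_smul_comm, map_smul, smul_eq_mul, mul_smul]
      module
  have hPl : ∀ (t : F) a, P (t • a) = (t * t) • P a := fun t a => by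
    ext k
    simp only [P, LinearMap.smul_apply, LinearMap.smulRight_apply, LinearMap.comp_apply, LinearMap.mulRight_apply,
      mul_smul_comm, map_smul, smul_eq_mul, mul_smul]
    module
  by_cases hq : ∃ t : F, t ≠ 0 ∧ t ≠ 1
  · obtain ⟨t, ht0, ht1⟩ := hq
    refine hfin ν hν0 (t - t * t) (fun h => ht1 ?_) ?_
    · have : t * (1 - t) = 0 := by linear_combination h
      exact (sub_eq_zero.1 ((mul_eq_zero.1 this).resolve_left ht0)).symm
    · have h1 := hgen ν hζν (t • c₀)
      have h3 := hgen (t • ν) (by rw [map_smul, hζν, smul_zero]) c₀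
      rw [(hSyl t c₀ ν).1, map_smul, hζc, smul_eq_mul, mul_one] at h1
      rw [(hSyl t c₀ ν).2, hPl, hζc, one_smul] at h3
      have := E.sub_mem h1 h3
      rw [add_sub_add_left_eq_sub] at this
      convert this using 1
      ext k
      simp [sub_smul, sub_mul]
  -- the field of two elements
  push Not at hq
  have hF : Nat.card F = 2 := by
    cases nonempty_fintype F
    rw [Nat.card_eq_fintype_card]
    refine le_antisymm ?_ Fintype.one_lt_card
    have : (Finset.univ : Finset F) ⊆ {0, 1} := fun t _ => by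
      by_cases ht : t = 0
      · simp [ht]
      · simp [hq t ht]
    exact (Finset.card_le_card this).trans Finset.card_le_two
  by_cases hr3 : 3 ≤ finrank F K
  · obtain ⟨ν', hν', hind⟩ : ∃ c ∈ coef K e u₁ u, c ∉ Submodule.span F {ν} := by
      by_contra hall
      push Not at hall
      have := Submodule.finrank_mono (show coef K e u₁ u ≤ Submodule.span F {ν} from hall)
      rw [finrank_span_singleton hν0] at this
      omega
    have hS0 : Sy ν' ν ∈ E := by
      have := hgen ν hζν ν'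
      rwa [hζP ν' hν', zero_smul, add_zero] at this
    -- the torus
    have hcong : ∀ a : K, a ≠ 0 → ∀ M ∈ E, LinearMap.mulLeft F a ∘ₗ M ∘ₗ LinearMap.mulLeft F a ∈ E := by
      intro a ha M hM
      obtain ⟨g, hg, ⟨hgB, hgK⟩, hgu⟩ := two_step L S hR hu (smul_ne_zero ha hu)
      show InH H (T _)
      refine ((hM : InH H (T M)).conj hg).congr fun x => ?_
      have h3 : ψ (g.symm x) = a * ψ x := by
        rw [hψdef, LinearMap.smul_apply, LinearMap.smul_apply, L.symm_apply S hgB hgK, hgu, L.smul_left S,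
          smul_eq_mul, smul_eq_mul]
        ring
      show g (T M (g.symm x)) = T _ x
      rw [hT, hT, hgK, hgu, h3, smul_smul, mul_comm]
      rfl
    have hcongS : ∀ a x y : K, LinearMap.mulLeft F a ∘ₗ Sy x y ∘ₗ LinearMap.mulLeft F a = Sy (a * x) (a * y) :=
      fun a x y => by
        ext k
        simp only [Sy, LinearMap.add_apply, LinearMap.smulRight_apply, LinearMap.comp_apply,
          LinearMap.mulRight_apply, LinearMap.mulLeft_apply, mul_add, mul_smul_comm]
        rw [show a * k * x = k * (a * x) by ring, show a * k * y = k * (a * y) by ring]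
    set ρ := ν' * ν⁻¹ with hρ
    have hρx : ∀ x, Sy (ρ * x) x ∈ E := fun x => by
      by_cases hx : x = 0
      · have : Sy (ρ * x) x = 0 := by ext k; simp [Sy, hx]
        rw [this]; exact E.zero_mem
      have := hcong (x * ν⁻¹) (mul_ne_zero hx (inv_ne_zero hν0)) _ hS0
      rw [hcongS, inv_mul_cancel_right₀ hν0] at this
      rwa [show x * ν⁻¹ * ν' = ρ * x by rw [hρ]; ring] at this
    have hadd : ∀ a b c, Sy (a + b) c = Sy a c + Sy b c := fun a b c => by
      ext k; simp [Sy, mul_add, add_smul]; abel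
    have hcomm : ∀ a b, Sy a b = Sy b a := fun a b => add_comm _ _
    let R : Subalgebra F K :=
      { carrier := {k | ∀ x y, Sy (k * x) y - Sy x (k * y) ∈ E}
        mul_mem' := fun {a b} ha hb x y => by
          have h1 := E.add_mem (ha (b * x) y) (hb x (a * y))
          rw [sub_add_sub_cancel] at h1
          rwa [mul_assoc, show a * b * y = b * (a * y) by ring]
        add_mem' := fun {a b} ha hb x y => by
          have h1 := E.add_mem (ha x y) (hb x y)
          rw [add_mul, add_mul, hadd, hcomm x, hadd, hcomm (a * y), hcomm (b * y)]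
          rwa [add_sub_add_comm]
        algebraMap_mem' := fun t x y => by
          rw [← Algebra.smul_def, ← Algebra.smul_def, (hSyl t x y).1, (hSyl t x y).2, sub_self]
          exact E.zero_mem }
    have hρR : ρ ∈ R := fun x y => by
      have h1 := E.sub_mem (E.sub_mem (hρx (x + y)) (hρx x)) (hρx y)
      have hadd' : ∀ a b c, Sy c (a + b) = Sy c a + Sy c b := fun a b c => by
        rw [hcomm, hadd, hcomm a, hcomm b]
      have h5 : Sy (ρ * x) y + Sy (ρ * y) x ∈ E := by
        convert h1 using 1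
        rw [mul_add, hadd, hadd', hadd']
        abel
      have h4 : Sy (ρ * y) x + Sy (ρ * y) x = 0 := by rw [← two_smul F, h2, zero_smul]
      rw [hcomm x (ρ * y), sub_eq_add_neg, neg_eq_of_add_eq_zero_left h4]
      exact h5
    have htop : R = ⊤ := by
      refine (eq_bot_or_top_of_prime F K hr R).resolve_left fun hb => hind ?_
      rw [hb, Algebra.mem_bot] at hρR
      obtain ⟨t, ht⟩ := hρR
      refine Submodule.mem_span_singleton.2 ⟨t, ?_⟩
      rw [Algebra.smul_def, ht, hρ, inv_mul_cancel_right₀ hν0]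
    have hxy : ∀ x y, Sy (x * y) 1 - Sy x y ∈ E := fun x y => by
      have := (show y ∈ R by rw [htop]; exact Algebra.mem_top) x 1
      rwa [mul_comm y x, mul_one] at this
    have hone : ∀ z, Sy z 1 ∈ E := fun z => by
      obtain ⟨x, rfl⟩ := exists_sq_of_two h2K z
      have := hxy x x
      have h4 : Sy x x = 0 := by
        show P x + P x = 0
        rw [← two_smul F, h2, zero_smul]
      rwa [h4, sub_zero] at this
    refine hfin ν hν0 1 one_ne_zero ?_
    have h3 := hgen ν hζν c₀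
    rw [hζc] at h3
    have h4 := E.sub_mem (hone (c₀ * ν)) (hxy c₀ ν)
    rw [sub_sub_cancel] at h4
    have := E.sub_mem h3 h4
    rwa [add_sub_cancel_left] at this
  -- the field of four elements
  have hr2 : finrank F K = 2 := by have := hr.two_le; omega
  have hV : 3 ≤ finrank K V := by
    have := L.two_le_finrank S hu
    by_contra h
    exact h22 (by omega) ⟨hF, hr2⟩
  obtain ⟨U, hUdef⟩ : ∃ U, U = ν • u := ⟨_, rfl⟩
  have hU : U ≠ 0 := hUdef ▸ smul_ne_zero hν0 hu
  set m := ν * n₂ with hm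
  have hm0 : m ≠ 0 := mul_ne_zero hν0 hn₂0
  have hωU : ∀ x, ω U x = m * ψ x := fun x => by rw [hUdef, L.smul_left S, hψx, hm]; ring
  have hF2 : ∀ a : F, a = 0 ∨ a = 1 := fun a => or_iff_not_imp_left.2 (hq a)
  have hD1 : D₂ = 1 := (hF2 D₂).resolve_left hD0
  -- a generator of the field
  obtain ⟨δ, hδ⟩ : ∃ c : K, ∀ t : F, algebraMap F K t ≠ c := by
    by_contra hall
    push Not at hall
    have h1 : finrank F K ≤ 1 := finrank_le_one (1 : K) fun x => by
      obtain ⟨t, ht⟩ := hall x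
      exact ⟨t, by rw [Algebra.smul_def, mul_one, ht]⟩
    omega
  have hδ0 : δ ≠ 0 := fun h => hδ 0 (by rw [map_zero, h])
  have hδ1 : δ ≠ 1 := fun h => hδ 1 (by rw [map_one, h])
  have hK4 : Nat.card K = 4 := by rw [Module.natCard_eq_pow_finrank (K := F), hF, hr2]; norm_num
  have hfour : ∀ c : K, c = 0 ∨ c = 1 ∨ c = δ ∨ c = δ + 1 := by
    intro c
    by_contra hcon
    push Not at hcon
    cases nonempty_fintype K
    rw [Nat.card_eq_fintype_card] at hK4
    have hne1 : δ + 1 ≠ 0 := fun h => hδ1 (by linear_combination h - h2K)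
    have hne2 : δ + 1 ≠ 1 := fun h => hδ0 (by linear_combination h)
    have hne3 : δ + 1 ≠ δ := fun h => one_ne_zero (α := K) (by linear_combination h)
    have : ({0, 1, δ, δ + 1, c} : Finset K).card ≤ Fintype.card K := Finset.card_le_univ _
    rw [Finset.card_insert_of_notMem (by simp [hδ0.symm, hne1.symm, hcon.1.symm]),
      Finset.card_insert_of_notMem (by simp [hδ1.symm, hne2.symm, hcon.2.1.symm]),
      Finset.card_insert_of_notMem (by simp [hne3.symm, hcon.2.2.1.symm]),
      Finset.card_insert_of_notMem (by simp [hcon.2.2.2.symm]), Finset.card_singleton] at this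
    omega
  have hδ2 : δ * δ = δ + 1 := by
    rcases hfour (δ * δ) with h | h | h | h
    · exact absurd (mul_self_eq_zero.1 h) hδ0
    · have : (δ - 1) * (δ - 1) = 0 := by linear_combination h + (1 - δ) * h2K
      exact absurd (sub_eq_zero.1 (mul_self_eq_zero.1 this)) hδ1
    · exact absurd (mul_left_cancel₀ hδ0 (by rwa [mul_one])) hδ1
    · exact h
  have hpow : ∀ c : K, c * c * (c * c) = c := by
    intro c
    rcases hfour c with h | h | h | h <;> rw [h]
    · ring
    · ring
    · rw [hδ2]; linear_combination hδ2 + (δ + 1) * h2K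
    · linear_combination (δ * δ + 5 * δ + 12) * hδ2 + (10 * δ + 6) * h2K
  have hζker : ∀ c : K, ζ c = 0 → c = 0 ∨ c = ν := by
    intro c hc
    have h1 : finrank F (coef K e u₁ u) = 1 := by omega
    obtain ⟨t, ht⟩ := exists_smul_eq_of_finrank_eq_one h1 (x := (⟨ν, hν⟩ : coef K e u₁ u))
      (fun h => hν0 (congrArg Subtype.val h)) ⟨c, hζm c hc⟩
    have := congrArg Subtype.val ht
    rcases hF2 t with rfl | rfl
    · exact Or.inl (by simpa using this.symm)
    · exact Or.inr (by simpa using this.symm)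
  have hsq : ∀ c : K, c + algebraMap F K (ζ (c * ν)) = c * c := by
    intro c
    rcases hF2 (ζ (c * ν)) with h | h
    · rw [h, map_zero, add_zero]
      rcases hζker _ h with h' | h'
      · rw [(mul_eq_zero.1 h').resolve_right hν0, mul_zero]
      · rw [mul_left_injective₀ hν0 (show c * ν = 1 * ν by rw [one_mul]; exact h'), mul_one]
    · rw [h, map_one]
      rcases hfour c with h' | h' | h' | h' <;> rw [h'] at h ⊢
      · rw [zero_mul, map_zero] at h; exact absurd h zero_ne_one
      · rw [one_mul, hζν] at h; exact absurd h zero_ne_one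
      · rw [hδ2]
      · linear_combination -hδ2 + (-δ) * h2K
  -- the vector outside the plane
  obtain ⟨w, hwu, hwr, hw0⟩ : ∃ w, ω u w = 0 ∧ ω r₀ w = 0 ∧ w ≠ 0 := by
    let P2 : V →ₗ[K] K × K := (ω u).prod (ω r₀)
    have : LinearMap.ker P2 ≠ ⊥ := fun h => by
      have h1 := P2.finrank_range_add_finrank_ker
      rw [h, finrank_bot] at h1
      have h2 := Submodule.finrank_le (LinearMap.range P2)
      rw [Module.finrank_prod, Module.finrank_self] at h2
      omega
    obtain ⟨w, hw, hw0⟩ := Submodule.exists_mem_ne_zero_of_ne_bot this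
    rw [LinearMap.mem_ker] at hw
    exact ⟨w, congrArg Prod.fst hw, congrArg Prod.snd hw, hw0⟩
  have hr0u : ω r₀ u ≠ 0 := by rw [L.swap S, hr0def, ← hn₂, neg_ne_zero]; exact hn₂0
  have hwU : ∀ a : K, w ≠ a • U := by
    intro a ha
    rw [ha, map_smul, hUdef, map_smul, smul_eq_mul, smul_eq_mul, mul_eq_zero, mul_eq_zero] at hwr
    rcases hwr with h | h | h
    · exact hw0 (by rw [ha, h, zero_smul])
    · exact hν0 h
    · exact hr0u h
  have hUw : ω U w = 0 := by rw [hUdef, L.smul_left S, hwu, mul_zero]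
  have hwUz : ω w U = 0 := by rw [L.swap S, hUw, neg_zero]
  have hψw : ψ w = 0 := by rw [hψdef, LinearMap.smul_apply, hwu, smul_zero]
  -- the Galois-like element
  obtain ⟨μ, hμ⟩ := mem_coef.1 hν
  obtain ⟨b, hb, hbx⟩ := ((hR (μ * n₁⁻¹) u₁).congr (D₂ := (Φ.smulRight (μ • u₁)).restrictScalars F) fun x => by
      simp [hΦdef, smul_smul, mul_comm, mul_left_comm, mul_assoc]).conj he
  have hbx' : ∀ x, b x = x + e ((Φ (e.symm x) * μ) • u₁) := fun x => by
    rw [hbx]; simp [smul_smul]
  have hwR : ∀ d : K, ω (e (d • u₁)) w = 0 := by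
    intro d
    obtain ⟨k, hk⟩ := mem_coef_symm.1 (hθm (d - θ d • d₀) (by simp [hθd]))
    rw [sub_smul, smul_assoc, map_sub, LinearEquiv.map_smul, ← hr0def, sub_eq_iff_eq_add] at hk
    rw [hk, L.add_left S, L.smul_left S, hwu, ← algebraMap_smul K, L.smul_left S, hwr, mul_zero, mul_zero, add_zero]
  have hbw : ∀ c : K, b (c • w) = c • w := by
    intro c
    have h0 : ω u₁ (e.symm (c • w)) = 0 := dual_uniq L.τne fun d => by
      rw [L.spec_mul, S.adj, hBsymm, ← L.spec, map_smul, hwR, smul_zero, mul_zero, map_zero]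
    rw [hbx', hΦdef, LinearMap.smul_apply, h0, smul_zero, zero_mul, zero_smul, map_zero, add_zero]
  have hbU : ∀ c : K, b (c • U) = (c * c) • U := by
    intro c
    rw [hbx', hUdef, smul_smul, hΦW, mul_smul (algebraMap F K (ζ (c * ν))) μ u₁, algebraMap_smul, map_smul, hμ,
      ← smul_assoc, ← add_smul, Algebra.smul_def, ← add_mul, hsq, smul_smul]
  have hBB : ∀ x, b (b x) = x := fun x => by
    rw [hbx' (b x), hbx' x, map_add e.symm, e.symm_apply_apply, map_add Φ, Φ.map_smul, hΦu, smul_zero, add_zero,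
      add_assoc, ← two_smul K, h2K, zero_smul, add_zero]
  have hbs : ∀ x, b.symm x = b x := fun x => b.injective (by rw [b.apply_symm_apply, hBB])
  have hψb : ∀ x, ψ (b x) = ψ x * ψ x := fun x => by
    have hf : θ (Φ (e.symm x) * μ) = ζ (ψ x * ν) := by
      have h1 : τ (Φ (e.symm x) * μ * n₁) = τ (ψ x * ν * n₂) := by
        rw [show Φ (e.symm x) * μ * n₁ = μ * ω u₁ (e.symm x) by
            rw [hΦdef, LinearMap.smul_apply, smul_eq_mul]; field_simp,
          show ψ x * ν * n₂ = ν * ω u x by rw [hψx]; ring,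
          L.spec_mul, L.spec_mul, S.adj, S.adj, hBsymm, hμ]
      rw [hθτ, hζτ, hD1, mul_one, mul_one] at h1
      rw [← h1, eq_neg_iff_add_eq_zero, ← two_mul, h2, zero_mul]
    rw [hbx', map_add, hψR, hf, hsq]
  have hwb : ∀ x, ω w (b x) = ω w x := fun x => by
    rw [hbx', map_add, L.swap S (e _) w, hwR, neg_zero, add_zero]
  obtain ⟨q, hqdef⟩ : ∃ q : V →ₗ[K] K, q = m⁻¹ • ω w := ⟨_, rfl⟩
  have hqx : ∀ x, ω w x = m * q x := fun x => by
    rw [hqdef, LinearMap.smul_apply, smul_eq_mul, mul_inv_cancel_left₀ hm0]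
  have hkill : ∀ a c : K, ψ (a • U + c • w) = 0 ∧ q (a • U + c • w) = 0 := fun a c => by
    constructor
    · rw [map_add, map_smul, map_smul, hψw, hUdef, hψc, smul_zero, smul_zero, add_zero]
    · rw [hqdef, LinearMap.smul_apply, map_add, map_smul, map_smul, hwUz, L.self S, smul_zero, smul_zero, add_zero,
        smul_zero]
  have hroot : ∀ (a : K) (v : V) (f : V →ₗ[K] K), (∀ x, ω v x = m * f x) →
      InH H (((a • f).smulRight v).restrictScalars F) := fun a v f hf =>
    (hR (a * m⁻¹) v).congr fun x => by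
      simp [hf, mul_assoc, inv_mul_cancel_left₀ hm0]
  have hA1 := (hroot δ (U + w) (ψ + q) fun x => by
    rw [L.add_left S, hωU, hqx, LinearMap.add_apply, mul_add]).conj hb
  have hA2 := hroot (δ * δ) U ψ hωU
  have hA3 := hroot δ w q hqx
  obtain ⟨D1, hD1x, hD1H⟩ : ∃ D : Module.End F V, (∀ x, D x =
      (δ * δ * (ψ x + q x * q x)) • U + (δ * (ψ x * ψ x + q x)) • w) ∧ InH H D := by
    refine ⟨_, fun x => ?_, hA1⟩
    show b ((δ * (ψ (b.symm x) + q (b.symm x))) • (U + w)) = _
    have hqb : q (b x) = q x := by rw [hqdef, LinearMap.smul_apply, LinearMap.smul_apply, hwb]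
    rw [hbs, hψb, hqb, smul_add, map_add, hbU, hbw]
    congr 2
    linear_combination (δ * δ) * hpow (ψ x) + (δ * δ * ψ x * ψ x * q x) * h2K
  obtain ⟨X2, hX2x, hX2H⟩ : ∃ D : Module.End F V, (∀ x, D x =
      (δ * δ * (q x * q x)) • U + (δ * (ψ x * ψ x)) • w) ∧ InH H D := by
    refine ⟨_, fun x => ?_, (hD1H.add hA2 fun x => ?_).add hA3 fun x => ?_⟩
    · show D1 x + ((δ * δ) * ψ x) • U + (δ * q x) • w = _
      rw [hD1x]
      match_scalars
      · linear_combination (δ * δ * ψ x) * h2K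
      · linear_combination (δ * q x) * h2K
    · show D1 ((δ * δ * ψ x) • U) = 0
      rw [hD1x]
      have := hkill (δ * δ * ψ x) 0
      rw [zero_smul, add_zero] at this
      simp [this.1, this.2]
    · show D1 ((δ * q x) • w) + (δ * δ * ψ ((δ * q x) • w)) • U = 0
      rw [hD1x]
      have := hkill 0 (δ * q x)
      rw [zero_smul, zero_add] at this
      simp [this.1, this.2]
  -- a map sending `w` to `w + U`
  obtain ⟨p₀, hp1, hp2⟩ := exists_sep L S hU hwU
  have hp2' : ω p₀ w = 1 := by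
    rw [L.swap S, hp2]; linear_combination -h2K
  have hpU : ω p₀ U = 0 := by rw [L.swap S, hp1, neg_zero]
  obtain ⟨g₁, hg₁, ⟨hB₁, hk₁⟩, hx₁⟩ := root_good L S hR 1 (U + p₀)
  obtain ⟨g₂, hg₂, ⟨hB₂, hk₂⟩, hx₂⟩ := root_good L S hR 1 U
  obtain ⟨g₃, hg₃, ⟨hB₃, hk₃⟩, hx₃⟩ := root_good L S hR 1 p₀
  set g := g₁ * g₂ * g₃ with hg
  have hgood : Good K B g := ⟨fun x y => by simp [hg, hB₁, hB₂, hB₃], fun k x => by simp [hg, hk₁, hk₂, hk₃]⟩
  have hgU : g U = U := by
    simp [hg, hx₁, hx₂, hx₃, hpU, L.self S, L.add_left S]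
  have hgw : g w = w + U := by
    have : g₃ w = w + p₀ := by simp [hx₃, hp2']
    have h5 : g₂ (w + p₀) = w + p₀ := by simp [hx₂, hUw, hp1]
    show g₁ (g₂ (g₃ w)) = _
    rw [this, h5, hx₁]
    simp [L.add_left S, hUw, hp2', hp1, L.self S]
    rw [add_comm U p₀, ← add_assoc, add_assoc w, ← two_smul K, h2K, zero_smul, add_zero]
  obtain ⟨X3, hX3x, hX3H⟩ : ∃ D : Module.End F V, (∀ x, D x =
      (δ * δ * ((q x + ψ x) * (q x + ψ x))) • U + (δ * (ψ x * ψ x)) • (w + U)) ∧ InH H D := by
    refine ⟨_, fun x => ?_, hX2H.conj (H.mul_mem (H.mul_mem hg₁ hg₂) hg₃)⟩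
    show g (X2 (g.symm x)) = _
    have h7 : ψ (g.symm x) = ψ x := by
      have := L.symm_apply S hgood.1 hgood.2 U x
      rw [hgU, hωU, hωU] at this
      exact mul_left_cancel₀ hm0 this
    have h8 : q (g.symm x) = q x + ψ x := by
      have := L.symm_apply S hgood.1 hgood.2 w x
      rw [hgw, L.add_left S, hqx, hqx, hωU, ← mul_add] at this
      exact mul_left_cancel₀ hm0 this
    rw [hX2x, h7, h8, map_add, hgood.2, hgood.2, hgU, hgw]
  refine ⟨U, 1, hU, one_ne_zero, ((hX3H.add hX2H fun x => ?_).add (hroot 1 U ψ hωU) fun x => ?_).congr fun x => ?_⟩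
  · rw [hX3x, hX2x, (hkill _ _).1, (hkill _ _).2]
    simp
  · show X3 ((1 * ψ x) • U) + X2 ((1 * ψ x) • U) = 0
    rw [hX3x, hX2x]
    have := hkill 1 0
    rw [zero_smul, add_zero, one_smul] at this
    simp [this.1, this.2]
  · show X3 x + X2 x + (1 * ψ x) • U = ((1 : F) • B.flip U) x • U
    rw [hX3x, hX2x, one_smul, show (B.flip U) x = B x U from rfl, ← L.spec, hωU, hm,
      show ν * n₂ * ψ x = ψ x * ν * n₂ by ring, hζτ, hD1, mul_one, ← algebraMap_smul K (ζ (ψ x * ν))]
    have := hsq (ψ x)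
    match_scalars
    · linear_combination (-1 : K) * this + (ψ x * ψ x) * hδ2 + (δ * δ * (q x * q x) + δ * δ * q x * ψ x + (δ + 1) * (ψ x * ψ x) ) * h2K + (ψ x - ψ x ^ 2) * h2K
    · linear_combination (δ * (ψ x * ψ x)) * h2K

end Cfsg.Agent.ExtFieldMax
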