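import Cfsg.Agent.Lib.ExtFieldMax.Tools

/-!
An element moving tensors gives, together with the special linear groups of the two factors,
an element fixing a line of tensors and acting non-scalarly.
-/

set_option autoImplicit false

namespace Cfsg.Agent.TensorMax

open Module Submodule Matrix
open Cfsg.Agent.ExtFieldMax

variable {F : Type*} [Field F] {a b : ℕ}

/-- Tensors as matrices. -/
abbrev Tn (F : Type*) (a b : ℕ) := Matrix (Fin a) (Fin b) F

/-- `c ↦ c ⊗ w` -/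
def pureL (w : Fin b → F) : (Fin a → F) →ₗ[F] Tn F a b where
  toFun c := vecMulVec c w
  map_add' c d := add_vecMulVec c d w
  map_smul' t c := smul_vecMulVec t c w

@[simp]
theorem pureL_apply (w : Fin b → F) (c : Fin a → F) : pureL w c = vecMulVec c w := rfl

/-- `X ↦ (1 ⊗ χ) X` -/
def ctr (χ : Fin b → F) : Tn F a b →ₗ[F] (Fin a → F) where
  toFun X := X *ᵥ χ
  map_add' X Y := add_mulVec X Y χ
  map_smul' t X := smul_mulVec t X χ

@[simp]
theorem ctr_apply (χ : Fin b → F) (X : Tn F a b) : ctr χ X = X *ᵥ χ := rfl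

theorem pure_ctr (c : Fin a → F) (w χ : Fin b → F) : vecMulVec c w *ᵥ χ = (w ⬝ᵥ χ) • c := by
  rw [vecMulVec_mulVec, op_smul_eq_smul]

theorem pureL_injective {w : Fin b → F} (hw : w ≠ 0) : Function.Injective (pureL (a := a) w) := by
  intro c d h
  obtain ⟨j, hj⟩ := Function.ne_iff.1 hw
  funext i
  have := congrFun (congrFun h i) j
  simp only [pureL_apply, vecMulVec_apply] at this
  exact mul_right_cancel₀ hj this

theorem vmz (c : Fin a → F) : vecMulVec c (0 : Fin b → F) = (0 : Tn F a b) := by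
  ext i j; simp [vecMulVec_apply]

theorem exists_ctr_one {w : Fin b → F} (hw : w ≠ 0) : ∃ ξ, w ⬝ᵥ ξ = 1 := by
  obtain ⟨j, hj⟩ := Function.ne_iff.1 hw
  exact ⟨Pi.single j (w j)⁻¹, by rw [dotProduct_single]; exact mul_inv_cancel₀ hj⟩

theorem rows_sum (X : Tn F a b) : X = ∑ i, vecMulVec (Pi.single i 1) (X i) := by
  ext i j
  rw [Matrix.sum_apply, Finset.sum_eq_single i]
  · simp [vecMulVec_apply]
  · intro k _ hk; simp [vecMulVec_apply, Pi.single_eq_of_ne' hk]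
  · simp

/-- Common zeros of three functionals. -/
theorem exists_dot_zero (S : Finset (Fin b → F)) (h : S.card < b) : ∃ χ, χ ≠ 0 ∧ ∀ v ∈ S, v ⬝ᵥ χ = 0 := by
  classical
  have hlt : finrank F (span F (S : Set (Fin b → F))) < b := lt_of_le_of_lt (finrank_span_finset_le_card S) h
  let L : (Fin b → F) →ₗ[F] (S → F) := LinearMap.pi fun v => dotProductBilin F F (v : Fin b → F)
  have h1 := L.finrank_range_add_finrank_ker
  have h2 := Submodule.finrank_le (LinearMap.range L)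
  rw [Module.finrank_fintype_fun_eq_card, Fintype.card_coe] at h2
  rw [Module.finrank_fin_fun] at h1
  obtain ⟨χ, hχ, hχ0⟩ := Submodule.exists_mem_ne_zero_of_ne_bot
    (show LinearMap.ker L ≠ ⊥ from fun e => by rw [e, finrank_bot] at h1; omega)
  exact ⟨χ, hχ0, fun v hv => congrFun (LinearMap.mem_ker.1 hχ) ⟨v, hv⟩⟩

/-- A vector orthogonal to the orthogonal of `w` is a multiple of `w`. -/
theorem mem_span_of_perp {w v : Fin b → F} (hw : w ≠ 0) (h : ∀ χ, w ⬝ᵥ χ = 0 → v ⬝ᵥ χ = 0) :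
    ∃ s : F, v = s • w := by
  obtain ⟨ξ, hξ⟩ := exists_ctr_one hw
  refine ⟨v ⬝ᵥ ξ, ?_⟩
  refine dotProduct_eq _ _ fun χ => ?_
  have := h (χ - (w ⬝ᵥ χ) • ξ) (by rw [dotProduct_sub, dotProduct_smul, hξ, smul_eq_mul, mul_one, sub_self])
  rw [dotProduct_sub, dotProduct_smul, smul_eq_mul, sub_eq_zero] at this
  rw [smul_dotProduct, smul_eq_mul, this, mul_comm]

/-- The lines through `S` go to lines. -/
def IsLine (e : Tn F a b ≃ₗ[F] Tn F a b) (w : Fin b → F) : Prop :=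
  ∃ γ, ∀ c, ∃ c', e (vecMulVec c w) = vecMulVec c' γ

theorem lines_tensor (ha : 1 ≤ a) (e : Tn F a b ≃ₗ[F] Tn F a b) (S : Submodule F (Fin b → F)) (hS : S ≠ ⊥)
    (hline : ∀ w ∈ S, IsLine e w) :
    ∃ (g₁ : (Fin a → F) →ₗ[F] (Fin a → F)) (g₂ : (Fin b → F) →ₗ[F] (Fin b → F)),
      Function.Injective g₁ ∧ (∀ w ∈ S, g₂ w = 0 → w = 0) ∧
        ∀ c, ∀ w ∈ S, e (vecMulVec c w) = vecMulVec (g₁ c) (g₂ w) := by
  classical
  obtain ⟨w₀, hw₀S, hw₀⟩ := Submodule.exists_mem_ne_zero_of_ne_bot hS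
  have hdata : ∀ w ∈ S, w ≠ 0 → ∃ (g : (Fin a → F) →ₗ[F] (Fin a → F)) (γ : Fin b → F),
      Function.Injective g ∧ γ ≠ 0 ∧ ∀ c, e (vecMulVec c w) = vecMulVec (g c) γ := by
    intro w hw hw0
    obtain ⟨γ, hγ⟩ := hline w hw
    have hγ0 : γ ≠ 0 := by
      rintro rfl
      obtain ⟨c', hc'⟩ := hγ (Pi.single ⟨0, ha⟩ 1)
      rw [vmz, LinearEquiv.map_eq_zero_iff] at hc'
      have := pureL_injective hw0 (show pureL w (Pi.single ⟨0, ha⟩ 1) = pureL w 0 by
        rw [pureL_apply, hc', map_zero])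
      simp at this
    obtain ⟨ξ, hξ⟩ := exists_ctr_one hγ0
    refine ⟨ctr ξ ∘ₗ e.toLinearMap ∘ₗ pureL w, γ, ?_, hγ0, fun c => ?_⟩
    · intro c d hcd
      obtain ⟨c', hc'⟩ := hγ c
      obtain ⟨d', hd'⟩ := hγ d
      simp only [LinearMap.comp_apply, LinearEquiv.coe_coe, pureL_apply, ctr_apply, hc', hd', pure_ctr, hξ,
        one_smul] at hcd
      exact pureL_injective hw0 (e.injective (by rw [pureL_apply, pureL_apply, hc', hd', hcd]))
    · obtain ⟨c', hc'⟩ := hγ c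
      simp only [LinearMap.comp_apply, LinearEquiv.coe_coe, pureL_apply, ctr_apply, hc', pure_ctr, hξ, one_smul]
  obtain ⟨g₁, γ₀, hg₁, hγ₀, hw₀e⟩ := hdata w₀ hw₀S hw₀
  obtain ⟨η, hη⟩ : ∃ η : Fin a → F, η ⬝ᵥ g₁ (Pi.single ⟨0, ha⟩ 1) = 1 := by
    obtain ⟨η, hη⟩ := exists_ctr_one (b := a) (w := g₁ (Pi.single ⟨0, ha⟩ 1)) (fun h => by
      have := hg₁ (h.trans g₁.map_zero.symm)
      simp at this)
    exact ⟨η, by rw [dotProduct_comm, hη]⟩
  let g₂ : (Fin b → F) →ₗ[F] (Fin b → F) :=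
    { toFun := fun w => η ᵥ* e (vecMulVec (Pi.single ⟨0, ha⟩ 1) w)
      map_add' := fun w w' => by rw [vecMulVec_add, map_add, vecMul_add]
      map_smul' := fun t w => by rw [vecMulVec_smul, map_smul, vecMul_smul, RingHom.id_apply] }
  have hg₂ : ∀ w γ, e (vecMulVec (Pi.single ⟨0, ha⟩ 1) w) = vecMulVec (g₁ (Pi.single ⟨0, ha⟩ 1)) γ → g₂ w = γ := by
    intro w γ h
    show η ᵥ* e (vecMulVec (Pi.single ⟨0, ha⟩ 1) w) = γ
    rw [h, vecMul_vecMulVec, hη, one_smul]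
  have hmain : ∀ c, ∀ w ∈ S, e (vecMulVec c w) = vecMulVec (g₁ c) (g₂ w) := by
    intro c w hw
    by_cases hpar : ∃ s : F, w = s • w₀
    · obtain ⟨s, rfl⟩ := hpar
      rw [vecMulVec_smul, map_smul, hw₀e, map_smul, hg₂ w₀ γ₀ (hw₀e _), vecMulVec_smul]
    push Not at hpar
    have hw0 : w ≠ 0 := fun h => hpar 0 (by rw [h, zero_smul])
    obtain ⟨g, γ, hg, hγ, hwe⟩ := hdata w hw hw0
    have hnp : ∀ s : F, γ ≠ s • γ₀ := by
      intro s hs
      have hsurj : Function.Surjective g₁ := LinearMap.surjective_of_injective hg₁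
      obtain ⟨d, hd⟩ := hsurj (s • g (Pi.single ⟨0, ha⟩ 1))
      have h1 : e (vecMulVec (Pi.single ⟨0, ha⟩ 1) w) = e (vecMulVec d w₀) := by
        rw [hwe, hw₀e, hd, hs, vecMulVec_smul, smul_vecMulVec]
      have h2 := e.injective h1
      have h3 := congrFun h2 ⟨0, ha⟩
      refine hpar (d ⟨0, ha⟩) (funext fun j => ?_)
      have := congrFun h3 j
      simpa [vecMulVec_apply] using this
    have hsum := hline (w + w₀) (S.add_mem hw hw₀S)
    obtain ⟨δ, hδ⟩ := hsum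
    obtain ⟨ξ₁, hξ1, hξ2⟩ : ∃ ξ, γ₀ ⬝ᵥ ξ = 0 ∧ γ ⬝ᵥ ξ ≠ 0 := by
      by_contra hall
      push Not at hall
      obtain ⟨s, hs⟩ := mem_span_of_perp hγ₀ hall
      exact hnp s hs
    obtain ⟨ξ₂, hξ3, hξ4⟩ : ∃ ξ, γ ⬝ᵥ ξ = 0 ∧ γ₀ ⬝ᵥ ξ ≠ 0 := by
      by_contra hall
      push Not at hall
      obtain ⟨s, hs⟩ := mem_span_of_perp hγ hall
      have hs0 : s ≠ 0 := fun h => hγ₀ (by rw [hs, h, zero_smul])
      exact hnp s⁻¹ (by rw [hs, smul_smul, inv_mul_cancel₀ hs0, one_smul])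
    have key : ∀ d, ∃ d', (γ ⬝ᵥ ξ₁) • g d = (δ ⬝ᵥ ξ₁) • d' ∧ (γ₀ ⬝ᵥ ξ₂) • g₁ d = (δ ⬝ᵥ ξ₂) • d' := by
      intro d
      obtain ⟨d', hd'⟩ := hδ d
      rw [vecMulVec_add, map_add, hwe, hw₀e] at hd'
      refine ⟨d', ?_, ?_⟩
      · have := congrArg (· *ᵥ ξ₁) hd'
        simpa [add_mulVec, pure_ctr, hξ1] using this
      · have := congrArg (· *ᵥ ξ₂) hd'
        simpa [add_mulVec, pure_ctr, hξ3] using this
    have hδ2 : δ ⬝ᵥ ξ₂ ≠ 0 := fun h => by
      obtain ⟨d', -, hd'⟩ := key (Pi.single ⟨0, ha⟩ 1)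
      rw [h, zero_smul, smul_eq_zero] at hd'
      have := hg₁ ((hd'.resolve_left hξ4).trans g₁.map_zero.symm)
      simp at this
    obtain ⟨s, hs⟩ : ∃ s : F, ∀ d, g d = s • g₁ d := by
      refine ⟨(γ ⬝ᵥ ξ₁)⁻¹ * (δ ⬝ᵥ ξ₁) * ((δ ⬝ᵥ ξ₂)⁻¹ * (γ₀ ⬝ᵥ ξ₂)), fun d => ?_⟩
      obtain ⟨d', h1, h2⟩ := key d
      rw [mul_smul, mul_smul, mul_smul, h2, smul_smul (δ ⬝ᵥ ξ₂)⁻¹, inv_mul_cancel₀ hδ2, one_smul, ← h1,
        smul_smul, inv_mul_cancel₀ hξ2, one_smul]
    have hval : g₂ w = s • γ := hg₂ _ _ (by rw [hwe, hs, smul_vecMulVec, vecMulVec_smul])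
    rw [hwe, hs, hval, smul_vecMulVec, vecMulVec_smul]
  refine ⟨g₁, g₂, hg₁, fun w hw h0 => ?_, hmain⟩
  have := hmain (Pi.single ⟨0, ha⟩ 1) w hw
  rw [h0, vmz, LinearEquiv.map_eq_zero_iff] at this
  funext j
  have := congrFun (congrFun this ⟨0, ha⟩) j
  simpa [vecMulVec_apply] using this

/-- The transvection of the second factor. -/
def trW (w χ : Fin b → F) : Module.End F (Tn F a b) := pureL w ∘ₗ ctr χ

theorem trW_apply (w χ : Fin b → F) (X : Tn F a b) : trW w χ X = vecMulVec (X *ᵥ χ) w := rfl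

/-- The coefficients of `w` in the image of the line of `w₁`. -/
def coef (e : Tn F a b ≃ₗ[F] Tn F a b) (w₁ w : Fin b → F) : Submodule F (Fin a → F) :=
  (LinearMap.range (e.toLinearMap ∘ₗ pureL w₁)).comap (pureL w)

theorem mem_coef {e : Tn F a b ≃ₗ[F] Tn F a b} {w₁ w : Fin b → F} {c : Fin a → F} :
    c ∈ coef e w₁ w ↔ ∃ d, e (vecMulVec d w₁) = vecMulVec c w := by
  simp [coef]

theorem mem_coef_symm {e : Tn F a b ≃ₗ[F] Tn F a b} {w₁ w : Fin b → F} {c : Fin a → F} :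
    c ∈ coef e.symm w w₁ ↔ ∃ d, e (vecMulVec c w₁) = vecMulVec d w := by
  rw [mem_coef]
  constructor
  · rintro ⟨d, hd⟩; exact ⟨d, by rw [← hd, e.apply_symm_apply]⟩
  · rintro ⟨d, hd⟩; exact ⟨d, by rw [← hd, e.symm_apply_apply]⟩

theorem finrank_coef_symm {e : Tn F a b ≃ₗ[F] Tn F a b} {w₁ w : Fin b → F} (h₁ : w₁ ≠ 0) (hw : w ≠ 0) :
    finrank F (coef e.symm w w₁) = finrank F (coef e w₁ w) := by
  have i1 : Function.Injective (e.toLinearMap ∘ₗ pureL (a := a) w₁) := e.injective.comp (pureL_injective h₁)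
  have e1 := (Submodule.equivMapOfInjective _ i1 (coef e.symm w w₁)).finrank_eq
  have e2 := (Submodule.equivMapOfInjective _ (pureL_injective (a := a) hw) (coef e w₁ w)).finrank_eq
  rw [e1, e2]
  have : (coef e.symm w w₁).map (e.toLinearMap ∘ₗ pureL w₁) = (coef e w₁ w).map (pureL w) := by
    have hs : ∀ c, c ∈ coef e.symm w w₁ ↔ ∃ d, e (vecMulVec c w₁) = vecMulVec d w := fun c => mem_coef_symm
    ext x
    simp only [Submodule.mem_map, hs]; simp only [mem_coef]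
    constructor
    · rintro ⟨c, ⟨d, hd⟩, rfl⟩; exact ⟨d, ⟨c, hd⟩, hd.symm⟩
    · rintro ⟨d, ⟨c, hc⟩, rfl⟩; exact ⟨c, ⟨d, hc⟩, hc⟩
  rw [this]

/-- A map of the first factor attached to a line, not scalar. -/
def HasN (H : Subgroup (Tn F a b ≃ₗ[F] Tn F a b)) : Prop :=
  ∃ (w : Fin b → F) (N : Tn F a b →ₗ[F] (Fin a → F)), w ≠ 0 ∧ InH H (pureL w ∘ₗ N) ∧
    (∀ c, N (vecMulVec c w) = 0) ∧ ¬ ∃ μ, ∀ X, N X = X *ᵥ μ

/-- An element fixing a line with residual space not a line. -/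
theorem finish (hab : a < b) {H : Subgroup (Tn F a b ≃ₗ[F] Tn F a b)}
    (hT : ∀ w χ, w ⬝ᵥ χ = 0 → InH H (trW w χ)) {e : Tn F a b ≃ₗ[F] Tn F a b}
    {w₁ : Fin b → F} (hnl : ¬ IsLine e w₁) {w χ₁ : Fin b → F} (hw : w ≠ 0)
    (hInB : InH H (e.toLinearMap ∘ₗ trW w₁ χ₁ ∘ₗ e.symm.toLinearMap)) (hχ₁ : χ₁ ≠ 0) (hw₁χ : w₁ ⬝ᵥ χ₁ = 0)
    (hfix : ∀ c, (e.symm (vecMulVec c w)) *ᵥ χ₁ ∈ coef e.symm w w₁) : HasN H := by
  classical
  obtain ⟨B, hBdef⟩ : ∃ B, B = e.toLinearMap ∘ₗ trW w₁ χ₁ ∘ₗ e.symm.toLinearMap := ⟨_, rfl⟩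
  have hBx : ∀ X, B X = e (vecMulVec ((e.symm X) *ᵥ χ₁) w₁) := fun X => by rw [hBdef]; rfl
  rw [← hBdef] at hInB
  obtain ⟨g, hg, hgx⟩ := id hInB
  have hw₁ : w₁ ≠ 0 := fun h => hnl ⟨0, fun c => ⟨0, by rw [h, vmz, map_zero, vmz]⟩⟩
  have hBB : ∀ X, B (B X) = 0 := fun X => by
    rw [hBx, hBx, e.symm_apply_apply, pure_ctr, hw₁χ, zero_smul]
    simp
  -- the residual space is the whole image of the line
  obtain ⟨v₀, hv₀⟩ : ∃ v, v ⬝ᵥ χ₁ = 1 := by
    obtain ⟨v, hv⟩ := exists_ctr_one hχ₁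
    exact ⟨v, by rw [dotProduct_comm, hv]⟩
  have honto : ∀ d, ∃ X, B X = e (vecMulVec d w₁) := fun d => ⟨e (vecMulVec d v₀), by
    rw [hBx, e.symm_apply_apply, pure_ctr, hv₀, one_smul]⟩
  obtain ⟨ξ, hξ⟩ := exists_ctr_one hw
  obtain ⟨β, hβdef⟩ : ∃ β, β = ctr ξ ∘ₗ B ∘ₗ pureL (a := a) w := ⟨_, rfl⟩
  have hBW : ∀ c, B (vecMulVec c w) = vecMulVec (β c) w := by
    intro c
    obtain ⟨d, hd⟩ := mem_coef_symm.1 (hfix c)
    rw [hβdef, hBx, hd]
    simp [hBx, hd, pure_ctr, hξ]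
  have hββ : ∀ c, β (β c) = 0 := fun c => pureL_injective hw (by
    rw [pureL_apply, ← hBW, ← hBW, hBB, map_zero])
  by_contra hno
  have hconj : ∀ χ, w ⬝ᵥ χ = 0 → ∃ μ, ∀ X, (X - B X) *ᵥ χ = X *ᵥ μ - β (X *ᵥ μ) := by
    intro χ hχ
    set N : Tn F a b →ₗ[F] (Fin a → F) :=
      (LinearMap.id + β) ∘ₗ ctr χ ∘ₗ (LinearMap.id - B) with hN
    have hmem : InH H (pureL w ∘ₗ N) := ((hT w χ hχ).conj hg).congr fun X => by
      have hs : g.symm X = X - B X := g.injective (by rw [g.apply_symm_apply, hgx, map_sub, hBB]; abel)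
      show g (trW w χ (g.symm X)) = _
      rw [trW_apply, hs, hgx, hBW, ← add_vecMulVec]
      rfl
    have hkill : ∀ c, N (vecMulVec c w) = 0 := fun c => by
      simp [hN, hBW, sub_mulVec, pure_ctr, hχ]
    obtain ⟨μ, hμ⟩ : ∃ μ, ∀ X, N X = X *ᵥ μ := by
      by_contra h
      exact hno ⟨w, N, hw, hmem, hkill, h⟩
    refine ⟨μ, fun X => ?_⟩
    rw [← hμ X]
    simp only [hN, LinearMap.comp_apply, LinearMap.add_apply, LinearMap.sub_apply, LinearMap.id_coe, id_eq,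
      ctr_apply, map_add, hββ]
    abel
  by_cases hβ0 : ∃ c, β c ≠ 0
  · obtain ⟨c₁, hc₁⟩ := hβ0
    have hBv : ∀ χ, w ⬝ᵥ χ = 0 → ∀ v, (B (vecMulVec c₁ v)) *ᵥ χ = (v ⬝ᵥ χ) • β c₁ := by
      intro χ hχ v
      obtain ⟨μ, hμ⟩ := hconj χ hχ
      by_cases hd : v ⬝ᵥ μ = v ⬝ᵥ χ
      · have := hμ (vecMulVec c₁ v)
        rw [sub_mulVec, pure_ctr, pure_ctr, hd, map_smul, sub_right_inj] at this
        exact this
      exfalso
      set δ := v ⬝ᵥ χ - v ⬝ᵥ μ with hδ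
      have hδ0 : δ ≠ 0 := sub_ne_zero.2 fun h => hd h.symm
      have hM : ∀ c, (B (vecMulVec c v)) *ᵥ χ = δ • c + (v ⬝ᵥ μ) • β c := by
        intro c
        have := hμ (vecMulVec c v)
        rw [sub_mulVec, pure_ctr, pure_ctr, map_smul] at this
        rw [hδ, sub_smul]
        linear_combination (norm := module) -this
      let L : (Fin a → F) →ₗ[F] (Fin a → F) := ctr χ ∘ₗ e.toLinearMap ∘ₗ pureL w₁
      have hsurj : Function.Surjective L := fun y => by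
        refine ⟨(e.symm (vecMulVec (δ⁻¹ • y - ((v ⬝ᵥ μ) * (δ⁻¹ * δ⁻¹)) • β y) v)) *ᵥ χ₁, ?_⟩
        show (e (vecMulVec _ w₁)) *ᵥ χ = y
        rw [← hBx, hM, map_sub, map_smul, map_smul, hββ, smul_zero, sub_zero, smul_sub, smul_smul, smul_smul,
          smul_smul, mul_inv_cancel₀ hδ0, one_smul]
        rw [show δ * (v ⬝ᵥ μ * (δ⁻¹ * δ⁻¹)) = v ⬝ᵥ μ * δ⁻¹ by field_simp, sub_add_cancel]
      have hinj := LinearMap.injective_iff_surjective.2 hsurj
      obtain ⟨d, hd'⟩ := mem_coef_symm.1 (hfix c₁)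
      have h0 : L ((e.symm (vecMulVec c₁ w)) *ᵥ χ₁) = 0 := by
        show (e (vecMulVec _ w₁)) *ᵥ χ = 0
        rw [← hBx, hBW, pure_ctr, hχ, zero_smul]
      have := hinj (h0.trans L.map_zero.symm)
      apply hc₁
      apply pureL_injective hw
      rw [pureL_apply, ← hBW, hBx, this]
      simp
    -- too many independent residual vectors
    let L : (Fin b → F) →ₗ[F] Tn F a b :=
      { toFun := fun v => B (vecMulVec c₁ v)
        map_add' := fun u v => by rw [vecMulVec_add, map_add]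
        map_smul' := fun t v => by rw [vecMulVec_smul, map_smul, RingHom.id_apply] }
    have hinj : Function.Injective L := by
      rw [injective_iff_map_eq_zero]
      intro v hv
      have hperp : ∀ χ, w ⬝ᵥ χ = 0 → v ⬝ᵥ χ = 0 := fun χ hχ => by
        have := hBv χ hχ v
        rw [show B (vecMulVec c₁ v) = 0 from hv, zero_mulVec, eq_comm, smul_eq_zero] at this
        exact this.resolve_right hc₁
      obtain ⟨s, rfl⟩ := mem_span_of_perp hw hperp
      rw [map_smul] at hv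
      change s • B (vecMulVec c₁ w) = 0 at hv
      rw [hBW, smul_eq_zero] at hv
      rcases hv with h | h
      · rw [h, zero_smul]
      · exact absurd (pureL_injective hw (h.trans (pureL w).map_zero.symm)) hc₁
    have hle : LinearMap.range L ≤ LinearMap.range (e.toLinearMap ∘ₗ pureL w₁) := by
      rintro _ ⟨v, rfl⟩
      exact ⟨(e.symm (vecMulVec c₁ v)) *ᵥ χ₁, (hBx _).symm⟩
    have h1 := Submodule.finrank_mono hle
    rw [LinearMap.finrank_range_of_inj hinj, Module.finrank_fin_fun] at h1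
    have h2 := LinearMap.finrank_range_le (e.toLinearMap ∘ₗ pureL (a := a) w₁)
    rw [Module.finrank_fin_fun] at h2
    omega
  push Not at hβ0
  have hγ : ∀ χ, w ⬝ᵥ χ = 0 → ∃ μ, ∀ X, (B X) *ᵥ χ = X *ᵥ μ := by
    intro χ hχ
    obtain ⟨μ, hμ⟩ := hconj χ hχ
    refine ⟨χ - μ, fun X => ?_⟩
    have := hμ X
    rw [hβ0, sub_zero, sub_mulVec] at this
    rw [mulVec_sub, ← this, sub_sub_cancel]
  obtain ⟨χ₂, hχ₂, η, hη, hη0⟩ : ∃ χ, w ⬝ᵥ χ = 0 ∧ ∃ η, (∀ X, (B X) *ᵥ χ = X *ᵥ η) ∧ η ≠ 0 := by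
    by_contra hall
    push Not at hall
    refine hnl ⟨w, fun c => ?_⟩
    obtain ⟨X, hX⟩ := honto c
    rw [← hX]
    have hrow : ∀ i, ∃ s : F, (B X) i = s • w := fun i => mem_span_of_perp hw fun χ hχ => by
      obtain ⟨μ, hμ⟩ := hγ χ hχ
      have h0 := hall χ hχ μ hμ
      have := congrFun (hμ X) i
      rw [h0, mulVec_zero] at this
      exact this
    choose s hs using hrow
    exact ⟨s, Matrix.ext fun i j => by rw [hs i]; simp [vecMulVec_apply]⟩
  obtain ⟨u₀, hu₀⟩ : ∃ v, v ⬝ᵥ η = 1 := by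
    obtain ⟨v, hv⟩ := exists_ctr_one hη0
    exact ⟨v, by rw [dotProduct_comm, hv]⟩
  -- `B` factors through `η`
  have hker : LinearMap.ker B = LinearMap.ker (ctr (a := a) η) := by
    refine Submodule.eq_of_le_of_finrank_le (fun X hX => ?_) ?_
    · rw [LinearMap.mem_ker] at hX ⊢
      rw [ctr_apply, ← hη X, hX, zero_mulVec]
    · have h1 := B.finrank_range_add_finrank_ker
      have h2 := (ctr (a := a) η).finrank_range_add_finrank_ker
      have h3 : LinearMap.range (ctr (a := a) η) = ⊤ := LinearMap.range_eq_top.2 fun y =>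
        ⟨vecMulVec y u₀, by rw [ctr_apply, pure_ctr, hu₀, one_smul]⟩
      rw [h3, finrank_top, Module.finrank_fin_fun] at h2
      have h4 : LinearMap.range B ≤ LinearMap.range (e.toLinearMap ∘ₗ pureL w₁) := by
        rintro _ ⟨X, rfl⟩
        exact ⟨(e.symm X) *ᵥ χ₁, (hBx X).symm⟩
      have h5 := Submodule.finrank_mono h4
      have h6 := LinearMap.finrank_range_le (e.toLinearMap ∘ₗ pureL (a := a) w₁)
      rw [Module.finrank_fin_fun] at h6
      omega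
  have hfac : ∀ X, B X = B (vecMulVec (X *ᵥ η) u₀) := fun X => by
    have : X - vecMulVec (X *ᵥ η) u₀ ∈ LinearMap.ker B := by
      rw [hker, LinearMap.mem_ker, ctr_apply, sub_mulVec, pure_ctr, hu₀, one_smul, sub_self]
    rw [LinearMap.mem_ker, map_sub, sub_eq_zero] at this
    exact this
  obtain ⟨Y, hYdef⟩ : ∃ Y, Y = B ∘ₗ pureL (a := a) u₀ := ⟨_, rfl⟩
  have hY : ∀ c, B (vecMulVec c u₀) = Y c := fun c => by rw [hYdef]; rfl
  have hYctr : ∀ χ, w ⬝ᵥ χ = 0 → ∃ t : F, ∀ c, (Y c) *ᵥ χ = t • c := by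
    intro χ hχ
    obtain ⟨μ, hμ⟩ := hγ χ hχ
    exact ⟨u₀ ⬝ᵥ μ, fun c => by rw [← hY, hμ, pure_ctr]⟩
  have hapos : 0 < a := by
    by_contra h
    refine hnl ⟨w, fun c => ⟨0, ?_⟩⟩
    ext i
    exact absurd i.2 (by omega)
  set i₀ : Fin a := ⟨0, hapos⟩
  set v := Y (Pi.single i₀ 1) i₀ with hv
  have hYv : ∀ χ, w ⬝ᵥ χ = 0 → ∀ c, (Y c) *ᵥ χ = (v ⬝ᵥ χ) • c := by
    intro χ hχ c
    obtain ⟨t, ht⟩ := hYctr χ hχ
    have := congrFun (ht (Pi.single i₀ 1)) i₀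
    rw [Pi.smul_apply, Pi.single_eq_same, smul_eq_mul, mul_one] at this
    rw [ht c, ← this]
    rfl
  obtain ⟨N', hN'def⟩ : ∃ N', N' = ctr ξ ∘ₗ (Y - pureL v) := ⟨_, rfl⟩
  have hYdec : ∀ c, Y c = vecMulVec c v + vecMulVec (N' c) w := by
    intro c
    have hrow : ∀ i, ∃ s : F, (Y c - vecMulVec c v) i = s • w := fun i => mem_span_of_perp hw fun χ hχ => by
      have h1 : (Y c - vecMulVec c v) *ᵥ χ = 0 := by rw [sub_mulVec, pure_ctr, hYv χ hχ, sub_self]
      exact congrFun h1 i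
    choose s hs using hrow
    have hpure : Y c - vecMulVec c v = vecMulVec s w := Matrix.ext fun i j => by
      rw [hs i]; simp [vecMulVec_apply]
    rw [hN'def, LinearMap.comp_apply, LinearMap.sub_apply, pureL_apply, ctr_apply, hpure, pure_ctr, hξ, one_smul,
      ← hpure, add_sub_cancel]
  have hηw : w ⬝ᵥ η = 0 := by
    have h1 := hη (vecMulVec (Pi.single i₀ (1 : F)) w)
    rw [hBW, hβ0, pure_ctr, pure_ctr, smul_zero, eq_comm, smul_eq_zero] at h1
    exact h1.resolve_right (by simp)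
  have hηv : v ⬝ᵥ η = 0 := by
    have h1 : (Y (Pi.single i₀ 1)) *ᵥ η = 0 := by
      rw [← hY, ← hη, hBB, zero_mulVec]
    rw [hYdec, add_mulVec, pure_ctr, pure_ctr, hηw, zero_smul, add_zero, smul_eq_zero] at h1
    exact h1.resolve_right (by simp)
  refine hno ⟨w, N' ∘ₗ ctr η, hw, ?_, fun c => ?_, ?_⟩
  · refine (hInB.mul (hT v (-η) (by rw [dotProduct_neg, hηv, neg_zero]))).congr fun X => ?_
    have h0 : B (vecMulVec (X *ᵥ -η) v) = 0 := by
      rw [hfac, pure_ctr, hηv, zero_smul]; simp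
    simp only [LinearMap.add_apply, Module.End.mul_apply, trW_apply, LinearMap.comp_apply, pureL_apply, ctr_apply,
      h0, add_zero]
    rw [hfac X, hY, hYdec, mulVec_neg, neg_vecMulVec]
    abel
  · simp [pure_ctr, hηw]
  · rintro ⟨μ, hμ⟩
    refine hnl ⟨v + (u₀ ⬝ᵥ μ) • w, fun d => ?_⟩
    obtain ⟨X, hX⟩ := honto d
    rw [← hX, hfac, hY, hYdec]
    have h2 : N' (X *ᵥ η) = (u₀ ⬝ᵥ μ) • (X *ᵥ η) := by
      have := hμ (vecMulVec (X *ᵥ η) u₀)
      simpa [pure_ctr, hu₀] using this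
    exact ⟨X *ᵥ η, by rw [h2, smul_vecMulVec, vecMulVec_add, vecMulVec_smul]⟩

/-- Either finish or a configuration with larger intersection. -/
theorem step (hab : a < b) {H : Subgroup (Tn F a b ≃ₗ[F] Tn F a b)}
    (hT : ∀ w χ, w ⬝ᵥ χ = 0 → InH H (trW w χ)) {e : Tn F a b ≃ₗ[F] Tn F a b} (he : e ∈ H)
    {w₁ : Fin b → F} (hnl : ¬ IsLine e w₁) {w χ : Fin b → F} (hw : w ≠ 0) (hχ : χ ≠ 0) (hw₁χ : w₁ ⬝ᵥ χ = 0)
    {c₀ : Fin a → F} (hc₀ : (e.symm (vecMulVec c₀ w)) *ᵥ χ ∈ coef e.symm w w₁) :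
    HasN H ∨ ∃ e' ∈ H, finrank F (coef e' w w) < a ∧ c₀ ∈ coef e'.symm w w ∧
      ∀ c ∈ coef e w₁ w, c ∈ coef e'.symm w w := by
  have hInB := (hT w₁ χ hw₁χ).conj he
  by_cases hfix : ∀ c, (e.symm (vecMulVec c w)) *ᵥ χ ∈ coef e.symm w w₁
  · exact Or.inl (finish hab hT hnl hw hInB hχ hw₁χ hfix)
  push Not at hfix
  obtain ⟨c₁, hc₁⟩ := hfix
  obtain ⟨g, hg, hgx⟩ := hInB
  have hgw : ∀ c, g (vecMulVec c w) = vecMulVec c w + e (vecMulVec ((e.symm (vecMulVec c w)) *ᵥ χ) w₁) :=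
    fun c => by rw [hgx]; rfl
  have hmem : ∀ c, (e.symm (vecMulVec c w)) *ᵥ χ ∈ coef e.symm w w₁ → c ∈ coef g.symm w w := by
    intro c hc
    obtain ⟨d, hd⟩ := mem_coef_symm.1 hc
    exact mem_coef_symm.2 ⟨c + d, by rw [hgw, hd, add_vecMulVec]⟩
  refine Or.inr ⟨g, hg, ?_, hmem _ hc₀, fun c hc => hmem c ?_⟩
  · refine lt_of_le_of_ne ((Submodule.finrank_le _).trans_eq (Module.finrank_fin_fun F)) fun heq => hc₁ ?_
    have htop : coef g.symm w w = ⊤ := Submodule.eq_top_of_finrank_eq (by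
      rw [finrank_coef_symm hw hw, heq, Module.finrank_fin_fun])
    have hmem1 : c₁ ∈ coef g.symm w w := by rw [htop]; exact Submodule.mem_top
    obtain ⟨d, hd⟩ := mem_coef_symm.1 hmem1
    rw [hgw] at hd
    exact mem_coef_symm.2 ⟨d - c₁, by rw [sub_vecMulVec, ← hd]; abel⟩
  · obtain ⟨d, hd⟩ := mem_coef.1 hc
    rw [← hd, e.symm_apply_apply, pure_ctr, hw₁χ, zero_smul]
    exact Submodule.zero_mem _

theorem hasN_of_not_tensor (ha : 2 ≤ a) (hab : a < b) {H : Subgroup (Tn F a b ≃ₗ[F] Tn F a b)}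
    (hT : ∀ w χ, w ⬝ᵥ χ = 0 → InH H (trW w χ)) {e : Tn F a b ≃ₗ[F] Tn F a b} (he : e ∈ H)
    (hne : ¬ ∃ (g₁ : (Fin a → F) →ₗ[F] (Fin a → F)) (g₂ : (Fin b → F) →ₗ[F] (Fin b → F)),
      ∀ c w, e (vecMulVec c w) = vecMulVec (g₁ c) (g₂ w)) : HasN H := by
  classical
  -- the first configuration
  set i₀ : Fin a := ⟨0, by omega⟩
  set w₀ : Fin b → F := Pi.single ⟨0, by omega⟩ 1
  have hw₀ : w₀ ≠ 0 := by simp [w₀]
  obtain ⟨y, hy⟩ : ∃ y, y = e.symm (vecMulVec (Pi.single i₀ 1) w₀) := ⟨_, rfl⟩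
  obtain ⟨χ, w₁, hχ, hyχ, hw₁χ, hnl⟩ : ∃ χ w₁, χ ≠ 0 ∧ y *ᵥ χ = 0 ∧ w₁ ⬝ᵥ χ = 0 ∧ ¬ IsLine e w₁ := by
    by_contra hall
    push Not at hall
    obtain ⟨χ, hχ, hχy⟩ := exists_dot_zero (F := F) (Finset.univ.image fun i => y i)
      (lt_of_le_of_lt (Finset.card_image_le.trans_eq (by simp)) hab)
    have hyχ : y *ᵥ χ = 0 := funext fun i => hχy _ (Finset.mem_image_of_mem _ (Finset.mem_univ i))
    let S : Submodule F (Fin b → F) :=
      { carrier := {v | v ⬝ᵥ χ = 0}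
        add_mem' := fun {u v} hu hv => by simp [Set.mem_setOf_eq, add_dotProduct] at *; simp [hu, hv]
        zero_mem' := by simp
        smul_mem' := fun t v hv => by
          show (t • v) ⬝ᵥ χ = 0
          rw [smul_dotProduct, show v ⬝ᵥ χ = 0 from hv, smul_zero] }
    have hS : S ≠ ⊥ := by
      intro h
      obtain ⟨u, hu, huz⟩ := exists_dot_zero (F := F) {χ} (by simp; omega)
      have : u ∈ S := by show u ⬝ᵥ χ = 0; rw [dotProduct_comm]; exact huz χ (by simp)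
      rw [h, Submodule.mem_bot] at this
      exact hu this
    obtain ⟨g₁, g₂, hg₁, hg₂, hg⟩ := lines_tensor (by omega) e S hS fun v hv => hall χ v hχ hyχ hv
    have hey : e y = ∑ i, vecMulVec (g₁ (Pi.single i 1)) (g₂ (y i)) := by
      conv_lhs => rw [rows_sum y, map_sum]
      exact Finset.sum_congr rfl fun i _ => hg _ _ (congrFun hyχ i)
    rw [hy, e.apply_symm_apply, ← hy] at hey
    obtain ⟨p, hp⟩ := LinearMap.surjective_of_injective hg₁ (Pi.single i₀ 1)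
    have hrows : ∀ i, g₂ (y i) = p i • w₀ := by
      intro i
      funext j
      have h1 : (fun k => g₂ (y k) j) = fun k => p k * w₀ j := by
        apply hg₁
        calc g₁ (fun k => g₂ (y k) j) = g₁ (∑ k, g₂ (y k) j • (Pi.single k 1 : Fin a → F)) :=
              congrArg g₁ (pi_eq_sum_univ' fun k => g₂ (y k) j)
          _ = fun r => (vecMulVec (Pi.single i₀ 1) w₀ : Tn F a b) r j := by
              funext r
              rw [hey, Matrix.sum_apply, map_sum, Finset.sum_apply]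
              refine Finset.sum_congr rfl fun k _ => ?_
              simp [vecMulVec_apply, mul_comm]
          _ = g₁ (fun k => p k * w₀ j) := by
              rw [show (fun k => p k * w₀ j) = w₀ j • p from funext fun k => mul_comm _ _, map_smul, hp]
              funext r
              simp [vecMulVec_apply, mul_comm]
      exact congrFun h1 i
    obtain ⟨k, hk⟩ : ∃ k, p k ≠ 0 := by
      by_contra h
      push Not at h
      rw [show p = 0 from funext h, map_zero] at hp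
      exact absurd (congrFun hp i₀) (by simp)
    set w' := (p k)⁻¹ • y k with hw'
    have hypure : ∀ i, y i = p i • w' := by
      intro i
      have hmem : y i - p i • w' ∈ S := S.sub_mem (congrFun hyχ i) (S.smul_mem _ (S.smul_mem _ (congrFun hyχ k)))
      refine sub_eq_zero.1 (hg₂ _ hmem ?_)
      rw [hw', map_sub, map_smul, map_smul, hrows, hrows, smul_smul, smul_smul, mul_assoc, inv_mul_cancel₀ hk,
        mul_one, sub_self]
    obtain ⟨g₁', g₂', -, -, hg'⟩ := lines_tensor (a := a) (b := b) (by omega) e ⊤ (by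
      intro h
      have : w₀ ∈ (⊤ : Submodule F (Fin b → F)) := trivial
      rw [h, Submodule.mem_bot] at this
      exact hw₀ this) fun v _ => by
      obtain ⟨χ', hχ', hz⟩ := exists_dot_zero (F := F) {w', v} (lt_of_le_of_lt Finset.card_le_two (by omega))
      refine hall χ' v hχ' (funext fun i => ?_) (hz v (by simp))
      show y i ⬝ᵥ χ' = 0
      rw [hypure, smul_dotProduct, hz w' (by simp), smul_zero]
    exact hne ⟨g₁', g₂', fun c v => hg' c v trivial⟩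
  have hc₀ : (e.symm (vecMulVec (Pi.single i₀ 1) w₀)) *ᵥ χ ∈ coef e.symm w₀ w₁ := by
    rw [← hy, hyχ]; exact Submodule.zero_mem _
  rcases step hab hT he hnl hw₀ hχ hw₁χ hc₀ with h | ⟨e₁, he₁, hlt₁, hmem₁, -⟩
  · exact h
  -- improve
  suffices key : ∀ k, ∀ e ∈ H, ∀ w₁ w : Fin b → F, w₁ ≠ 0 → w ≠ 0 → 1 ≤ finrank F (coef e w₁ w) →
      finrank F (coef e w₁ w) < a → a ≤ finrank F (coef e w₁ w) + k → HasN H by
    refine key a e₁ he₁ w₀ w₀ hw₀ hw₀ ?_ hlt₁ (by omega)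
    rw [← finrank_coef_symm hw₀ hw₀]
    refine Submodule.one_le_finrank_iff.2 fun h => ?_
    rw [h, Submodule.mem_bot] at hmem₁
    simp at hmem₁
  intro k
  induction k with
  | zero => intro e he w₁ w _ _ _ hlt hle; omega
  | succ k ih =>
    intro e he w₁ w h₁ hw hlo hlt hle
    obtain ⟨c₀, hc₀⟩ : ∃ c, c ∉ coef e w₁ w := by
      by_contra hall
      push Not at hall
      rw [show coef e w₁ w = ⊤ from eq_top_iff.2 fun x _ => hall x, finrank_top, Module.finrank_fin_fun] at hlt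
      omega
    have hnl : ¬ IsLine e w₁ := by
      rintro ⟨γ, hγ⟩
      obtain ⟨c, hc, hc0⟩ := Submodule.exists_mem_ne_zero_of_ne_bot (Submodule.one_le_finrank_iff.1 hlo)
      obtain ⟨d, hd⟩ := mem_coef.1 hc
      obtain ⟨d', hd'⟩ := hγ d
      rw [hd] at hd'
      obtain ⟨i, hi⟩ := Function.ne_iff.1 hc0
      have h3 : c i • w = d' i • γ := by
        funext j
        have := congrFun (congrFun hd' i) j
        simpa [vecMulVec_apply] using this
      have hd0 : d' i ≠ 0 := fun h => by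
        rw [h, zero_smul, smul_eq_zero] at h3
        exact h3.elim hi hw
      have hγw : γ = ((d' i)⁻¹ * c i) • w := by
        rw [mul_smul, h3, smul_smul, inv_mul_cancel₀ hd0, one_smul]
      have hall : coef e.symm w w₁ = ⊤ := eq_top_iff.2 fun x _ => by
        obtain ⟨x', hx'⟩ := hγ x
        exact mem_coef_symm.2 ⟨((d' i)⁻¹ * c i) • x', by rw [hx', hγw, vecMulVec_smul, smul_vecMulVec]⟩
      rw [← finrank_coef_symm h₁ hw, hall, finrank_top, Module.finrank_fin_fun] at hlt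
      exact lt_irrefl _ hlt
    set Z := coef e.symm w w₁ with hZ
    let L : (Fin b → F) →ₗ[F] ((Fin a → F) ⧸ Z) × F :=
      (Z.mkQ ∘ₗ (Matrix.mulVecLin (e.symm (vecMulVec c₀ w)))).prod (dotProductBilin F F w₁)
    obtain ⟨χ, hχL, hχ⟩ := Submodule.exists_mem_ne_zero_of_ne_bot (show LinearMap.ker L ≠ ⊥ from fun h => by
      have h1 := L.finrank_range_add_finrank_ker
      rw [h, finrank_bot, Module.finrank_fin_fun] at h1
      have h2 := Submodule.finrank_le (LinearMap.range L)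
      rw [Module.finrank_prod, Module.finrank_self] at h2
      have h3 := Submodule.finrank_quotient_add_finrank Z
      have h4 : finrank F Z = finrank F (coef e w₁ w) := finrank_coef_symm h₁ hw
      rw [Module.finrank_fin_fun] at h3
      omega)
    rw [LinearMap.mem_ker] at hχL
    have hw₁χ : w₁ ⬝ᵥ χ = 0 := congrArg Prod.snd hχL
    have hc0χ : (e.symm (vecMulVec c₀ w)) *ᵥ χ ∈ Z := by
      have := congrArg Prod.fst hχL
      exact (Submodule.Quotient.mk_eq_zero Z).1 this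
    rcases step hab hT he hnl hw hχ hw₁χ hc0χ with h | ⟨e', he', hlt', hc', hsub⟩
    · exact h
    have hgt : finrank F (coef e w₁ w) < finrank F (coef e' w w) := by
      rw [← finrank_coef_symm hw hw (e := e')]
      exact Submodule.finrank_lt_finrank_of_lt (lt_of_le_of_ne hsub fun h => hc₀ (by rw [h]; exact hc'))
    exact ih e' he' w w hw hw (by omega) hlt' (by omega)

end Cfsg.Agent.TensorMax
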