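import Cfsg.Agent.Lib.ExtFieldMax.TensorCore

/-!
From a non-scalar map of a line of tensors to all elementary transvections.
-/

set_option autoImplicit false

namespace Cfsg.Agent.TensorMax

open Module Submodule Matrix
open Cfsg.Agent.ExtFieldMax

variable {F : Type*} [Field F] {a b : ℕ}

section Move

variable {n : ℕ}

theorem exists_sep {w w' : Fin n → F} (hw : w ≠ 0) (h : ∀ s : F, w' ≠ s • w) :
    ∃ ψ, w ⬝ᵥ ψ = 1 ∧ w' ⬝ᵥ ψ = 1 := by
  obtain ⟨χ, h1, h2⟩ : ∃ χ, w ⬝ᵥ χ = 0 ∧ w' ⬝ᵥ χ ≠ 0 := by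
    by_contra hall
    push Not at hall
    obtain ⟨s, hs⟩ := mem_span_of_perp hw hall
    exact h s hs
  obtain ⟨ξ, hξ⟩ := exists_ctr_one hw
  refine ⟨ξ + ((1 - w' ⬝ᵥ ξ) / (w' ⬝ᵥ χ)) • χ, ?_, ?_⟩
  · rw [dotProduct_add, dotProduct_smul, hξ, h1, smul_zero, add_zero]
  · rw [dotProduct_add, dotProduct_smul, smul_eq_mul, div_mul_cancel₀ _ h2, add_sub_cancel]

theorem det_trv (u φ : Fin n → F) (h : φ ⬝ᵥ u = 0) :
    (1 + vecMulVec u φ : Matrix (Fin n) (Fin n) F).det = 1 := by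
  rw [Matrix.vecMulVec_eq Unit, Matrix.det_one_add_replicateCol_mul_replicateRow, h, add_zero]

theorem trv_act (u φ x : Fin n → F) :
    (1 + vecMulVec u φ : Matrix (Fin n) (Fin n) F) *ᵥ x = x + (φ ⬝ᵥ x) • u := by
  rw [add_mulVec, one_mulVec, vecMulVec_mulVec, op_smul_eq_smul]

theorem exists_indep_perp (hn : 3 ≤ n) {w χ : Fin n → F} (hχ : χ ≠ 0) :
    ∃ η, η ≠ 0 ∧ w ⬝ᵥ η = 0 ∧ (∀ s : F, η ≠ s • χ) := by
  classical
  obtain ⟨z, hz⟩ := exists_ctr_one hχ
  obtain ⟨η, hη, hz0⟩ := exists_dot_zero (F := F) {w, z} (lt_of_le_of_lt Finset.card_le_two (by omega))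
  refine ⟨η, hη, hz0 w (by simp), fun s hs => ?_⟩
  have := hz0 z (by simp)
  rw [hs, dotProduct_smul, dotProduct_comm, hz, smul_eq_mul, mul_one] at this
  exact hη (by rw [hs, this, zero_smul])

/-- A relation on perpendicular pairs preserved by the special linear group holds for all pairs. -/
theorem pairs_all (hn : 2 ≤ n) (Q : (Fin n → F) → (Fin n → F) → Prop)
    (hQ : ∀ (w χ w' χ' : Fin n → F) (B : Matrix (Fin n) (Fin n) F), B.det = 1 → B *ᵥ w = w' → χ' ᵥ* B = χ →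
      Q w χ → Q w' χ')
    (hsm : 3 ≤ n ∨ ∀ (t : F) (w χ : Fin n → F), Q w χ → Q w (t • χ))
    {w χ : Fin n → F} (hw : w ≠ 0) (hχ : χ ≠ 0) (hwχ : w ⬝ᵥ χ = 0) (h : Q w χ)
    {w' χ' : Fin n → F} (hw' : w' ≠ 0) (hχ' : χ' ≠ 0) (hwχ' : w' ⬝ᵥ χ' = 0) : Q w' χ' := by
  classical
  -- first move the vector
  have hvec1 : ∀ x y z : Fin n → F, x ≠ 0 → z ≠ 0 → x ⬝ᵥ z = 0 → (∀ s : F, y ≠ s • x) → Q x z →
      ∃ z', z' ≠ 0 ∧ y ⬝ᵥ z' = 0 ∧ Q y z' := by
    intro x y z hx hz hxz hy hq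
    obtain ⟨ψ, h1, h2⟩ := exists_sep hx hy
    set B : Matrix (Fin n) (Fin n) F := 1 + vecMulVec (y - x) ψ
    have hdet : B.det = 1 := det_trv _ _ (by rw [dotProduct_sub, dotProduct_comm, h2, dotProduct_comm, h1, sub_self])
    have hBx : B *ᵥ x = y := by
      rw [trv_act, dotProduct_comm, h1, one_smul, add_sub_cancel]
    have hinv : B⁻¹ * B = 1 := Matrix.nonsing_inv_mul B (by rw [hdet]; exact isUnit_one)
    have hz' : (z ᵥ* B⁻¹) ᵥ* B = z := by rw [vecMul_vecMul, hinv, vecMul_one]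
    refine ⟨z ᵥ* B⁻¹, fun h0 => hz (by rw [← hz', h0, zero_vecMul]), ?_, hQ x z y _ B hdet hBx hz' hq⟩
    rw [← hBx, dotProduct_comm, dotProduct_mulVec, hz', dotProduct_comm, hxz]
  obtain ⟨χ₁, hχ₁, hwχ₁, hq₁⟩ : ∃ z', z' ≠ 0 ∧ w' ⬝ᵥ z' = 0 ∧ Q w' z' := by
    by_cases hd : ∀ s : F, w' ≠ s • w
    · exact hvec1 w w' χ hw hχ hwχ hd h
    push Not at hd
    obtain ⟨s, rfl⟩ := hd
    obtain ⟨m, hm⟩ : ∃ m : Fin n → F, ∀ t : F, m ≠ t • w := by
      obtain ⟨η, hη, hη0⟩ := exists_dot_zero (F := F) {w} (by simp; omega)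
      obtain ⟨m, hm⟩ := exists_ctr_one hη
      refine ⟨m, fun t ht => ?_⟩
      have : m ⬝ᵥ η = 0 := by rw [ht, smul_dotProduct, hη0 w (by simp), smul_zero]
      rw [dotProduct_comm, hm] at this
      exact one_ne_zero this
    obtain ⟨z, hz, hmz, hqz⟩ := hvec1 w m χ hw hχ hwχ hm h
    have hm0 : m ≠ 0 := fun e => hm 0 (by rw [e, zero_smul])
    refine hvec1 m (s • w) z hm0 hz hmz (fun t ht => ?_) hqz
    by_cases ht0 : t = 0
    · exact hw' (by rw [ht, ht0, zero_smul])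
    · exact hm (t⁻¹ * s) (by rw [mul_smul, ht, smul_smul, inv_mul_cancel₀ ht0, one_smul])
  -- then the functional
  have hdual1 : ∀ z z' : Fin n → F, z ≠ 0 → w' ⬝ᵥ z = 0 → w' ⬝ᵥ z' = 0 → (∀ s : F, z' ≠ s • z) → Q w' z →
      Q w' z' := by
    intro z z' hz hwz hwz' hind hq
    obtain ⟨x, h1, h2⟩ := exists_sep hz hind
    refine hQ w' z w' z' (1 + vecMulVec x (z - z')) (det_trv _ _ ?_) ?_ ?_ hq
    · rw [sub_dotProduct, h1, h2, sub_self]
    · rw [trv_act, dotProduct_comm, dotProduct_sub, hwz, hwz', sub_self, zero_smul, add_zero]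
    · rw [vecMul_add, vecMul_one, vecMul_vecMulVec, h2, one_smul, add_sub_cancel]
  by_cases hd : ∀ s : F, χ' ≠ s • χ₁
  · exact hdual1 χ₁ χ' hχ₁ hwχ₁ hwχ' hd hq₁
  push Not at hd
  obtain ⟨s, rfl⟩ := hd
  rcases hsm with h3 | hsm
  · obtain ⟨η, hη, hwη, hind⟩ := exists_indep_perp h3 (w := w') hχ₁
    refine hdual1 η (s • χ₁) hη hwη hwχ' (fun t ht => ?_) (hdual1 χ₁ η hχ₁ hwχ₁ hwη hind hq₁)
    by_cases ht0 : t = 0
    · exact hχ' (by rw [ht, ht0, zero_smul])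
    · exact hind (t⁻¹ * s) (by rw [mul_smul, ht, smul_smul, inv_mul_cancel₀ ht0, one_smul])
  · exact hsm s _ _ hq₁

end Move

/-- `X ↦ M (X χ) ⊗ w` -/
def lineEl (w χ : Fin b → F) (M : Module.End F (Fin a → F)) : Module.End F (Tn F a b) :=
  pureL w ∘ₗ M ∘ₗ ctr χ

theorem lineEl_apply (w χ : Fin b → F) (M : Module.End F (Fin a → F)) (X : Tn F a b) :
    lineEl w χ M X = vecMulVec (M (X *ᵥ χ)) w := rfl

theorem lineEl_lineEl {w χ : Fin b → F} (h : w ⬝ᵥ χ = 0) (M M' : Module.End F (Fin a → F)) (X : Tn F a b) :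
    lineEl w χ M (lineEl w χ M' X) = 0 := by
  rw [lineEl_apply, lineEl_apply, pure_ctr, h, zero_smul, map_zero, zero_vecMulVec]

/-- `c ↦ (φ c) u` -/
def rk1 (u φ : Fin a → F) : Module.End F (Fin a → F) :=
  ((dotProductBilin F F φ : (Fin a → F) →ₗ[F] F)).smulRight u

@[simp]
theorem rk1_apply (u φ c : Fin a → F) : rk1 u φ c = (φ ⬝ᵥ c) • u := rfl

/-- An elementary transformation. -/
def el (p q : Fin a × Fin b) (t : F) : Module.End F (Tn F a b) :=
  (t • (Matrix.entryLinearMap F F q.1 q.2)).smulRight (Matrix.single p.1 p.2 (1 : F))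

theorem el_apply (p q : Fin a × Fin b) (t : F) (X : Tn F a b) :
    el p q t X = (t * X q.1 q.2) • Matrix.single p.1 p.2 (1 : F) := rfl

theorem el_el_zero {p q p' q' : Fin a × Fin b} (h : p' ≠ q) (t t' : F) (X : Tn F a b) :
    el p q t (el p' q' t' X) = 0 := by
  have h0 : ∀ r : F, Matrix.single p'.1 p'.2 r q.1 q.2 = 0 := fun r =>
    Matrix.single_apply_of_ne _ _ _ _ _ fun e => h (Prod.ext e.1 e.2)
  simp [el_apply, h0]

variable {H : Subgroup (Tn F a b ≃ₗ[F] Tn F a b)}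

/-- The maps of the first factor occurring for every perpendicular pair. -/
def Occurs (H : Subgroup (Tn F a b ≃ₗ[F] Tn F a b)) (M : Module.End F (Fin a → F)) : Prop :=
  ∀ w χ, w ⬝ᵥ χ = 0 → InH H (lineEl w χ M)

theorem Occurs.add {M M' : Module.End F (Fin a → F)} (h : Occurs H M) (h' : Occurs H M') : Occurs H (M + M') :=
  fun w χ hp => ((h w χ hp).add (h' w χ hp) fun X => lineEl_lineEl hp M M' X).congr fun X => by
    simp [lineEl_apply, add_vecMulVec]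

theorem Occurs.smul {M : Module.End F (Fin a → F)} (h : Occurs H M) (t : F) : Occurs H (t • M) :=
  fun w χ hp => (h w (t • χ) (by rw [dotProduct_smul, hp, smul_zero])).congr fun X => by
    simp [lineEl_apply, mulVec_smul]

theorem Occurs.sub {M M' : Module.End F (Fin a → F)} (h : Occurs H M) (h' : Occurs H M') : Occurs H (M - M') := by
  have := h.add (h'.smul (-1 : F))
  rwa [show M + (-1 : F) • M' = M - M' from LinearMap.ext fun c => by simp [sub_eq_add_neg]] at this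

section Gen

variable (hG : ∀ (A : Matrix (Fin a) (Fin a) F) (B : Matrix (Fin b) (Fin b) F), A.det = 1 → B.det = 1 →
  ∃ e ∈ H, ∀ X, e X = A * X * Bᵀ)

include hG

theorem conj_lineEl {A : Matrix (Fin a) (Fin a) F} {B : Matrix (Fin b) (Fin b) F} (hA : A.det = 1) (hB : B.det = 1)
    {w χ w' χ' : Fin b → F} {M M' : Module.End F (Fin a → F)} (hw : B *ᵥ w = w') (hχ : χ' ᵥ* B = χ)
    (hM : ∀ c, M' (A *ᵥ c) = A *ᵥ M c) (h : InH H (lineEl w χ M)) : InH H (lineEl w' χ' M') := by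
  obtain ⟨g, hg, hgx⟩ := hG A B hA hB
  refine (h.conj hg).congr fun X => ?_
  obtain ⟨Y, rfl⟩ := g.surjective X
  show g (lineEl w χ M (g.symm (g Y))) = _
  rw [g.symm_apply_apply, hgx, hgx, lineEl_apply, lineEl_apply, mul_vecMulVec, vecMulVec_mul, vecMul_transpose, hw,
    ← mulVec_mulVec, mulVec_transpose, hχ, ← mulVec_mulVec, hM]

theorem inH_trW : ∀ w χ : Fin b → F, w ⬝ᵥ χ = 0 → InH H (trW (a := a) w χ) := by
  intro w χ h
  obtain ⟨g, hg, hgx⟩ := hG 1 (1 + vecMulVec w χ) det_one (det_trv w χ (by rw [dotProduct_comm, h]))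
  refine ⟨g, hg, fun X => ?_⟩
  rw [hgx, Matrix.one_mul, transpose_add, transpose_one, transpose_vecMulVec, Matrix.mul_add, Matrix.mul_one,
    mul_vecMulVec, trW_apply]

theorem occurs_of_one (hb : 3 ≤ b) {w χ : Fin b → F} (hw : w ≠ 0) (hχ : χ ≠ 0) (hp : w ⬝ᵥ χ = 0)
    {M : Module.End F (Fin a → F)} (h : InH H (lineEl w χ M)) : Occurs H M := by
  intro w' χ' hp'
  by_cases hw' : w' = 0
  · exact InH.zero.congr fun X => by subst hw'; simp [lineEl_apply, vmz]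
  by_cases hχ' : χ' = 0
  · exact InH.zero.congr fun X => by subst hχ'; simp [lineEl_apply]
  exact pairs_all (by omega) (fun w χ => InH H (lineEl w χ M))
    (fun w χ w' χ' B hB h1 h2 hq => conj_lineEl hG det_one hB h1 h2 (fun c => by simp) hq)
    (Or.inl hb) hw hχ hp h hw' hχ' hp'

theorem Occurs.conj {M M' : Module.End F (Fin a → F)} {A : Matrix (Fin a) (Fin a) F} (hA : A.det = 1)
    (hM : ∀ c, M' (A *ᵥ c) = A *ᵥ M c) (h : Occurs H M) : Occurs H M' :=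
  fun w χ hp => conj_lineEl hG hA det_one (one_mulVec w) (vecMul_one χ) hM (h w χ hp)

theorem occurs_rk1 (ha : 2 ≤ a) {u φ : Fin a → F} (hu : u ≠ 0) (hφ : φ ≠ 0) (huφ : u ⬝ᵥ φ = 0)
    (h : Occurs H (rk1 u φ)) (u' φ' : Fin a → F) (h' : u' ⬝ᵥ φ' = 0) : Occurs H (rk1 u' φ') := by
  have hz : Occurs H (0 : Module.End F (Fin a → F)) := fun w χ _ => InH.zero.congr fun X => by simp [lineEl_apply]
  by_cases hu' : u' = 0
  · subst hu'
    rwa [show rk1 (0 : Fin a → F) φ' = 0 from LinearMap.ext fun c => by simp]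
  by_cases hφ' : φ' = 0
  · subst hφ'
    rwa [show rk1 u' (0 : Fin a → F) = 0 from LinearMap.ext fun c => by simp]
  refine pairs_all ha (fun u φ => Occurs H (rk1 u φ)) (fun u φ u' φ' A hA h1 h2 hq => hq.conj hG hA fun c => ?_)
    (Or.inr fun t u φ hq => ?_) hu hφ huφ h hu' hφ' h'
  · rw [rk1_apply, rk1_apply, mulVec_smul, h1, dotProduct_mulVec, h2]
  · rw [show rk1 u (t • φ) = t • rk1 u φ from LinearMap.ext fun c => by simp [smul_smul]]
    exact hq.smul t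

/-- A rank one map of trace zero occurs. -/
theorem exists_rk1 (ha : 2 ≤ a) (hq : a = 2 → ∃ t : F, t ≠ 0 ∧ t ≠ 1) {M : Module.End F (Fin a → F)}
    (hM : Occurs H M) {u : Fin a → F} (hu : u ≠ 0) (hMu : ∀ s : F, M u ≠ s • u) :
    ∃ φ, φ ≠ 0 ∧ u ⬝ᵥ φ = 0 ∧ Occurs H (rk1 u φ) := by
  classical
  obtain ⟨δ, hδdef⟩ : ∃ δ : (Fin a → F) → Module.End F (Fin a → F),
      δ = fun φ => rk1 u φ ∘ₗ M - M ∘ₗ rk1 u φ - rk1 u φ ∘ₗ M ∘ₗ rk1 u φ := ⟨_, rfl⟩
  have hδ : ∀ φ, φ ⬝ᵥ u = 0 → Occurs H (δ φ) := by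
    intro φ hφ
    have h1 : Occurs H ((LinearMap.id + rk1 u φ) ∘ₗ M ∘ₗ (LinearMap.id - rk1 u φ)) :=
      hM.conj hG (det_trv u φ hφ) fun c => by
        simp [trv_act, hφ]
    have h2 := h1.sub hM
    refine (show δ φ = _ from ?_) ▸ h2
    rw [hδdef]
    refine LinearMap.ext fun c => ?_
    simp only [LinearMap.sub_apply, LinearMap.comp_apply, LinearMap.add_apply, LinearMap.id_apply, map_sub]
    abel
  obtain ⟨φ, hφu, hφM⟩ : ∃ φ, u ⬝ᵥ φ = 0 ∧ M u ⬝ᵥ φ = 1 := by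
    obtain ⟨χ, h1, h2⟩ : ∃ χ, u ⬝ᵥ χ = 0 ∧ M u ⬝ᵥ χ ≠ 0 := by
      by_contra hall
      push Not at hall
      obtain ⟨s, hs⟩ := mem_span_of_perp hu hall
      exact hMu s hs
    exact ⟨(M u ⬝ᵥ χ)⁻¹ • χ, by rw [dotProduct_smul, h1, smul_zero],
      by rw [dotProduct_smul, smul_eq_mul, inv_mul_cancel₀ h2]⟩
  have hφu' : φ ⬝ᵥ u = 0 := by rw [dotProduct_comm, hφu]
  have hφM' : φ ⬝ᵥ M u = 1 := by rw [dotProduct_comm, hφM]
  have hφ0 : φ ≠ 0 := fun h => by rw [h, dotProduct_zero] at hφM; exact zero_ne_one hφM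
  by_cases ht : ∃ t : F, t ≠ 0 ∧ t ≠ 1
  · obtain ⟨t, ht0, ht1⟩ := ht
    refine ⟨φ, hφ0, hφu, ?_⟩
    have h1 := (hδ (t • φ) (by rw [smul_dotProduct, hφu', smul_zero])).sub ((hδ φ hφu').smul t)
    have h2 := h1.smul (t - t * t)⁻¹
    refine (show rk1 u φ = _ from ?_) ▸ h2
    refine LinearMap.ext fun c => ?_
    have hne : t - t * t ≠ 0 := by
      rw [show t - t * t = t * (1 - t) by ring]
      exact mul_ne_zero ht0 (sub_ne_zero.2 (Ne.symm ht1))
    apply smul_right_injective _ hne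
    simp only [LinearMap.smul_apply, smul_inv_smul₀ hne]
    simp [hδdef, hφM', smul_smul]
    module
  · have ha3 : 3 ≤ a := by
      by_contra h
      exact ht (hq (by omega))
    obtain ⟨φ', hφ', hz⟩ := exists_dot_zero (F := F) {u, M u} (lt_of_le_of_lt Finset.card_le_two (by omega))
    have h1 : φ' ⬝ᵥ u = 0 := by rw [dotProduct_comm]; exact hz u (by simp)
    have h2 : φ' ⬝ᵥ M u = 0 := by rw [dotProduct_comm]; exact hz _ (by simp)
    refine ⟨φ', hφ', hz u (by simp), ?_⟩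
    have h3 := (((hδ (φ + φ') (by rw [add_dotProduct, hφu', h1, add_zero])).sub (hδ φ hφu')).sub (hδ φ' h1)).smul
      (-1)
    refine (show rk1 u φ' = _ from ?_) ▸ h3
    refine LinearMap.ext fun c => ?_
    simp [hδdef, hφM', h2, add_smul]
    module

theorem inH_el_gen (ha : 2 ≤ a) (hb : 3 ≤ b) (hq : a = 2 → ∃ t : F, t ≠ 0 ∧ t ≠ 1) (hN : HasN H)
    (p q : Fin a × Fin b) (h1 : p.1 ≠ q.1) (h2 : p.2 ≠ q.2) (t : F) : InH H (el p q t) := by
  classical
  obtain ⟨w, N, hw, hmem, hkill, hnot⟩ := hN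
  obtain ⟨v, hv⟩ : ∃ v, ∀ s : F, N ∘ₗ pureL v ≠ s • LinearMap.id := by
    by_contra hall
    push Not at hall
    choose s hs using hall
    have hlin : ∀ v c, N (vecMulVec c v) = s v • c := fun v c => LinearMap.congr_fun (hs v) c
    refine hnot ⟨fun j => s (Pi.single j 1), fun X => ?_⟩
    conv_lhs => rw [rows_sum X, map_sum]
    funext i
    rw [Finset.sum_apply, Finset.sum_eq_single i, hlin]
    · rw [Pi.smul_apply, Pi.single_eq_same, smul_eq_mul, mul_one]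
      have hX : s (X i) = ∑ j, X i j * s (Pi.single j 1) := by
        have h0 : ∀ v, s v = N (vecMulVec (Pi.single i 1) v) i := fun v => by
          rw [hlin, Pi.smul_apply, Pi.single_eq_same, smul_eq_mul, mul_one]
        rw [h0]
        have hsum : ∀ (c : Fin a → F) (f : Fin b → Fin b → F),
            vecMulVec c (∑ j, f j) = ∑ j, vecMulVec c (f j) := fun c f => by
          ext r o
          simp [vecMulVec_apply, Matrix.sum_apply, Finset.mul_sum]
        conv_lhs => rw [pi_eq_sum_univ' (X i), hsum, map_sum, Finset.sum_apply]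
        refine Finset.sum_congr rfl fun j _ => ?_
        rw [vecMulVec_smul, map_smul, Pi.smul_apply, ← h0, smul_eq_mul]
      rw [hX]; rfl
    · intro k _ hk
      rw [hlin, Pi.smul_apply, Pi.single_eq_of_ne' hk, smul_zero]
    · simp
  obtain ⟨χ, hχ, hχ0⟩ := exists_dot_zero (F := F) {w, v} (lt_of_le_of_lt Finset.card_le_two (by omega))
  have hwχ : w ⬝ᵥ χ = 0 := hχ0 w (by simp)
  have hvχ : v ⬝ᵥ χ = 0 := hχ0 v (by simp)
  obtain ⟨g, hg, hgx⟩ := inH_trW hG v χ hvχ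
  have hgs : ∀ X, g.symm X = X - vecMulVec (X *ᵥ χ) v := fun X => g.injective (by
    rw [g.apply_symm_apply, hgx, trW_apply, sub_mulVec, pure_ctr, hvχ, zero_smul, sub_zero, sub_add_cancel])
  have hmem' : InH H (pureL w ∘ₗ N ∘ₗ (LinearMap.id - trW v χ)) := (hmem.conj hg).congr fun X => by
    show g (vecMulVec (N (g.symm X)) w) = _
    rw [hgx, trW_apply, pure_ctr, hwχ, zero_smul, zero_vecMulVec, add_zero, hgs]
    rfl
  have hM0 : InH H (lineEl w χ (N ∘ₗ pureL v)) :=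
    (hmem.sub hmem' (fun X => by simp [hkill, sub_mulVec, pure_ctr, hwχ, trW_apply])
      (fun X => by simp [hkill])).congr fun X => by
      simp [lineEl_apply, trW_apply, sub_vecMulVec]
  have hM : Occurs H (N ∘ₗ pureL v) := occurs_of_one hG hb hw hχ hwχ hM0
  obtain ⟨u, hu, hMu⟩ : ∃ u, u ≠ 0 ∧ ∀ s : F, (N ∘ₗ pureL v) u ≠ s • u := by
    by_contra hall
    push Not at hall
    obtain ⟨α, hα⟩ := LinearMap.exists_eq_smul_id_of_forall_notLinearIndependent (f := N ∘ₗ pureL (a := a) v)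
      fun x hli => by
      have hx : x ≠ 0 := hli.ne_zero 0
      obtain ⟨s, hs⟩ := hall x hx
      exact (LinearIndependent.pair_iff' hx).1 hli s hs.symm
    exact hv α hα
  obtain ⟨φ, hφ, huφ, hK⟩ := exists_rk1 hG ha hq hM hu hMu
  have hall := occurs_rk1 hG ha hu hφ huφ hK (Pi.single p.1 1) (Pi.single q.1 1)
    (by rw [single_dotProduct, Pi.single_eq_of_ne h1, mul_zero])
  refine (hall (Pi.single p.2 1) (Pi.single q.2 t)
    (by rw [single_dotProduct, Pi.single_eq_of_ne h2, mul_zero])).congr fun X => ?_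
  rw [lineEl_apply, el_apply, rk1_apply, single_dotProduct, one_mul, smul_vecMulVec]
  congr 1
  · rw [Matrix.mulVec_single]
    simp [mul_comm]
  · rw [← Matrix.single_eq_single_vecMulVec_single]

theorem inH_el (ha : 2 ≤ a) (hb : 3 ≤ b) (hq : a = 2 → ∃ t : F, t ≠ 0 ∧ t ≠ 1) (hN : HasN H)
    (p q : Fin a × Fin b) (hpq : p ≠ q) (t : F) : InH H (el p q t) := by
  classical
  have comp : ∀ (p r q : Fin a × Fin b) (t : F), p ≠ r → r ≠ q → p ≠ q → InH H (el p r t) → InH H (el r q 1) →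
      InH H (el p q t) := fun p r q t h1 h2 h3 hA hB =>
    (hA.comm_mul hB (el_el_zero h1 t t) (el_el_zero h2 1 1) (el_el_zero h3 1 t)).congr fun X => by
      simp [el_apply, smul_smul]
  have hex : ∀ i : Fin a, ∃ k, k ≠ i := fun i => by
    haveI : Nontrivial (Fin a) := Fin.nontrivial_iff_two_le.2 ha
    exact exists_ne i
  have hrow : ∀ (p q : Fin a × Fin b) (t : F), p.1 = q.1 → p.2 ≠ q.2 → InH H (el p q t) := by
    intro p q t h1 h2
    obtain ⟨k, hk⟩ := hex p.1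
    obtain ⟨o, -, ho⟩ := Finset.exists_mem_notMem_of_card_lt_card
      (s := ({p.2, q.2} : Finset (Fin b))) (t := Finset.univ)
      (lt_of_le_of_lt Finset.card_le_two (by simp; omega))
    simp only [Finset.mem_insert, Finset.mem_singleton, not_or] at ho
    exact comp p (k, o) q t (fun e => hk (congrArg Prod.fst e).symm) (fun e => ho.2 (congrArg Prod.snd e))
      (fun e => h2 (congrArg Prod.snd e))
      (inH_el_gen hG ha hb hq hN p (k, o) (Ne.symm hk) (Ne.symm ho.1) t)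
      (inH_el_gen hG ha hb hq hN (k, o) q (h1 ▸ hk) ho.2 1)
  by_cases h1 : p.1 = q.1
  · exact hrow p q t h1 fun e => hpq (Prod.ext h1 e)
  by_cases h2 : p.2 = q.2
  · haveI : Nontrivial (Fin b) := Fin.nontrivial_iff_two_le.2 (by omega)
    obtain ⟨l, hl⟩ := exists_ne p.2
    exact comp p (p.1, l) q t (fun e => hl (congrArg Prod.snd e).symm) (fun e => h1 (by rw [← e])) hpq
      (hrow p (p.1, l) t rfl (Ne.symm hl))
      (inH_el_gen hG ha hb hq hN (p.1, l) q h1 (h2 ▸ hl) 1)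
  exact inH_el_gen hG ha hb hq hN p q h1 h2 t

end Gen

end Cfsg.Agent.TensorMax
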