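import Mathlib

/-!
Tools for overgroups of the special linear group over an extension field inside the
special linear group over the base field.
-/

set_option autoImplicit false

namespace Cfsg.Agent.ExtFieldMax

open Module Submodule

section InH

variable {F V : Type*} [Field F] [AddCommGroup V] [Module F V]

/-- Some member of `H` is `1 + D`. -/
def InH (H : Subgroup (V ≃ₗ[F] V)) (D : Module.End F V) : Prop :=
  ∃ e ∈ H, ∀ x, e x = x + D x

variable {H : Subgroup (V ≃ₗ[F] V)} {D D₁ D₂ : Module.End F V}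

theorem InH.congr (h : InH H D₁) (e : ∀ x, D₁ x = D₂ x) : InH H D₂ :=
  LinearMap.ext e ▸ h

theorem InH.mul (h₁ : InH H D₁) (h₂ : InH H D₂) : InH H (D₁ + D₂ + D₁ * D₂) := by
  obtain ⟨e₁, he₁, hx₁⟩ := h₁
  obtain ⟨e₂, he₂, hx₂⟩ := h₂
  refine ⟨e₁ * e₂, H.mul_mem he₁ he₂, fun x => ?_⟩
  show e₁ (e₂ x) = _
  simp [hx₁, hx₂]
  abel

theorem InH.add (h₁ : InH H D₁) (h₂ : InH H D₂) (h0 : ∀ x, D₁ (D₂ x) = 0) : InH H (D₁ + D₂) :=
  (h₁.mul h₂).congr fun x => by simp [h0]

theorem InH.neg (h : InH H D) (h0 : ∀ x, D (D x) = 0) : InH H (-D) := by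
  obtain ⟨e, he, hx⟩ := h
  refine ⟨e⁻¹, H.inv_mem he, fun x => e.injective ?_⟩
  show e (e.symm x) = _
  rw [e.apply_symm_apply, hx]
  simp [h0]

theorem InH.zero : InH H (0 : Module.End F V) := ⟨1, H.one_mem, fun x => by simp⟩

theorem InH.sub (h₁ : InH H D₁) (h₂ : InH H D₂) (h22 : ∀ x, D₂ (D₂ x) = 0)
    (h12 : ∀ x, D₁ (D₂ x) = 0) : InH H (D₁ - D₂) :=
  (h₁.add (h₂.neg h22) fun x => by simp [h12]).congr fun x => by simp [sub_eq_add_neg]

theorem InH.conj (h : InH H D) {g : V ≃ₗ[F] V} (hg : g ∈ H) :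
    InH H (g.toLinearMap ∘ₗ D ∘ₗ g.symm.toLinearMap) := by
  obtain ⟨e, he, hx⟩ := h
  refine ⟨g * e * g⁻¹, H.mul_mem (H.mul_mem hg he) (H.inv_mem hg), fun x => ?_⟩
  show g (e (g.symm x)) = _
  simp [hx]

theorem InH.comm_mul (hA : InH H D₁) (hB : InH H D₂) (hAA : ∀ x, D₁ (D₁ x) = 0)
    (hBB : ∀ x, D₂ (D₂ x) = 0) (hBA : ∀ x, D₂ (D₁ x) = 0) : InH H (D₁ * D₂) :=
  (((hA.mul hB).mul (hA.neg hAA)).mul (hB.neg hBB)).congr fun x => by
    simp [hAA, hBB, hBA]
    abel

end InH

section Lin

variable {F V : Type*} [Field F] [AddCommGroup V] [Module F V]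

theorem exists_dual_one (W : Submodule F V) {y : V} (hy : y ∉ W) :
    ∃ Φ : V →ₗ[F] F, (∀ w ∈ W, Φ w = 0) ∧ Φ y = 1 := by
  obtain ⟨f, hf, hW⟩ := Submodule.exists_dual_map_eq_bot_of_notMem hy inferInstance
  refine ⟨(f y)⁻¹ • f, fun w hw => ?_, by simp [hf]⟩
  have h1 : f w ∈ W.map f := Submodule.mem_map_of_mem hw
  rw [hW, Submodule.mem_bot] at h1
  simp [h1]

theorem exists_coord [FiniteDimensional F V] (P : Submodule F V)
    (hP : finrank F P + 1 = finrank F V) {x : V} (hx : x ∉ P) :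
    ∃ θ : V →ₗ[F] F, θ x = 1 ∧ (∀ y ∈ P, θ y = 0) ∧ ∀ y, y - θ y • x ∈ P := by
  obtain ⟨θ, hθP, hθx⟩ := exists_dual_one P hx
  refine ⟨θ, hθx, hθP, fun y => ?_⟩
  have hker : P = θ.ker := by
    refine Submodule.eq_of_le_of_finrank_le (fun w hw => hθP w hw) ?_
    have hne : θ.range ≠ ⊥ := fun h => by
      have : θ x ∈ θ.range := ⟨x, rfl⟩
      rw [h, Submodule.mem_bot, hθx] at this
      exact one_ne_zero this
    have h1 := θ.finrank_range_add_finrank_ker
    have h2 := Submodule.one_le_finrank_iff.mpr hne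
    omega
  rw [hker, LinearMap.mem_ker, map_sub, map_smul, hθx]
  simp

end Lin

section Ext

variable (F K V : Type*) [Field F] [Field K] [Algebra F K] [AddCommGroup V] [Module F V] [Module K V]
  [IsScalarTower F K V]

/-- `c ↦ c • u` as a map over the base field. -/
def lineMap (u : V) : K →ₗ[F] V := (LinearMap.toSpanSingleton K V u).restrictScalars F

variable {F K V}

@[simp]
theorem lineMap_apply (u : V) (c : K) : lineMap F K V u c = c • u := rfl

theorem lineMap_injective {u : V} (hu : u ≠ 0) : Function.Injective (lineMap F K V u) :=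
  smul_left_injective K hu

theorem exists_dual_pair {y u : V} (h : ∀ c : K, u ≠ c • y) (hy : y ≠ 0) :
    ∃ Φ : V →ₗ[K] K, Φ y = 1 ∧ Φ u = 1 := by
  have hmem : y ∉ (K ∙ (u - y)) := by
    intro hm
    obtain ⟨c, hc⟩ := Submodule.mem_span_singleton.1 hm
    by_cases hc0 : c = 0
    · exact hy (by rw [← hc, hc0, zero_smul])
    · refine h (1 + c⁻¹) ?_
      have h1 : u - y = c⁻¹ • y := by
        conv_rhs => rw [← hc, smul_smul, inv_mul_cancel₀ hc0, one_smul]
      rw [add_smul, one_smul, ← h1]; abel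
  obtain ⟨Φ, hΦ, hΦy⟩ := exists_dual_one (F := K) _ hmem
  refine ⟨Φ, hΦy, ?_⟩
  have := hΦ _ (Submodule.mem_span_singleton_self (u - y))
  rw [map_sub, hΦy] at this
  exact sub_eq_zero.1 this

theorem dual_mul_surjective [FiniteDimensional F K] {g : K →ₗ[F] F} (hg : g ≠ 0) (f : K →ₗ[F] F) :
    ∃ d : K, ∀ k, f k = g (k * d) := by
  let T : K →ₗ[F] (K →ₗ[F] F) :=
    { toFun := fun d => g ∘ₗ LinearMap.mulRight F d
      map_add' := fun a b => by ext k; simp [mul_add]
      map_smul' := fun c a => by ext k; simp }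
  have hinj : Function.Injective T := by
    rw [injective_iff_map_eq_zero]
    intro d hd
    by_contra hd0
    apply hg
    ext k
    have := LinearMap.congr_fun hd (k * d⁻¹)
    simp only [T, LinearMap.coe_mk, AddHom.coe_mk, LinearMap.comp_apply, LinearMap.mulRight_apply,
      inv_mul_cancel_right₀ hd0, LinearMap.zero_apply] at this
    simpa using this
  have hd : finrank F K = finrank F (K →ₗ[F] F) := (Subspace.dual_finrank_eq).symm
  obtain ⟨d, hd'⟩ := (LinearMap.injective_iff_surjective_of_finrank_eq_finrank hd).1 hinj f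
  exact ⟨d, fun k => by rw [← hd']; rfl⟩

theorem dual_rep [FiniteDimensional F K] [FiniteDimensional K V] {g : K →ₗ[F] F} (hg : g ≠ 0)
    (f : V →ₗ[F] F) : ∃ Φ : V →ₗ[K] K, ∀ x, f x = g (Φ x) := by
  have h1 : ∀ x : V, ∃ d : K, ∀ k : K, f (k • x) = g (k * d) := fun x =>
    dual_mul_surjective hg (f ∘ₗ (LinearMap.toSpanSingleton K V x).restrictScalars F)
  choose d hd using h1
  have huniq : ∀ a b : K, (∀ k, g (k * a) = g (k * b)) → a = b := by
    intro a b h
    by_contra hne
    apply hg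
    ext k
    have := h (k * (a - b)⁻¹)
    have h2 : g (k * (a - b)⁻¹ * (a - b)) = 0 := by rw [mul_sub, map_sub, this, sub_self]
    rw [inv_mul_cancel_right₀ (sub_ne_zero.2 hne)] at h2
    simpa using h2
  let Φ : V →ₗ[K] K :=
    { toFun := d
      map_add' := fun x y => huniq _ _ fun k => by
        rw [← hd, smul_add, map_add, hd, hd, mul_add, map_add]
      map_smul' := fun c x => huniq _ _ fun k => by
        rw [← hd, smul_smul, hd, RingHom.id_apply, smul_eq_mul, mul_assoc] }
  exact ⟨Φ, fun x => by have := hd x 1; rwa [one_smul, one_mul] at this⟩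

end Ext

section Field

/-- A subring of a finite field containing the norm one elements of an extension is everything. -/
theorem subring_eq_top {F K : Type*} [Field F] [Finite F] [Field K] [Finite K] [Algebra F K]
    (hr : 2 ≤ finrank F K) (L : Subring K)
    (hL : ∀ a : K, Algebra.norm F a = 1 → a ∈ L) : ∀ a, a ∈ L := by
  classical
  cases nonempty_fintype F
  cases nonempty_fintype K
  set r := finrank F K with hrdef
  set q := Fintype.card F with hq
  have hq1 : 1 < q := Fintype.one_lt_card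
  have hK : Nat.card K = q ^ r := by
    rw [Module.natCard_eq_pow_finrank (K := F), Nat.card_eq_fintype_card]
  letI : Field L := Fintype.fieldOfDomain L
  have hLK : Nat.card K = Nat.card L ^ finrank L K := Module.natCard_eq_pow_finrank
  -- norm one elements
  let N : Kˣ →* Fˣ := Units.map (Algebra.norm F : K →* F)
  have hcount : Nat.card N.ker * Nat.card N.range = Nat.card Kˣ := by
    rw [← Subgroup.index_ker, Subgroup.card_mul_index]
  have hrange : Nat.card N.range ≤ q - 1 := by
    refine (Subgroup.card_le_card_group _).trans_eq ?_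
    rw [Nat.card_units, Nat.card_eq_fintype_card]
  have hker : Nat.card N.ker ≤ Nat.card L := by
    refine Nat.card_le_card_of_injective
      (fun a => (⟨((a : Kˣ) : K), hL _ ?_⟩ : L)) fun a b h => ?_
    · have := congrArg (fun x : Fˣ => (x : F)) (a.2 : N (a : Kˣ) = 1)
      simpa [N] using this
    · exact Subtype.ext (Units.ext (congrArg Subtype.val h))
  have hfin : 1 ≤ finrank L K := Module.finrank_pos
  by_contra hne
  push Not at hne
  obtain ⟨a, ha⟩ := hne
  have h2 : 2 ≤ finrank L K := by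
    by_contra h1
    have h1 : finrank L K = 1 := by omega
    obtain ⟨c, hc⟩ := exists_smul_eq_of_finrank_eq_one h1 (one_ne_zero (α := K)) a
    exact ha (by rw [← hc, Subring.smul_def, smul_eq_mul, mul_one]; exact c.2)
  have hLpos : 1 ≤ Nat.card L := Nat.card_pos
  have h3 : Nat.card L ^ 2 ≤ q ^ r := by
    rw [← hK, hLK]; exact Nat.pow_le_pow_right hLpos h2
  have h4 : q ^ r - 1 ≤ Nat.card L * (q - 1) := by
    have := Nat.mul_le_mul hker hrange
    rw [hcount, Nat.card_units, hK] at this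
    exact this
  have h5 : q ^ (r - 1) < Nat.card L := by
    by_contra h
    push Not at h
    have h6 := Nat.mul_le_mul_right (q - 1) h
    have h7 : q ^ r = q ^ (r - 1) * q := by rw [← pow_succ]; congr 1; omega
    have h8 : q ^ 1 ≤ q ^ (r - 1) := Nat.pow_le_pow_right (by omega) (by omega)
    have h9 : Nat.card L * (q - 1) ≤ q ^ (r - 1) * q - q ^ (r - 1) := by
      rw [← Nat.mul_sub_one]; exact h6
    rw [pow_one] at h8
    have h10 : q ^ (r - 1) * 2 ≤ q ^ (r - 1) * q := Nat.mul_le_mul_left _ hq1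
    omega
  have h6 : (q ^ (r - 1)) ^ 2 < Nat.card L ^ 2 := Nat.pow_lt_pow_left h5 (by norm_num)
  rw [← pow_mul] at h6
  have h7 := (h6.trans_le h3)
  have := (Nat.pow_lt_pow_iff_right hq1).1 h7
  omega

end Field

end Cfsg.Agent.ExtFieldMax
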